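import Groth.Agent.LefX.K177.GrLocFree
import Groth.Agent.Ega4B.LocTransfer
import Groth.Agent.QGor.K966.DualPres
import Groth.Agent.S2930
import Mathlib.RingTheory.RegularLocalRing.Polynomial

/-!
# Depth of the graded module and of `gr_J(A)`

`A` a quotient of a regular ring, `V = Spec A - V(𝔠)`, `G` a locally free formal system for `J` on `V`.  If
`depth gr_J(A)_p ≥ 2` for `p ⋖ q` with `p` off `V(𝔠)` and `q` in `V(𝔠)`, the cohomology of the graded pieces of
`G` is finite and eventually generated in degrees `0`, `1` (`good_of_depth`), and `G` is algebraizable if `A` is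
`J`-complete (`algebraize_of_depth`).
-/

set_option autoImplicit false
universe u

open CategoryTheory CategoryTheory.Limits AlgebraicGeometry Opposite TopologicalSpace

namespace K177.GrDepth

open Groth.Agent
open Groth.Agent.FormalB.HMod Groth.Agent.FormalB.ModPow Groth.Agent.FormalB.PrincTower
  Groth.Agent.Sga2lef.H100.GrSys Groth.Agent.Sga2lef.H100 Groth.Agent.FormalB.PuncTheta
  Groth.Agent.FormalB.PuncTheta2 Groth.Agent.FormalB Groth.Agent.Fga.GrFam K177.GrFin K177.GrSheaf
  K177.GrRees K177.GrAct K177.GrBasisAlg K177.GrLocFree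

section Alg

/-- Factoring a linear map through a surjection. -/
theorem exists_factor {S : Type*} [CommRing S] {P Q R : Type*} [AddCommGroup P] [Module S P]
    [AddCommGroup Q] [Module S Q] [AddCommGroup R] [Module S R] (π : P →ₗ[S] Q)
    (hπ : Function.Surjective π) (f : P →ₗ[S] R) (h : LinearMap.ker π ≤ LinearMap.ker f) :
    ∃ g : Q →ₗ[S] R, ∀ x, g (π x) = f x := by
  refine ⟨((LinearMap.ker π).liftQ f h).comp (π.quotKerEquivOfSurjective hπ).symm.toLinearMap, fun x => ?_⟩
  have : (π.quotKerEquivOfSurjective hπ).symm (π x) = Submodule.Quotient.mk x := by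
    rw [LinearEquiv.symm_apply_eq]
    rfl
  change (LinearMap.ker π).liftQ f h ((π.quotKerEquivOfSurjective hπ).symm (π x)) = _
  rw [this]
  rfl

theorem depth_prime_congr {S : Type u} [CommRing S] (M : Type u) [AddCommGroup M] [Module S M]
    {P Q : Ideal S} [P.IsPrime] [Q.IsPrime] (h : P = Q) :
    LocCoh.depth (Localization.AtPrime P) (LocalizedModule P.primeCompl M) =
      LocCoh.depth (Localization.AtPrime Q) (LocalizedModule Q.primeCompl M) := by
  subst h; rfl

/-- Depth at a prime of modules related by a map which is an isomorphism there. -/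
theorem depth_eq_of_map {S : Type u} [CommRing S] {M M' : Type u} [AddCommGroup M] [Module S M]
    [AddCommGroup M'] [Module S M'] (g : M →ₗ[S] M') (P : Ideal S) [P.IsPrime]
    (H1 : ∀ m' : M', ∃ s : S, s ∉ P ∧ ∃ m : M, g m = s • m')
    (H3 : ∀ m : M, g m = 0 → ∃ s : S, s ∉ P ∧ s • m = 0) :
    LocCoh.depth (Localization.AtPrime P) (LocalizedModule P.primeCompl M') =
      LocCoh.depth (Localization.AtPrime P) (LocalizedModule P.primeCompl M) := by
  have h := Groth.Agent.Ega4B.LocTransfer.depth_eq (R := S) (A := S) g P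
    (fun a => ⟨1, a, fun h => P.ne_top_iff_one.1 (Ideal.IsPrime.ne_top ‹_›) h, by simp⟩) H1 H3
  exact h.trans (depth_prime_congr M (Ideal.comap_id P))

theorem depth_localized_eq_top {S : Type u} [CommRing S] (M : Type u) [AddCommGroup M] [Module S M]
    (P : Ideal S) [P.IsPrime] (q : S) (hq : q ∉ P) (h : ∀ m : M, q • m = 0) :
    LocCoh.depth (Localization.AtPrime P) (LocalizedModule P.primeCompl M) = ⊤ := by
  have : Subsingleton (LocalizedModule P.primeCompl M) := by
    refine ⟨fun x y => ?_⟩
    have h0 : ∀ x : LocalizedModule P.primeCompl M, x = 0 := by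
      intro x
      induction x using LocalizedModule.induction_on with
      | _ m s =>
        rw [← LocalizedModule.zero_mk 1, LocalizedModule.mk_eq]
        exact ⟨⟨q, hq⟩, by simp only [smul_zero, one_smul]; exact h m⟩
    rw [h0 x, h0 y]
  exact Groth.Agent.Localalg.Depth.idealDepth_eq_top_of_subsingleton _ _

/-- A module over `S` which is locally at `P` a power of the quotient ring `B` of `S`. -/
theorem depth_ge {S B : Type u} [CommRing S] [CommRing B] [IsNoetherianRing B] [Algebra S B]
    (hs : Function.Surjective (algebraMap S B)) {M : Type u} [AddCommGroup M] [Module S M] (P' : Ideal B)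
    [P'.IsPrime] {k : ℕ} (g : (Fin k → B) →ₗ[S] M)
    (H1 : ∀ m' : M, ∃ s : S, s ∉ P'.comap (algebraMap S B) ∧ ∃ m, g m = s • m')
    (H3 : ∀ m, g m = 0 → ∃ s : S, s ∉ P'.comap (algebraMap S B) ∧ s • m = 0) :
    LocCoh.depth (Localization.AtPrime P') (LocalizedModule P'.primeCompl B) ≤
      LocCoh.depth (Localization.AtPrime (P'.comap (algebraMap S B)))
        (LocalizedModule (P'.comap (algebraMap S B)).primeCompl M) := by
  rw [depth_eq_of_map g _ H1 H3,
    ← Groth.Agent.Ega4B.LocTransfer.depth_eq_of_surjective (R := S) (A := B) (M := Fin k → B) hs P']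
  exact K966.DualPres.le_depth_localized_pi P' k

/-- covers in the spectrum of a quotient -/
theorem covBy_of_comap {S B : Type u} [CommRing S] [CommRing B] (f : S →+* B)
    (hs : Function.Surjective f) {P' Q' : PrimeSpectrum B}
    (h : PrimeSpectrum.comap f P' ⋖ PrimeSpectrum.comap f Q') : P' ⋖ Q' := by
  have hle : ∀ x y : PrimeSpectrum B, PrimeSpectrum.comap f x ≤ PrimeSpectrum.comap f y ↔ x ≤ y := by
    intro x y
    change x.asIdeal.comap f ≤ y.asIdeal.comap f ↔ x.asIdeal ≤ y.asIdeal
    exact Ideal.comap_le_comap_iff_of_surjective f hs _ _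
  have hlt : ∀ x y : PrimeSpectrum B, PrimeSpectrum.comap f x < PrimeSpectrum.comap f y ↔ x < y := by
    intro x y
    rw [lt_iff_le_not_ge, lt_iff_le_not_ge, hle, hle]
  exact ⟨(hlt _ _).1 h.1, fun x h1 h2 => h.2 ((hlt _ _).2 h1) ((hlt _ _).2 h2)⟩

end Alg

section Main

/-- the hypothesis on the depth -/
def DepthHyp (B : Type u) [CommRing B] (I : Ideal B) : Prop :=
  ∀ p q : PrimeSpectrum B, ¬ I ≤ p.asIdeal → I ≤ q.asIdeal → p ⋖ q →
    (2 : ℕ∞) ≤ LocCoh.depth (Localization.AtPrime p.asIdeal) (LocalizedModule p.asIdeal.primeCompl B)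

/-- the depth hypothesis from finiteness of local cohomology -/
theorem depthHyp_of_finite (R : Type u) [CommRing R] [IsRegularRing R] (B : Type u) [CommRing B]
    [IsNoetherianRing B] (π : R →+* B) (hπ : Function.Surjective π) (I : Ideal B)
    (h : ∀ i : ℕ, i ≤ 2 → Module.Finite B (LocCoh.H I i B)) : DepthHyp B I :=
  (Groth.Agent.S2930.result R B π hπ I B 2).1 h

variable {A : Type u} [CommRing A] [IsNoetherianRing A] {J 𝔠 : Ideal A}
  {G : ℕᵒᵖ ⥤ (↑(LocCoh.puncturedOpen A 𝔠) : Scheme.{u}).Modules}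
  (hG : IsFormal J G) (hcoh : ∀ n : ℕ, Coh.IsCoh (G.obj (op n)))
  (hfree : ∀ n : ℕ, Formal2.IsFinLocFreeMod J (n + 1) (G.obj (op n)))
  {r : ℕ} (a : Fin r → J) (ha : Ideal.span (Set.range fun i => (a i : A)) = J)
  (N : Submodule A ((Gam (LocCoh.puncturedOpen A 𝔠)).obj (G.obj (op 0)))) (hN : N.FG)
  (hN' : IsTorsOn (LocCoh.puncturedOpen A 𝔠)
    (((Gam (LocCoh.puncturedOpen A 𝔠)).obj (G.obj (op 0)) : Type u) ⧸ N))
  {B : Type u} [CommRing B] [IsNoetherianRing B] (f : MvPolynomial (Fin r) A →+* B)
  (hsurj : Function.Surjective f) (hf : ∀ p, f p = 0 ↔ ∀ n, ev a n p ∈ J ^ (n + 1))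

omit [IsNoetherianRing B] in
include hf in
theorem ker_smul_tot (q : MvPolynomial (Fin r) A) (hq : f q = 0)
    (w : (famN (LocCoh.puncturedOpen A 𝔠) hG a N).Tot) : q • w = 0 := by
  have hw : w ∈ Submodule.span (MvPolynomial (Fin r) A)
      (Set.range (o0 (LocCoh.puncturedOpen A 𝔠) hG a N)) := by
    rw [span_o0]; trivial
  have hq' : toGr a q = 0 := (toGr_eq_zero_iff a q).2 ((hf q).1 hq)
  induction hw using Submodule.span_induction with
  | mem w hw =>
    obtain ⟨m, rfl⟩ := hw
    exact ker_smul _ hG a N q hq' m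
  | zero => rw [smul_zero]
  | add x y _ _ hx hy => rw [smul_add, hx, hy, add_zero]
  | smul p x _ hx => rw [smul_comm, hx, smul_zero]

include hcoh hfree hN hN' hsurj hf in
/-- The depth of the graded module is at least the depth of the graded ring. -/
theorem depth_le (P : Ideal (MvPolynomial (Fin r) A)) [P.IsPrime]
    (hP : ¬ 𝔠.map (algebraMap A (MvPolynomial (Fin r) A)) ≤ P) :
    LocCoh.depth (Localization.AtPrime P)
      (LocalizedModule P.primeCompl (famN (LocCoh.puncturedOpen A 𝔠) hG a N).Tot) = ⊤ ∨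
    ∃ (P' : Ideal B) (_ : P'.IsPrime), P'.comap f = P ∧
      LocCoh.depth (Localization.AtPrime P') (LocalizedModule P'.primeCompl B) ≤
      LocCoh.depth (Localization.AtPrime P)
        (LocalizedModule P.primeCompl (famN (LocCoh.puncturedOpen A 𝔠) hG a N).Tot) := by
  classical
  by_cases hker : RingHom.ker f ≤ P
  · right
    have hprime : (P.map f).IsPrime := Ideal.map_isPrime_of_surjective hsurj hker
    have hcomap : (P.map f).comap f = P := by
      rw [Ideal.comap_map_of_surjective _ hsurj, sup_eq_left]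
      exact hker
    refine ⟨P.map f, hprime, hcomap, ?_⟩
    have hU : IsCompact (LocCoh.puncturedOpen A 𝔠 : Set (Spec (CommRingCat.of A))) :=
      Groth.Agent.FormalA.InjSec.isCompact_opens _
    letI : Algebra (MvPolynomial (Fin r) A) B := f.toAlgebra
    let x : Spec (CommRingCat.of A) :=
      (⟨P.comap (algebraMap A (MvPolynomial (Fin r) A)), inferInstance⟩ : PrimeSpectrum A)
    have hx : x ∈ LocCoh.puncturedOpen A 𝔠 := by
      intro h
      apply hP
      rw [Ideal.map_le_iff_le_comap]
      exact h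
    obtain ⟨k, b, h1, h3⟩ := exists_local (LocCoh.puncturedOpen A 𝔠) hG a N hU hcoh hfree hN hN' x hx
    let π : (Fin k → MvPolynomial (Fin r) A) →ₗ[MvPolynomial (Fin r) A] (Fin k → B) :=
      (Algebra.linearMap (MvPolynomial (Fin r) A) B).compLeft (Fin k)
    have hπ : Function.Surjective π := by
      intro y
      choose z hz using fun i => hsurj (y i)
      exact ⟨z, funext hz⟩
    let Θ : (Fin k → MvPolynomial (Fin r) A) →ₗ[MvPolynomial (Fin r) A]
        (famN (LocCoh.puncturedOpen A 𝔠) hG a N).Tot :=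
      Fintype.linearCombination (MvPolynomial (Fin r) A)
        (fun i => o0 (LocCoh.puncturedOpen A 𝔠) hG a N (b i))
    have hΘ : ∀ v, Θ v = ∑ i, v i • o0 (LocCoh.puncturedOpen A 𝔠) hG a N (b i) := fun v =>
      Fintype.linearCombination_apply _ _ _
    have hle : LinearMap.ker π ≤ LinearMap.ker Θ := by
      intro v hv
      rw [LinearMap.mem_ker] at hv ⊢
      rw [hΘ]
      refine Finset.sum_eq_zero fun i _ => ?_
      exact ker_smul_tot hG a N f hf (v i) (congrFun hv i) _
    obtain ⟨g, hg⟩ := exists_factor π hπ Θ hle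
    have hC : ∀ s ∈ (pr x).primeCompl, (MvPolynomial.C s : MvPolynomial (Fin r) A) ∉
        (P.map f).comap (algebraMap (MvPolynomial (Fin r) A) B) := by
      intro s hs h
      apply hs
      have h5 : (MvPolynomial.C s : MvPolynomial (Fin r) A) ∈ (P.map f).comap f := h
      rw [hcomap] at h5
      exact h5
    have h5 := depth_ge (S := MvPolynomial (Fin r) A) (B := B) hsurj (P.map f) g
      (fun w => by
        obtain ⟨s, hs, v, hv⟩ := h1 w
        exact ⟨MvPolynomial.C s, hC s hs, π v, by rw [hg, hΘ, hv]⟩)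
      (fun y hy => by
        obtain ⟨v, rfl⟩ := hπ y
        rw [hg, hΘ] at hy
        obtain ⟨s, hs, hsv⟩ := h3 v hy
        refine ⟨MvPolynomial.C s, hC s hs, ?_⟩
        rw [← map_smul]
        exact funext fun i => (hf _).2 ((toGr_eq_zero_iff a _).1 (hsv i)))
    refine h5.trans (le_of_eq ?_)
    exact depth_prime_congr _ hcomap
  · left
    obtain ⟨q, hq, hqP⟩ := SetLike.not_le_iff_exists.1 hker
    exact depth_localized_eq_top _ P q hqP (ker_smul_tot hG a N f hf q hq)

include hcoh hfree ha hsurj hf in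
/-- **Finiteness and eventual generation of the cohomology of the graded pieces.** -/
theorem good_of_depth' (R : Type u) [CommRing R] [IsRegularRing R] (π : R →+* A)
    (hπ : Function.Surjective π)
    (hD : DepthHyp B ((𝔠.map (algebraMap A (MvPolynomial (Fin r) A))).map f)) :
    Good (LocCoh.puncturedOpen A 𝔠) hG a 0 ∧ Good (LocCoh.puncturedOpen A 𝔠) hG a 1 := by
  have hU : IsCompact (LocCoh.puncturedOpen A 𝔠 : Set (Spec (CommRingCat.of A))) :=
    Groth.Agent.FormalA.InjSec.isCompact_opens _
  obtain ⟨N, hN, hN'⟩ := exists_fg_isTorsOn (LocCoh.puncturedOpen A 𝔠) hU (G.obj (op 0)) (hcoh 0)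
  have hfin := finite_tot_famN hG a N hN
  have hπ' : Function.Surjective (MvPolynomial.map (σ := Fin r) π) := MvPolynomial.map_surjective π hπ
  have hreg : IsRegularRing (MvPolynomial (Fin r) R) := inferInstance
  have key := (Groth.Agent.S2930.result (MvPolynomial (Fin r) R) (MvPolynomial (Fin r) A)
    (MvPolynomial.map π) hπ' (𝔠.map (algebraMap A (MvPolynomial (Fin r) A)))
    (famN (LocCoh.puncturedOpen A 𝔠) hG a N).Tot 2).2 (by
      intro p q hp hq hpq
      rcases depth_le hG hcoh hfree a N hN hN' f hsurj hf p.asIdeal hp with h | ⟨P', hP', hcomap, hle⟩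
      · rw [h]; exact le_top
      · refine le_trans ?_ hle
        have hkq : RingHom.ker f ≤ q.asIdeal := by
          refine le_trans ?_ hpq.le
          change _ ≤ p.asIdeal
          rw [← hcomap]
          exact Ideal.ker_le_comap _
        have hprime : (q.asIdeal.map f).IsPrime := Ideal.map_isPrime_of_surjective hsurj hkq
        have hcq : (q.asIdeal.map f).comap f = q.asIdeal := by
          rw [Ideal.comap_map_of_surjective _ hsurj, sup_eq_left]
          exact hkq
        refine hD ⟨P', hP'⟩ ⟨q.asIdeal.map f, hprime⟩ ?_ ?_ ?_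
        · intro h
          apply hp
          rw [Ideal.map_le_iff_le_comap] at h
          rw [← hcomap]
          exact h
        · exact Ideal.map_mono hq
        · refine covBy_of_comap f hsurj ?_
          have e1 : PrimeSpectrum.comap f ⟨P', hP'⟩ = p := PrimeSpectrum.ext hcomap
          have e2 : PrimeSpectrum.comap f ⟨q.asIdeal.map f, hprime⟩ = q := PrimeSpectrum.ext hcq
          rw [e1, e2]
          exact hpq)
  exact ⟨good_zero hG a hcoh ha N hN hN' (key 1 (by norm_num)),
    good_one hG a hcoh ha N hN' (key 2 le_rfl)⟩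

end Main

section Final

variable {A : Type u} [CommRing A] [IsNoetherianRing A] {J 𝔠 : Ideal A}

theorem isNoetherianRing_gr : IsNoetherianRing (Gr J) := by
  obtain ⟨s, hs⟩ := reesAlgebra.fg (IsNoetherian.noetherian J)
  have h1 : Algebra.FiniteType A (reesAlgebra J) :=
    (Subalgebra.fg_iff_finiteType _).1 ⟨s, hs⟩
  have h2 : IsNoetherianRing (reesAlgebra J) := Algebra.FiniteType.isNoetherianRing A _
  infer_instance

theorem map_map_gr {r : ℕ} (a : Fin r → J) :
    (𝔠.map (algebraMap A (MvPolynomial (Fin r) A))).map (toGr a).toRingHom =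
      𝔠.map (algebraMap A (Gr J)) := by
  rw [Ideal.map_map]
  congr 1
  exact (toGr a).comp_algebraMap

variable {G : ℕᵒᵖ ⥤ (↑(LocCoh.puncturedOpen A 𝔠) : Scheme.{u}).Modules}
  (hG : IsFormal J G) (hcoh : ∀ n : ℕ, Coh.IsCoh (G.obj (op n)))
  (hfree : ∀ n : ℕ, Formal2.IsFinLocFreeMod J (n + 1) (G.obj (op n)))

/-- **Finiteness and eventual generation of the cohomology of the graded pieces.** -/
theorem good_of_depth (hcoh : ∀ n : ℕ, Coh.IsCoh (G.obj (op n)))
    (hfree : ∀ n : ℕ, Formal2.IsFinLocFreeMod J (n + 1) (G.obj (op n)))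
    {r : ℕ} (a : Fin r → J) (ha : Ideal.span (Set.range fun i => (a i : A)) = J)
    (R : Type u) [CommRing R] [IsRegularRing R] (π : R →+* A)
    (hπ : Function.Surjective π)
    (hD : DepthHyp (reesAlgebra J ⧸ J.map (algebraMap A (reesAlgebra J)))
      (𝔠.map (algebraMap A (reesAlgebra J ⧸ J.map (algebraMap A (reesAlgebra J)))))) :
    Good (LocCoh.puncturedOpen A 𝔠) hG a 0 ∧ Good (LocCoh.puncturedOpen A 𝔠) hG a 1 := by
  have : IsNoetherianRing (Gr J) := isNoetherianRing_gr
  refine good_of_depth' hG hcoh hfree a ha (B := Gr J) (toGr a).toRingHom (toGr_surjective a ha)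
    (toGr_eq_zero_iff a) R π hπ ?_
  rw [map_map_gr]
  exact hD

include hG hcoh hfree in
/-- **Algebraization from the depth of `gr_J(A)`.** -/
theorem algebraize_of_depth (R : Type u) [CommRing R] [IsRegularRing R] (π : R →+* A)
    (hπ : Function.Surjective π) [IsPrecomplete J A]
    (hD : DepthHyp (reesAlgebra J ⧸ J.map (algebraMap A (reesAlgebra J)))
      (𝔠.map (algebraMap A (reesAlgebra J ⧸ J.map (algebraMap A (reesAlgebra J)))))) :
    ∃ F : (↑(LocCoh.puncturedOpen A 𝔠) : Scheme.{u}).Modules, Coh.IsCoh F ∧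
      Nonempty (Formal.completion J F ≅ G) := by
  obtain ⟨s, w, hw⟩ := Submodule.fg_iff_exists_fin_generating_family.1 (IsNoetherian.noetherian J)
  have hmem : ∀ i, w i ∈ J := fun i => hw ▸ Submodule.subset_span ⟨i, rfl⟩
  obtain ⟨h0, h1⟩ := good_of_depth hG hcoh hfree (fun i => ⟨w i, hmem i⟩) hw R π hπ hD
  exact algebraize_of_good hG _ hcoh hw h0 h1

end Final

end K177.GrDepth
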