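import Mathlib.RingTheory.ReesAlgebra
import Mathlib.Algebra.MvPolynomial.Eval

/-!
# The associated graded ring as a quotient of a polynomial ring

`a i` generators of `J`: `ρ : A[x_1, ..., x_r] → reesAlgebra J`, `x_i ↦ a_i T`; `ev n p` the coefficient in degree
`n` of `ρ p`; `p` is in the kernel of `A[x] → gr_J(A) = reesAlgebra J / J` iff `ev n p ∈ J^(n+1)` for all `n`.
-/

set_option autoImplicit false
universe u

open Polynomial

namespace K177.GrRees

variable {A : Type u} [CommRing A] {J : Ideal A} {r : ℕ} (a : Fin r → J)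

/-- The surjection onto the Rees algebra. -/
noncomputable def rho : MvPolynomial (Fin r) A →ₐ[A] reesAlgebra J :=
  MvPolynomial.aeval fun i => ⟨Polynomial.monomial 1 (a i : A), by
    intro n
    rw [Polynomial.coeff_monomial]
    split_ifs with h
    · subst h; rw [pow_one]; exact (a i).2
    · exact zero_mem _⟩

theorem rho_X (i : Fin r) : ((rho a (MvPolynomial.X i) : reesAlgebra J) : A[X]) =
    Polynomial.monomial 1 (a i : A) := by
  rw [rho, MvPolynomial.aeval_X]

/-- The coefficient of `ρ p` in degree `n`. -/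
noncomputable def ev (n : ℕ) (p : MvPolynomial (Fin r) A) : A := ((rho a p : reesAlgebra J) : A[X]).coeff n

theorem ev_mem (n : ℕ) (p : MvPolynomial (Fin r) A) : ev a n p ∈ J ^ n := (rho a p).2 n

theorem ev_add (n : ℕ) (p q : MvPolynomial (Fin r) A) : ev a n (p + q) = ev a n p + ev a n q := by
  rw [ev, ev, ev, map_add]
  exact Polynomial.coeff_add _ _ _

theorem ev_zero (n : ℕ) : ev a n 0 = 0 := by
  rw [ev, map_zero]; rfl

theorem rho_C (c : A) : ((rho a (MvPolynomial.C c) : reesAlgebra J) : A[X]) = Polynomial.C c := by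
  have : rho a (MvPolynomial.C c) = algebraMap A (reesAlgebra J) c := (rho a).commutes c
  rw [this]
  rfl

theorem ev_C_zero (c : A) : ev a 0 (MvPolynomial.C c) = c := by
  rw [ev, rho_C, Polynomial.coeff_C_zero]

theorem ev_C_succ (n : ℕ) (c : A) : ev a (n + 1) (MvPolynomial.C c) = 0 := by
  rw [ev, rho_C, Polynomial.coeff_C_succ]

theorem rho_mul_X (p : MvPolynomial (Fin r) A) (i : Fin r) :
    ((rho a (p * MvPolynomial.X i) : reesAlgebra J) : A[X]) = (rho a p : reesAlgebra J) *
      Polynomial.monomial 1 (a i : A) := by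
  rw [map_mul, ← rho_X]
  rfl

theorem ev_mul_X_succ (n : ℕ) (p : MvPolynomial (Fin r) A) (i : Fin r) :
    ev a (n + 1) (p * MvPolynomial.X i) = (a i : A) * ev a n p := by
  rw [ev, rho_mul_X, Polynomial.coeff_mul_monomial, mul_comm]
  rfl

theorem ev_mul_X_zero (p : MvPolynomial (Fin r) A) (i : Fin r) :
    ev a 0 (p * MvPolynomial.X i) = 0 := by
  rw [ev, rho_mul_X, Polynomial.mul_coeff_zero, Polynomial.coeff_monomial]
  simp

theorem ev_C_mul (n : ℕ) (c : A) (p : MvPolynomial (Fin r) A) :
    ev a n (MvPolynomial.C c * p) = c * ev a n p := by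
  rw [ev, map_mul]
  change (((rho a (MvPolynomial.C c) : reesAlgebra J) : A[X]) * ((rho a p : reesAlgebra J) : A[X])).coeff n = _
  rw [rho_C, Polynomial.coeff_C_mul]
  rfl

/-- an element of the Rees algebra -/
noncomputable def mono (n : ℕ) (c : A) (hc : c ∈ J ^ n) : reesAlgebra J :=
  ⟨Polynomial.monomial n c, by
    intro m
    rw [Polynomial.coeff_monomial]
    split_ifs with h
    · subst h; exact hc
    · exact zero_mem _⟩

theorem sum_mono (f : reesAlgebra J) : f = ∑ n ∈ (f : A[X]).support, mono n ((f : A[X]).coeff n) (f.2 n) := by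
  refine Subtype.ext ?_
  rw [AddSubmonoidClass.coe_finsetSum]
  exact (f : A[X]).as_sum_support

theorem mono_add (n : ℕ) (c d : A) (hc : c ∈ J ^ n) (hd : d ∈ J ^ n) :
    mono n (c + d) (add_mem hc hd) = mono n c hc + mono n d hd := by
  refine Subtype.ext ?_
  exact map_add (Polynomial.monomial n) c d

theorem mono_mul (n : ℕ) (x y : A) (hy : y ∈ J ^ n) :
    mono n (x * y) (Ideal.mul_mem_left _ _ hy) = algebraMap A (reesAlgebra J) x * mono n y hy := by
  refine Subtype.ext ?_
  change Polynomial.monomial n (x * y) = Polynomial.C x * Polynomial.monomial n y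
  rw [Polynomial.C_mul_monomial]

theorem mono_mem_map (n : ℕ) (c : A) (hc : c ∈ J ^ n) (hc' : c ∈ J ^ (n + 1)) :
    mono n c hc ∈ J.map (algebraMap A (reesAlgebra J)) := by
  have key : ∀ c ∈ J * J ^ n, ∃ hc : c ∈ J ^ n, mono n c hc ∈ J.map (algebraMap A (reesAlgebra J)) := by
    intro c hc'
    refine Submodule.mul_induction_on hc' (fun x hx y hy => ?_) fun x y hx hy => ?_
    · refine ⟨Ideal.mul_mem_left _ _ hy, ?_⟩
      rw [mono_mul n x y hy]
      exact Ideal.mul_mem_right _ _ (Ideal.mem_map_of_mem _ hx)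
    · obtain ⟨hx, hx'⟩ := hx
      obtain ⟨hy, hy'⟩ := hy
      refine ⟨add_mem hx hy, ?_⟩
      rw [mono_add n x y hx hy]
      exact add_mem hx' hy'
  exact (key c (by rw [← pow_succ']; exact hc')).2

/-- the ideal of elements whose degree `n` coefficient is in `J^(n+1)` -/
def big (J : Ideal A) : Ideal (reesAlgebra J) where
  carrier := {f | ∀ n, (f : A[X]).coeff n ∈ J ^ (n + 1)}
  zero_mem' := fun n => by
    change (0 : A[X]).coeff n ∈ _
    rw [Polynomial.coeff_zero]
    exact zero_mem _
  add_mem' := fun {f g} hf hg n => by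
    change ((f : A[X]) + (g : A[X])).coeff n ∈ _
    rw [Polynomial.coeff_add]
    exact add_mem (hf n) (hg n)
  smul_mem' := fun g f hf n => by
    change ((g : A[X]) * (f : A[X])).coeff n ∈ _
    rw [Polynomial.coeff_mul]
    refine Ideal.sum_mem _ fun x hx => ?_
    have h1 : x.1 + x.2 = n := Finset.mem_antidiagonal.1 hx
    have h2 : J ^ x.1 * J ^ (x.2 + 1) = J ^ (n + 1) := by
      rw [← pow_add, ← h1, add_assoc]
    rw [← h2]
    exact Ideal.mul_mem_mul (g.2 x.1) (hf x.2)

theorem map_eq_big : J.map (algebraMap A (reesAlgebra J)) = big J := by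
  apply le_antisymm
  · rw [Ideal.map_le_iff_le_comap]
    intro x hx n
    change (Polynomial.C x).coeff n ∈ _
    cases n with
    | zero => rw [Polynomial.coeff_C_zero, zero_add, pow_one]; exact hx
    | succ n => rw [Polynomial.coeff_C_succ]; exact zero_mem _
  · intro f hf
    rw [sum_mono f]
    exact Ideal.sum_mem _ fun n _ => mono_mem_map n _ _ (hf n)

theorem rho_surjective (ha : Ideal.span (Set.range fun i => (a i : A)) = J) :
    Function.Surjective (rho a) := by
  have h1 : reesAlgebra J ≤ ((reesAlgebra J).val.comp (rho a)).range := by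
    refine (adjoin_monomial_eq_reesAlgebra J).symm.le.trans (Algebra.adjoin_le ?_)
    rintro _ ⟨x, hx, rfl⟩
    rw [SetLike.mem_coe, ← ha] at hx
    induction hx using Submodule.span_induction with
    | mem x hx =>
      obtain ⟨i, rfl⟩ := hx
      exact ⟨MvPolynomial.X i, rho_X a i⟩
    | zero => rw [map_zero]; exact zero_mem _
    | add x y _ _ hx hy => rw [map_add]; exact add_mem hx hy
    | smul c x _ hx => rw [map_smul]; exact Subalgebra.smul_mem _ hx c
  intro f
  obtain ⟨p, hp⟩ := h1 f.2
  exact ⟨p, Subtype.ext hp⟩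

variable (J) in
/-- The associated graded ring. -/
abbrev Gr : Type u := reesAlgebra J ⧸ J.map (algebraMap A (reesAlgebra J))

/-- The surjection onto the associated graded ring. -/
noncomputable def toGr : MvPolynomial (Fin r) A →ₐ[A] Gr J :=
  (Ideal.Quotient.mkₐ A _).comp (rho a)

theorem toGr_surjective (ha : Ideal.span (Set.range fun i => (a i : A)) = J) :
    Function.Surjective (toGr a) :=
  (Ideal.Quotient.mkₐ_surjective A _).comp (rho_surjective a ha)

theorem toGr_eq_zero_iff (p : MvPolynomial (Fin r) A) : toGr a p = 0 ↔ ∀ n, ev a n p ∈ J ^ (n + 1) := by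
  change Ideal.Quotient.mk _ (rho a p) = 0 ↔ _
  rw [Ideal.Quotient.eq_zero_iff_mem, map_eq_big]
  rfl

end K177.GrRees
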