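import Groth.Agent.LefX.K177.GrFlat
import Mathlib.RingTheory.TensorProduct.MvPolynomial
import Mathlib.LinearAlgebra.TensorProduct.RightExactness
import Mathlib.RingTheory.Localization.AtPrime.Basic

/-!
# The base change of the Rees algebra and of the associated graded ring

`φ : A[x_1, ..., x_r] → B'` a surjection of `A`-algebras, `fT : B[x_1, ..., x_r] → B ⊗_A B'` the base change to an
`A`-algebra `B`; its kernel is generated by `ker φ`.
-/

set_option autoImplicit false
universe u

open TensorProduct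

namespace K177.GrTens

open K177.GrRees K177.GrFlat

section General

variable {A : Type u} (B : Type u) {B' : Type u} [CommRing A] [CommRing B] [CommRing B'] [Algebra A B]
  [Algebra A B'] {r : ℕ} (φ : MvPolynomial (Fin r) A →ₐ[A] B')

/-- The base change of `φ`. -/
noncomputable def fT : MvPolynomial (Fin r) B →+* B ⊗[A] B' :=
  (Algebra.TensorProduct.map (AlgHom.id A B) φ).toRingHom.comp
    (MvPolynomial.algebraTensorAlgEquiv (σ := Fin r) A B).symm.toRingEquiv.toRingHom

theorem fT_apply (p : MvPolynomial (Fin r) B) : fT B φ p =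
    Algebra.TensorProduct.map (AlgHom.id A B) φ
      ((MvPolynomial.algebraTensorAlgEquiv (σ := Fin r) A B).symm p) := rfl

theorem fT_surjective (hφ : Function.Surjective φ) : Function.Surjective (fT B φ) := by
  have h1 : Function.Surjective (Algebra.TensorProduct.map (AlgHom.id A B) φ) :=
    LinearMap.lTensor_surjective B hφ
  intro y
  obtain ⟨z, rfl⟩ := h1 y
  exact ⟨MvPolynomial.algebraTensorAlgEquiv (σ := Fin r) A B z, by
    rw [fT_apply, AlgEquiv.symm_apply_apply]⟩

theorem fT_C (b : B) : fT B φ (MvPolynomial.C b) = algebraMap B (B ⊗[A] B') b := by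
  rw [fT_apply]
  have h1 : (MvPolynomial.algebraTensorAlgEquiv (σ := Fin r) A B).symm (MvPolynomial.C b) =
      b ⊗ₜ 1 := (MvPolynomial.algebraTensorAlgEquiv (σ := Fin r) A B).symm.commutes b
  rw [h1]
  change (Algebra.TensorProduct.map (AlgHom.id A B) φ) (b ⊗ₜ 1) = b ⊗ₜ 1
  rw [Algebra.TensorProduct.map_tmul, map_one]
  rfl

theorem fT_comp_algebraMap : (fT B φ).comp (algebraMap B (MvPolynomial (Fin r) B)) =
    algebraMap B (B ⊗[A] B') := RingHom.ext (fT_C B φ)

theorem fT_eq_zero_iff (hφ : Function.Surjective φ) (p : MvPolynomial (Fin r) B) :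
    fT B φ p = 0 ↔ p ∈ (RingHom.ker φ).map (MvPolynomial.map (algebraMap A B)) := by
  let e := MvPolynomial.algebraTensorAlgEquiv (σ := Fin r) A B
  let e' : B ⊗[A] MvPolynomial (Fin r) A →+* MvPolynomial (Fin r) B := e.toRingEquiv.toRingHom
  have h1 : fT B φ p = 0 ↔ e.symm p ∈ RingHom.ker (Algebra.TensorProduct.map (AlgHom.id A B) φ) :=
    Iff.rfl
  rw [h1, Algebra.TensorProduct.lTensor_ker φ hφ]
  have h2 : (MvPolynomial.map (algebraMap A B) : MvPolynomial (Fin r) A →+* MvPolynomial (Fin r) B) =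
      e'.comp
        (Algebra.TensorProduct.includeRight : MvPolynomial (Fin r) A →ₐ[A] _).toRingHom := by
    refine RingHom.ext fun q => ?_
    change _ = e (1 ⊗ₜ q)
    rw [MvPolynomial.algebraTensorAlgEquiv_tmul, one_smul]
  rw [h2, ← Ideal.map_map]
  constructor
  · intro h
    have h3 := Ideal.mem_map_of_mem e' h
    have h4 : e' (e.symm p) = p := e.apply_symm_apply p
    rw [h4] at h3
    exact h3
  · intro h
    obtain ⟨q, hq, hqp⟩ := (Ideal.mem_map_iff_of_surjective e' e.surjective).1 h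
    have h4 : e.symm p = q := by
      rw [← hqp]
      exact e.symm_apply_apply q
    rw [h4]
    exact hq

end General

section Ker

variable {A : Type u} (B : Type u) {B' : Type u} [CommRing A] [CommRing B] [CommRing B'] [Algebra A B]
  [Algebra A B'] {J : Ideal A} {r : ℕ} (a : Fin r → J) (φ : MvPolynomial (Fin r) A →ₐ[A] B')
  (hφ : Function.Surjective φ) (𝔧 : ℕ → Ideal A) (hj : ∀ n, J * 𝔧 n ≤ 𝔧 (n + 1))
  (hk : ∀ p, φ p = 0 ↔ ∀ n, ev a n p ∈ 𝔧 n)

include hj hk in
theorem ker_eq : RingHom.ker φ = evIdeal a 𝔧 hj := by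
  ext p
  exact hk p

include hφ hj hk in
theorem ev_mem_of_fT (p : MvPolynomial (Fin r) B) (h : fT B φ p = 0) (n : ℕ) :
    ev (aB B a) n p ∈ (𝔧 n).map (algebraMap A B) := by
  rw [fT_eq_zero_iff B φ hφ, ker_eq a φ 𝔧 hj hk] at h
  exact map_evIdeal_le a 𝔧 hj h n

include hφ hj hk in
theorem exists_fT (P : Ideal B) [P.IsPrime] [Module.Flat A (Localization.AtPrime P)]
    (p : MvPolynomial (Fin r) B) (h : ∀ n, ev (aB B a) n p ∈ (𝔧 n).map (algebraMap A B)) :
    ∃ s ∈ P.primeCompl, fT B φ (MvPolynomial.C s * p) = 0 := by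
  obtain ⟨s, hs, h1⟩ := exists_mul_mem (A := A) a P.primeCompl (Localization.AtPrime P) 𝔧 hj p h
  refine ⟨s, hs, ?_⟩
  rw [fT_eq_zero_iff B φ hφ, ker_eq a φ 𝔧 hj hk]
  exact h1

end Ker

end K177.GrTens
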