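import Groth.Agent.LefX.K177.GrDepth2
import Groth.Agent.LefX.K177.GrTens

/-!
# Finiteness of the cohomology over an algebra which is flat off `V(𝔠)`

`A` Noetherian, `B` an `A`-algebra, flat at the primes off `V(𝔠)`, `V = Spec B - V(𝔠)`.  If the depth of
`B ⊗_A gr_J(A)`, resp. `B ⊗_A reesAlgebra J`, satisfies `DepthHyp` for `𝔠` then the cohomology on `V` of the graded
pieces of locally free formal systems, resp. of the powers of `J`, is finite and eventually generated.
-/

set_option autoImplicit false
set_option linter.unusedSectionVars false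
universe u

open CategoryTheory CategoryTheory.Limits AlgebraicGeometry Opposite TopologicalSpace TensorProduct

namespace K177.GrLocal

open Groth.Agent
open Groth.Agent.FormalB.HMod Groth.Agent.FormalB.ModPow Groth.Agent.FormalB.PrincTower
  Groth.Agent.Sga2lef.H100.GrSys Groth.Agent.Sga2lef.H100 Groth.Agent.FormalB.PuncTheta
  Groth.Agent.FormalB.PuncTheta2 Groth.Agent.FormalB Groth.Agent.Fga.GrFam K177.GrFin K177.GrSheaf
  K177.GrRees K177.GrLocFree K177.GrDepth K177.GrFlat K177.GrTens K177.GrDepth2

variable {A B : Type u} [CommRing A] [CommRing B] [Algebra A B] {J : Ideal A}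

/-- `B` is flat over `A` off `V(𝔠)`. -/
def FlatOff (A : Type u) {B : Type u} [CommRing A] [CommRing B] [Algebra A B] (𝔠 : Ideal B) : Prop :=
  ∀ (P : Ideal B) [P.IsPrime], ¬ 𝔠 ≤ P → Module.Flat A (Localization.AtPrime P)

theorem span_aB {r : ℕ} (a : Fin r → J) (ha : Ideal.span (Set.range fun i => (a i : A)) = J) :
    Ideal.span (Set.range fun i => (aB B a i : B)) = J.map (algebraMap A B) := by
  conv_rhs => rw [← ha, Ideal.map_span]
  congr 1
  rw [← Set.range_comp]
  rfl

theorem map_map_fT {B' : Type u} [CommRing B'] [Algebra A B'] {r : ℕ}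
    (φ : MvPolynomial (Fin r) A →ₐ[A] B') (𝔠 : Ideal B) :
    (𝔠.map (algebraMap B (MvPolynomial (Fin r) B))).map (fT B φ) =
      𝔠.map (algebraMap B (B ⊗[A] B')) := by
  rw [Ideal.map_map, fT_comp_algebraMap]

/-- Finite type algebras over quotients of regular rings are quotients of regular rings. -/
theorem exists_regular [Algebra.FiniteType A B] (R : Type u) [CommRing R] [IsRegularRing R] (π : R →+* A)
    (hπ : Function.Surjective π) :
    ∃ (R' : Type u) (_ : CommRing R') (_ : IsRegularRing R') (π' : R' →+* B), Function.Surjective π' := by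
  obtain ⟨m, f, hf⟩ := Algebra.FiniteType.iff_quotient_mvPolynomial''.1 (inferInstance : Algebra.FiniteType A B)
  exact ⟨MvPolynomial (Fin m) R, inferInstance, inferInstance, f.toRingHom.comp (MvPolynomial.map π),
    hf.comp (MvPolynomial.map_surjective π hπ)⟩

theorem isNoetherianRing_tensor [IsNoetherianRing B] {B' : Type u} [CommRing B'] [Algebra A B']
    [Algebra.FiniteType A B'] : IsNoetherianRing (B ⊗[A] B') :=
  Algebra.FiniteType.isNoetherianRing B (B ⊗[A] B')

theorem finiteType_rees [IsNoetherianRing A] : Algebra.FiniteType A (reesAlgebra J) := by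
  obtain ⟨s, hs⟩ := reesAlgebra.fg (IsNoetherian.noetherian J)
  exact (Subalgebra.fg_iff_finiteType _).1 ⟨s, hs⟩

variable (J) in
/-- The associated graded ring, as a new type. -/
def GrR : Type u := Gr J

noncomputable instance : CommRing (GrR J) := inferInstanceAs (CommRing (Gr J))

noncomputable instance : Algebra A (GrR J) := inferInstanceAs (Algebra A (Gr J))

/-- the surjection onto the associated graded ring -/
noncomputable def toGrR {r : ℕ} (a : Fin r → J) : MvPolynomial (Fin r) A →ₐ[A] GrR J := toGr a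

theorem finiteType_gr [IsNoetherianRing A] : Algebra.FiniteType A (GrR J) := by
  have := finiteType_rees (J := J)
  have h : Algebra.FiniteType A (Gr J) :=
    Algebra.FiniteType.of_surjective (Ideal.Quotient.mkₐ A _) (Ideal.Quotient.mkₐ_surjective A _)
  exact h

variable [IsNoetherianRing A] [IsNoetherianRing B] {𝔠 : Ideal B} (hflat : FlatOff A 𝔠)

include hflat in
/-- The graded pieces of a locally free formal system. -/
theorem good {G : ℕᵒᵖ ⥤ (↑(LocCoh.puncturedOpen B 𝔠) : Scheme.{u}).Modules}
    (hG : IsFormal (J.map (algebraMap A B)) G) (hcoh : ∀ n : ℕ, Coh.IsCoh (G.obj (op n)))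
    (hfree : ∀ n : ℕ, Formal2.IsFinLocFreeMod (J.map (algebraMap A B)) (n + 1) (G.obj (op n)))
    {r : ℕ} (a : Fin r → J) (ha : Ideal.span (Set.range fun i => (a i : A)) = J)
    (R : Type u) [CommRing R] [IsRegularRing R] (π : R →+* B) (hπ : Function.Surjective π)
    (hD : DepthHyp (B ⊗[A] GrR J) (𝔠.map (algebraMap B (B ⊗[A] GrR J)))) :
    Good (LocCoh.puncturedOpen B 𝔠) hG (aB B a) 0 ∧ Good (LocCoh.puncturedOpen B 𝔠) hG (aB B a) 1 := by
  have := finiteType_gr (J := J)
  have : IsNoetherianRing (B ⊗[A] GrR J) := isNoetherianRing_tensor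
  have hj : ∀ n, J * J ^ (n + 1) ≤ J ^ (n + 1 + 1) := fun n => by rw [← pow_succ']
  refine good_of_depth2 (aB B a) (fT B (toGrR a)) (fT_surjective B (toGrR a) (toGr_surjective a ha))
    hG hcoh hfree (fun p hp n => ?_) (fun x hx p hp => ?_) (span_aB a ha) R π hπ ?_
  · have h1 := ev_mem_of_fT B a (toGrR a) (toGr_surjective a ha) (fun n => J ^ (n + 1)) hj
      (toGr_eq_zero_iff a) p hp n
    rw [Ideal.map_pow] at h1
    exact h1
  · have h2 := hflat (pr x) (fun h => hx h)
    exact exists_fT B a (toGrR a) (toGr_surjective a ha) (fun n => J ^ (n + 1)) hj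
      (toGr_eq_zero_iff a) (pr x) p (fun n => by
        rw [Ideal.map_pow]
        exact hp n)
  · rw [map_map_fT]
    exact hD

include hflat in
/-- The powers of `J`. -/
theorem pow {r : ℕ} (a : Fin r → J) (ha : Ideal.span (Set.range fun i => (a i : A)) = J)
    (R : Type u) [CommRing R] [IsRegularRing R] (π : R →+* B) (hπ : Function.Surjective π)
    (hD : DepthHyp (B ⊗[A] reesAlgebra J) (𝔠.map (algebraMap B (B ⊗[A] reesAlgebra J)))) (j : ℕ)
    (hj : j ≤ 1) :
    (∀ n, Module.Finite B (((punc 𝔠).T.T j).obj (ModuleCat.of B ↥(J.map (algebraMap A B) ^ n)))) ∧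
    ∃ N : ℕ, ∀ n, N ≤ n →
      (⊤ : Submodule B (((punc 𝔠).T.T j).obj (ModuleCat.of B ↥(J.map (algebraMap A B) ^ (n + 1))))) ≤
        ⨆ i, LinearMap.range (((punc 𝔠).T.T j).map (ModuleCat.ofHom (mulPow (aB B a i) n))).hom := by
  have := finiteType_rees (J := J)
  have : IsNoetherianRing (B ⊗[A] reesAlgebra J) := isNoetherianRing_tensor
  have hj' : ∀ n : ℕ, J * (⊥ : Ideal A) ≤ ⊥ := fun n => by rw [Ideal.mul_bot]
  have hk : ∀ p, rho a p = 0 ↔ ∀ n, ev a n p ∈ (⊥ : Ideal A) := by
    intro p
    constructor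
    · intro h n
      rw [ev, h]
      exact zero_mem _
    · intro h
      refine Subtype.ext (Polynomial.ext fun n => ?_)
      exact h n
  refine pow_of_depth (aB B a) (fT B (rho a)) (fT_surjective B (rho a) (rho_surjective a ha))
    (fun p hp n => ?_) (fun x hx p hp => ?_) (span_aB a ha) R π hπ ?_ j hj
  · have h1 := ev_mem_of_fT B a (rho a) (rho_surjective a ha) (fun _ => ⊥) hj' hk p hp n
    rw [Ideal.map_bot] at h1
    exact h1
  · have h2 := hflat (pr x) (fun h => hx h)
    exact exists_fT B a (rho a) (rho_surjective a ha) (fun _ => ⊥) hj' hk (pr x) p (fun n => by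
        rw [hp n]
        exact zero_mem _)
  · rw [map_map_fT]
    exact hD

end K177.GrLocal
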