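import Groth.Agent.LefX.K177.RpushLoc
import Groth.Agent.LefX.K177.GrLocal

/-!
# The depth hypothesis from coherence of the direct images after base change

`f : X → S` proper, `U ⊆ X` open such that the direct images `R^i g'_* O`, `i ≤ 1`, are coherent after any
locally Noetherian base change.  `Spec A → S`, `Spec B ⊆ X ×_S Spec A` open, `U ∩ Spec B = Spec B - V(𝔠)`, `B'` an
`A`-algebra of finite type.  Then `DepthHyp` holds for `B ⊗_A B'` and `𝔠`.
-/

set_option autoImplicit false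
universe u

open CategoryTheory CategoryTheory.Limits AlgebraicGeometry Opposite TopologicalSpace TensorProduct

namespace K177.BaseCh

open Groth.Agent K177.GrDepth K177.GrLocal

theorem preimage_puncturedOpen {B C : Type u} [CommRing B] [CommRing C] (φ : B →+* C) (𝔠 : Ideal B) :
    Spec.map (CommRingCat.ofHom φ) ⁻¹ᵁ LocCoh.puncturedOpen B 𝔠 =
      LocCoh.puncturedOpen C (𝔠.map φ) := by
  ext x
  change ¬ (𝔠 ≤ (PrimeSpectrum.comap φ x).asIdeal) ↔ ¬ (𝔠.map φ ≤ x.asIdeal)
  exact not_congr Ideal.map_le_iff_le_comap.symm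

variable {X S : Scheme.{u}} (f : X ⟶ S) (U : X.Opens) {A B : Type u} [CommRing A] [CommRing B]
  [Algebra A B] (b : Spec (CommRingCat.of A) ⟶ S)
  (e : Spec (CommRingCat.of B) ⟶ pullback f b) [IsOpenImmersion e]
  (he : e ≫ pullback.snd f b = Spec.map (CommRingCat.ofHom (algebraMap A B)))

include he in
/-- `Spec (B ⊗ B')` is open in the base change. -/
theorem exists_open (B' : Type u) [CommRing B'] [Algebra A B'] :
    ∃ i : Spec (CommRingCat.of (B ⊗[A] B')) ⟶
        pullback f (Spec.map (CommRingCat.ofHom (algebraMap A B')) ≫ b),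
      IsOpenImmersion i ∧ i ≫ pullback.fst f _ =
        Spec.map (CommRingCat.ofHom (algebraMap B (B ⊗[A] B'))) ≫ e ≫ pullback.fst f b := by
  let c : Spec (CommRingCat.of B') ⟶ Spec (CommRingCat.of A) :=
    Spec.map (CommRingCat.ofHom (algebraMap A B'))
  let q : pullback f (c ≫ b) ⟶ pullback f b :=
    pullback.lift (pullback.fst _ _) (pullback.snd _ _ ≫ c) (by rw [Category.assoc, pullback.condition])
  have sq0 : IsPullback (pullback.fst f (c ≫ b)) (pullback.snd f (c ≫ b)) f (c ≫ b) :=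
    IsPullback.of_hasPullback _ _
  have hq1 : q ≫ pullback.fst f b = pullback.fst f (c ≫ b) := pullback.lift_fst _ _ _
  have hq2 : q ≫ pullback.snd f b = pullback.snd f (c ≫ b) ≫ c := pullback.lift_snd _ _ _
  have sq2 : IsPullback q (pullback.snd f (c ≫ b)) (pullback.snd f b) c := by
    refine IsPullback.of_right ?_ hq2 (IsPullback.of_hasPullback f b)
    rw [hq1]
    exact sq0
  have sqC : IsPullback (Spec.map (CommRingCat.ofHom (algebraMap B (B ⊗[A] B'))))
      (Spec.map (CommRingCat.ofHom (S := B ⊗[A] B') Algebra.TensorProduct.includeRight.toRingHom))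
      (Spec.map (CommRingCat.ofHom (algebraMap A B))) c :=
    isPullback_SpecMap_of_isPushout _ _ _ _ (CommRingCat.isPushout_tensorProduct A B B')
  let p1 := Spec.map (CommRingCat.ofHom (algebraMap B (B ⊗[A] B')))
  let p2 := Spec.map (CommRingCat.ofHom (S := B ⊗[A] B')
    (Algebra.TensorProduct.includeRight (R := A) (A := B) (B := B')).toRingHom)
  have hw : (p1 ≫ e) ≫ pullback.snd f b = p2 ≫ c := by
    rw [Category.assoc, he]
    exact sqC.w
  let i := sq2.lift (p1 ≫ e) p2 hw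
  have hi1 : i ≫ q = p1 ≫ e := sq2.lift_fst _ _ _
  have hi2 : i ≫ pullback.snd f (c ≫ b) = p2 := sq2.lift_snd _ _ _
  have sq3 : IsPullback i p1 q e := by
    refine IsPullback.of_right (h₁₂ := pullback.snd f (c ≫ b)) (h₂₂ := pullback.snd f b) (v₁₃ := c)
      ?_ hi1 sq2.flip
    rw [hi2, he]
    exact sqC.flip
  refine ⟨i, MorphismProperty.of_isPullback (P := @IsOpenImmersion) sq3.flip inferInstance, ?_⟩
  have : i ≫ pullback.fst f (c ≫ b) = (i ≫ q) ≫ pullback.fst f b := by rw [Category.assoc, hq1]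
  refine this.trans ?_
  rw [hi1, Category.assoc]

include he in
theorem finiteType_of_open [LocallyOfFiniteType f] : Algebra.FiniteType A B := by
  have h1 : LocallyOfFiniteType (e ≫ pullback.snd f b) := inferInstance
  rw [he] at h1
  have h2 := (HasRingHomProperty.Spec_iff (P := @LocallyOfFiniteType)).1 h1
  exact RingHom.finiteType_algebraMap.1 h2

variable (hcoh : ∀ (S' : Scheme.{u}) (b : S' ⟶ S) [IsLocallyNoetherian S']
  [HasInjectiveResolutions (↑((pullback.fst f b) ⁻¹ᵁ U) : Scheme.{u}).Modules], ∀ i : ℕ, i ≤ 1 →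
    Coh.IsCoh ((Coh.Rpush ((pullback.fst f b) ⁻¹ᵁ U).ι i).obj
      (Coh.structureModule (↑((pullback.fst f b) ⁻¹ᵁ U) : Scheme.{u}))))

include he hcoh in
/-- **The depth hypothesis.** -/
theorem depthHyp [LocallyOfFiniteType f] [IsNoetherianRing A] (R : Type u) [CommRing R] [IsRegularRing R]
    (π : R →+* A) (hπ : Function.Surjective π) (𝔠 : Ideal B)
    (h𝔠 : LocCoh.puncturedOpen B 𝔠 = e ⁻¹ᵁ (pullback.fst f b ⁻¹ᵁ U))
    (B' : Type u) [CommRing B'] [Algebra A B'] [Algebra.FiniteType A B'] :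
    DepthHyp (B ⊗[A] B') (𝔠.map (algebraMap B (B ⊗[A] B'))) := by
  have hBt := finiteType_of_open f b e he
  have hBn : IsNoetherianRing B := Algebra.FiniteType.isNoetherianRing A B
  have hB'n : IsNoetherianRing B' := Algebra.FiniteType.isNoetherianRing A B'
  have hCn : IsNoetherianRing (B ⊗[A] B') := isNoetherianRing_tensor
  obtain ⟨R₁, _, _, π₁, hπ₁⟩ := exists_regular (B := B) R π hπ
  obtain ⟨R₂, _, _, π₂, hπ₂⟩ := exists_regular (B := B ⊗[A] B') R₁ π₁ hπ₁
  obtain ⟨i, hi, hi'⟩ := exists_open f b e he B'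
  have hYn : IsLocallyNoetherian (pullback f (Spec.map (CommRingCat.ofHom (algebraMap A B')) ≫ b)) :=
    LocallyOfFiniteType.isLocallyNoetherian
      (pullback.snd f (Spec.map (CommRingCat.ofHom (algebraMap A B')) ≫ b))
  have hV : LocCoh.puncturedOpen (B ⊗[A] B') (𝔠.map (algebraMap B (B ⊗[A] B'))) =
      i ⁻¹ᵁ (pullback.fst f (Spec.map (CommRingCat.ofHom (algebraMap A B')) ≫ b) ⁻¹ᵁ U) := by
    rw [← Scheme.Hom.comp_preimage, hi', Scheme.Hom.comp_preimage, Scheme.Hom.comp_preimage, ← h𝔠,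
      preimage_puncturedOpen]
  have h1 : ∀ j : ℕ, j ≤ 1 → Module.Finite (B ⊗[A] B')
      (((K177.GrSheaf.punc (𝔠.map (algebraMap B (B ⊗[A] B')))).T.T j).obj
        (ModuleCat.of (B ⊗[A] B') (B ⊗[A] B'))) := fun j hj =>
    RpushLoc.finite_HH _ j (hcoh _ _ j hj) i _ hV
  exact depthHyp_of_finite R₂ (B ⊗[A] B') π₂ hπ₂ _
    (GrConv.finite_H _ (ModuleCat.of (B ⊗[A] B') (B ⊗[A] B')) inferInstance (h1 0 (by omega)) (h1 1 (by omega)))

end K177.BaseCh
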