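import Groth.Agent.LefX.K177.ETower
import Groth.Agent.LefX.K177.Algebraize

/-!
# Algebraization on an open of `Spec A`: eventual generation of the cohomology of the graded pieces

`G` a formal system for `J` on `U = Spec A - V(𝔞)`, `K n = ker (G_n → G_{n-1})`, `a i` generators of `J`.  If
`H^j(U, K n)`, `j = 0, 1`, are finite and `H^j(U, K (n+1)) = ∑ a_i H^j(U, K n)` for `n ≥ N`, then `G` is the
completion of a coherent module (`algebraize_of_eventual`).
-/

set_option autoImplicit false
universe u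

open CategoryTheory CategoryTheory.Limits AlgebraicGeometry Opposite TopologicalSpace

namespace K177.EAlgebraize

open Groth.Agent
open Groth.Agent.FormalB.HMod Groth.Agent.FormalB.ModPow Groth.Agent.FormalB.PrincTower
  Groth.Agent.Sga2lef.H100.GrSys Groth.Agent.Sga2lef.H100

section General

variable {A : Type u} [CommRing A] {X : Scheme.{u}} [X.Over (Spec (CommRingCat.of A))]
  {J : Ideal A} {G : ℕᵒᵖ ⥤ X.Modules}

/-- The tower of cohomology groups. -/
noncomputable def tower (hG : IsFormal J G) {ι : Type*} (a : ι → J) (N : ℕ)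
    (f0 : ∀ n, Module.Finite A ((HM A X 0).obj (K G n)))
    (f1 : ∀ n, Module.Finite A ((HM A X 1).obj (K G n)))
    (g0 : ∀ n, N ≤ n → (⊤ : Submodule A ((HM A X 0).obj (K G (n + 1)))) ≤
      ⨆ i, LinearMap.range ((HM A X 0).map (kmu hG (a i) n)).hom)
    (g1 : ∀ n, N ≤ n → (⊤ : Submodule A ((HM A X 1).obj (K G (n + 1)))) ≤
      ⨆ i, LinearMap.range ((HM A X 1).map (kmu hG (a i) n)).hom) :
    ETower.Tower A (fun i => (a i : A)) (fun n => HG A G 0 n)
      (fun n => (HM A X 1).obj (K G n)) N where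
  π n := ((HM A X 0).map (tr G n)).hom
  μ i n := ((HM A X 0).map (GrSys.mu hG (a i) n)).hom
  ν i n := ((HM A X 1).map (kmu hG (a i) n)).hom
  δ n := (dm A (io G (n + 1)) (tr G n) (io_tr n) (shortExact hG n) 0).hom
  kill i x := by
    rw [← map_smulMod, hG.killed 0 (a i) (by simp), Functor.map_zero]; rfl
  μπ i n x := by
    rw [← LinearMap.comp_apply, ← ModuleCat.hom_comp, ← Functor.map_comp, GrSys.tr_mu,
      ← map_smulMod]
  πμ i n x := by
    rw [← LinearMap.comp_apply, ← ModuleCat.hom_comp, ← Functor.map_comp, GrSys.mu_tr,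
      ← map_smulMod]
  μ_comm i j n x := by
    rw [← LinearMap.comp_apply, ← ModuleCat.hom_comp, ← Functor.map_comp, mu_comm,
      Functor.map_comp]
    rfl
  ν_comm i j n x := by
    rw [← LinearMap.comp_apply, ← ModuleCat.hom_comp, ← Functor.map_comp, kmu_comm,
      Functor.map_comp]
    rfl
  δμ i n x := by
    have := dm_naturality A _ _ _ _ _ _ (shortExact hG n) (shortExact hG (n + 1))
      (kmu hG (a i) (n + 1)) (GrSys.mu hG (a i) (n + 1)) (GrSys.mu hG (a i) n) (kmu_io hG (a i) (n + 1))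
      (mu_naturality hG (a i) n) 0
    exact congrArg (fun t => t.hom x) this.symm
  ex n x hx := exact_P A _ _ _ (shortExact hG n) 0 x hx
  finP n := by
    cases n with
    | zero => exact (f0 0).fg_top
    | succ n =>
      have h1 : ETower.Kp (P := fun n => HG A G 0 n) (fun n => ((HM A X 0).map (tr G n)).hom) (n + 1) =
          LinearMap.range ((HM A X 0).map (io G (n + 1))).hom := by
        apply le_antisymm
        · intro x hx
          obtain ⟨y, hy⟩ := exact_N A _ _ _ (shortExact hG n) 0 x hx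
          exact ⟨y, hy⟩
        · rintro _ ⟨y, rfl⟩
          have h4 := congrArg (fun t => ((HM A X 0).map t).hom y) (io_tr (G := G) n)
          simp only [Functor.map_comp, Functor.map_zero] at h4
          exact h4
      rw [h1]
      have := f0 (n + 1)
      exact Module.Finite.iff_fg.1 inferInstance
  finQ n := f1 n
  genP n hn := by
    intro x hx
    obtain ⟨y, hy⟩ := exact_N A _ _ _ (shortExact hG n) 0 x hx
    have h2 := g0 n hn (Submodule.mem_top (x := y))
    have h3 : (⨆ i, LinearMap.range ((HM A X 0).map (kmu hG (a i) n)).hom) ≤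
        (⨆ i, (ETower.Kp (P := fun n => HG A G 0 n)
          (fun n => ((HM A X 0).map (tr G n)).hom) n).map
          ((HM A X 0).map (GrSys.mu hG (a i) n)).hom).comap
          ((HM A X 0).map (io G (n + 1))).hom := by
      refine iSup_le fun i => ?_
      rintro _ ⟨z, rfl⟩
      refine Submodule.mem_iSup_of_mem i ⟨(HM A X 0).map (io G n) z, ?_, ?_⟩
      · cases n with
        | zero => trivial
        | succ n =>
          have h4 := congrArg (fun t => ((HM A X 0).map t).hom z) (io_tr (G := G) n)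
          simp only [Functor.map_comp, Functor.map_zero] at h4
          exact h4
      · have h4 := congrArg (fun t => ((HM A X 0).map t).hom z) (kmu_io hG (a i) n)
        simp only [Functor.map_comp] at h4
        exact h4.symm
    have h5 := h3 h2
    rw [← hy]
    exact h5
  genQ n hn := g1 n hn

end General

variable {A : Type u} [CommRing A]

theorem algebraize_of_eventual [IsNoetherianRing A] (J : Ideal A) [IsPrecomplete J A] (𝔞 : Ideal A)
    (G : ℕᵒᵖ ⥤ (↑(LocCoh.puncturedOpen A 𝔞) : Scheme.{u}).Modules) (hG : IsFormal J G)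
    (hcoh : ∀ n : ℕ, Coh.IsCoh (G.obj (op n)))
    {r : ℕ} (a : Fin r → J) (ha : Ideal.span (Set.range fun i => (a i : A)) = J) (N : ℕ)
    (f0 : ∀ n, Module.Finite A ((HM A (LocCoh.puncturedOpen A 𝔞 : Scheme.{u}) 0).obj (K G n)))
    (f1 : ∀ n, Module.Finite A ((HM A (LocCoh.puncturedOpen A 𝔞 : Scheme.{u}) 1).obj (K G n)))
    (g0 : ∀ n, N ≤ n → (⊤ : Submodule A ((HM A (LocCoh.puncturedOpen A 𝔞 : Scheme.{u}) 0).obj
      (K G (n + 1)))) ≤ ⨆ i, LinearMap.range
        ((HM A (LocCoh.puncturedOpen A 𝔞 : Scheme.{u}) 0).map (kmu hG (a i) n)).hom)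
    (g1 : ∀ n, N ≤ n → (⊤ : Submodule A ((HM A (LocCoh.puncturedOpen A 𝔞 : Scheme.{u}) 1).obj
      (K G (n + 1)))) ≤ ⨆ i, LinearMap.range
        ((HM A (LocCoh.puncturedOpen A 𝔞 : Scheme.{u}) 1).map (kmu hG (a i) n)).hom) :
    ∃ F : (↑(LocCoh.puncturedOpen A 𝔞) : Scheme.{u}).Modules, Coh.IsCoh F ∧
      Nonempty (Formal.completion J F ≅ G) := by
  have hU : IsCompact (LocCoh.puncturedOpen A 𝔞 : Set (Spec (CommRingCat.of A))) :=
    Groth.Agent.FormalA.InjSec.isCompact_opens _
  let T := tower hG a N f0 f1 g0 g1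
  have hprec : IsPrecomplete (Ideal.span (Set.range fun i => (a i : A))) A := by
    rw [ha]; infer_instance
  have hKcoh : ∀ n, Coh.IsCoh (K G n) := by
    intro n
    cases n with
    | zero => exact hcoh 0
    | succ n =>
      have : IsLocallyNoetherian (↑(LocCoh.puncturedOpen A 𝔞) : Scheme.{u}) := inferInstance
      exact Groth.Agent.FormalB.FormalLoc.isCoh_kernel (tr G n) (hcoh (n + 1)) (hcoh n).1
  obtain ⟨hfin, n₀, hn₀⟩ := T.finite_and_ker_le
  refine GrAlgebraize.algebraize_of_tower (LocCoh.puncturedOpen A 𝔞) J 𝔞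
    (Groth.Agent.S0822.not_le 𝔞) hU G hG
    (fun n => (hcoh n).1) T.M (fun x hx n => hx n) hfin ?_ ?_
  · intro n
    refine ⟨n₀ + n, by omega, fun x hx => ?_⟩
    have h2 := hn₀ (n + 1) x ((T.mem_F_succ (n₀ + n) x).2 hx)
    rw [ha] at h2
    exact h2
  · exact T.exists_pow_le 𝔞 (fun n x => Groth.Agent.S0822.torsion_of_coh 𝔞 _ (hKcoh n) x)

end K177.EAlgebraize
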