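import Groth.Agent.LefX.K177.ExtCrit
import Groth.Agent.S0004

/-!
# Algebraization of a formal system on an open of a proper scheme

`X` proper over `Spec A`, `A` complete for `J`, `U` open in `X`, `G` a formal system on `U` such that the direct
image of `G` on `X` satisfies the conditions of `ExtCrit`.  Then `G` is the completion of a coherent module.
-/

set_option autoImplicit false
set_option linter.unusedSectionVars false
universe u

open CategoryTheory CategoryTheory.Limits AlgebraicGeometry Opposite TopologicalSpace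

namespace K177.ExtAlg

open Groth.Agent Groth.Agent.FormalB Groth.Agent.FormalB.ModPow Groth.Agent.FormalB.ModPowAff
  Groth.Agent.FormalB.FormalLoc K177.ExtCrit

variable {A : Type u} [CommRing A] {X : Scheme.{u}} [X.Over (Spec (CommRingCat.of A))] (U : X.Opens)
  {J : Ideal A} (G : ℕᵒᵖ ⥤ (U : Scheme.{u}).Modules) (m : ℕ)

/-- the direct image -/
noncomputable abbrev EE : ℕᵒᵖ ⥤ X.Modules := G ⋙ Scheme.Modules.pushforward U.ι

/-- restriction to `U` -/
noncomputable abbrev rho : X.Modules ⥤ (U : Scheme.{u}).Modules := Scheme.Modules.restrictFunctor U.ι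

/-- the counit -/
noncomputable def cu (n : ℕ) : (rho U).obj ((EE U G).obj (op n)) ⟶ G.obj (op n) :=
  (Scheme.Modules.restrictAdjunction U.ι).counit.app (G.obj (op n))

instance (n : ℕ) : IsIso (cu U G n) := by
  unfold cu
  infer_instance

theorem cu_nat {n n' : ℕ} (h : n ≤ n') : (rho U).map ((EE U G).map (homOfLE h).op) ≫ cu U G n =
    cu U G n' ≫ G.map (homOfLE h).op :=
  (Scheme.Modules.restrictAdjunction U.ι).counit.naturality (G.map (homOfLE h).op)

variable {G} (hG : IsFormal J G)

include hG in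
theorem isIso_rho_ii (n : ℕ) : IsIso ((rho U).map (ii (EE U G) m n)) := by
  have h1 : Mono ((rho U).map (ii (EE U G) m n)) := inferInstance
  have h2 : Epi (G.map (homOfLE (Nat.le_add_right n m)).op) := (hG.isModPow _).epi
  have h3 : (rho U).map (trm (EE U G) m n) = cu U G (n + m) ≫
      G.map (homOfLE (Nat.le_add_right n m)).op ≫ inv (cu U G n) := by
    rw [← Category.assoc, ← cu_nat, Category.assoc, IsIso.hom_inv_id, Category.comp_id]
    rfl
  have h4 : Epi ((rho U).map (ip (EE U G) m n) ≫ (rho U).map (ii (EE U G) m n)) := by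
    rw [← Functor.map_comp, ip_ii, h3]
    infer_instance
  have h5 : Epi ((rho U).map (ii (EE U G) m n)) := epi_of_epi ((rho U).map (ip (EE U G) m n)) _
  exact isIso_of_mono_of_epi _

variable (G) in
/-- the map from the image to `G_k` -/
noncomputable def rk (k : ℕ) : (rho U).obj (Im (EE U G) m (m + k)) ⟶ G.obj (op k) :=
  (rho U).map (ii (EE U G) m (m + k)) ≫ cu U G (m + k) ≫ G.map (homOfLE (Nat.le_add_left k m)).op

include hG in
theorem isModPow_rk (k : ℕ) : IsModPow (J ^ (k + 1)) (rk U G m k) := by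
  have := isIso_rho_ii U m hG (m + k)
  exact ((hG.isModPow (Nat.le_add_left k m)).iso_comp (cu U G (m + k))).iso_comp _

theorem rk_succ (k : ℕ) : rk U G m (k + 1) ≫ G.map (homOfLE (Nat.le_succ k)).op =
    (rho U).map (vi (EE U G) m (m + k)) ≫ rk U G m k := by
  have h1 : G.map (homOfLE (Nat.le_add_left (k + 1) m)).op ≫ G.map (homOfLE (Nat.le_succ k)).op =
      G.map (homOfLE (Nat.le_succ (m + k))).op ≫ G.map (homOfLE (Nat.le_add_left k m)).op := by
    rw [← G.map_comp, ← G.map_comp]
    rfl
  have h2 : (rho U).map (vi (EE U G) m (m + k)) ≫ (rho U).map (ii (EE U G) m (m + k)) =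
      (rho U).map (ii (EE U G) m (m + k + 1)) ≫
        (rho U).map ((EE U G).map (homOfLE (Nat.le_succ (m + k))).op) := by
    rw [← Functor.map_comp, ← Functor.map_comp, vi_ii]
  have h3 := cu_nat U G (Nat.le_succ (m + k))
  unfold rk
  rw [Category.assoc, Category.assoc, ← Category.assoc ((rho U).map (vi (EE U G) m (m + k))), h2,
    Category.assoc]
  refine congrArg (fun t => (rho U).map (ii (EE U G) m (m + k + 1)) ≫ t) ?_
  rw [← Category.assoc ((rho U).map ((EE U G).map (homOfLE (Nat.le_succ (m + k))).op)), h3, Category.assoc]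
  exact congrArg (fun t => cu U G (m + (k + 1)) ≫ t) h1

theorem isModPow_rho {M N : X.Modules} {K : Ideal A} {p : M ⟶ N} (hp : IsModPow K p) :
    IsModPow K ((rho U).map p) := K573.Base.restrict_isModPow U.ι rfl hp

/-- the isomorphisms -/
theorem exists_sk (k : ℕ) (h : IsFormal J G) : ∃ s : (rho U).obj (Mo (EE U G) m J k) ≅ G.obj (op k),
    (rho U).map (pM (EE U G) m J k) ≫ s.hom = rk U G m k := by
  obtain ⟨e, he, -⟩ := (isModPow_rho U (isModPow_pM (E := EE U G) (m := m) (J := J) k)).exists_iso
    (isModPow_rk U m h k)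
  exact ⟨e, he⟩

/-- **Algebraization.** -/
theorem algebraize [IsNoetherianRing A] [IsAdicComplete J A] [IsProper (X ↘ Spec (CommRingCat.of A))]
    (hG : IsFormal J G) (hE : ∀ n, Coh.IsCoh ((EE U G).obj (op n)))
    (hP : ∀ x : X, ∃ W : X.Opens, x ∈ W ∧ IsAffineOpen W ∧ Pred J (EE U G) W m) :
    ∃ F : (U : Scheme.{u}).Modules, Coh.IsCoh F ∧ Nonempty (Formal.completion J F ≅ G) := by
  have h0 := isCohFormal_sysM hE hP
  obtain ⟨M, hM, ⟨e⟩⟩ := (Groth.Agent.S0004.result A J X).2 _ h0
  choose s hs using fun k => exists_sk U m k hG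
  refine ⟨(rho U).obj M, K573.Base.isCoh_restrict hM U, ⟨?_⟩⟩
  let en : ∀ n : ℕ, (Formal.completion J M).obj (op n) ⟶ Mo (EE U G) m J n := fun n => e.hom.app (op n)
  have hen : ∀ n, IsIso (en n) := fun n => inferInstanceAs (IsIso (e.hom.app (op n)))
  let qn : ∀ n : ℕ, M ⟶ Mo (EE U G) m J n := fun n => cπ J M n ≫ en n
  have hqn : ∀ n, IsModPow (J ^ (n + 1)) (qn n) := fun n => by
    have := hen n
    exact (isModPow_cπ J M n).comp_iso (en n)
  have hqn' : ∀ n, qn (n + 1) ≫ tM (EE U G) m J n = qn n := by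
    intro n
    have h1 : en (n + 1) ≫ tM (EE U G) m J n =
        (Formal.completion J M).map (homOfLE (Nat.le_succ n)).op ≫ en n := by
      have h2 := e.hom.naturality (homOfLE (Nat.le_succ n)).op
      rw [sysM_map] at h2
      exact h2.symm
    change (cπ J M (n + 1) ≫ en (n + 1)) ≫ tM (EE U G) m J n = cπ J M n ≫ en n
    rw [Category.assoc, h1, cπ_map_succ_assoc]
  let q : ∀ n : ℕ, (rho U).obj M ⟶ G.obj (op n) := fun n => (rho U).map (qn n) ≫ (s n).hom
  have hsucc : ∀ n, (s (n + 1)).hom ≫ G.map (homOfLE (Nat.le_succ n)).op =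
      (rho U).map (tM (EE U G) m J n) ≫ (s n).hom := by
    intro n
    have h1 := (isModPow_rho U (isModPow_pM (E := EE U G) (m := m) (J := J) (n + 1))).epi
    rw [← cancel_epi ((rho U).map (pM (EE U G) m J (n + 1)))]
    have h2 := rk_succ (G := G) U m n
    rw [← hs (n + 1), Category.assoc] at h2
    rw [h2, ← Category.assoc ((rho U).map (pM (EE U G) m J (n + 1))), ← Functor.map_comp, pM_tM,
      Functor.map_comp, Category.assoc, hs n]
  refine completionIso J q (fun n => ?_) (fun n => ?_)
  · exact (isModPow_rho U (hqn n)).comp_iso _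
  · change ((rho U).map (qn (n + 1)) ≫ (s (n + 1)).hom) ≫
      G.map (homOfLE (Nat.le_succ n)).op = (rho U).map (qn n) ≫ (s n).hom
    rw [Category.assoc, hsucc, ← Category.assoc, ← Functor.map_comp, hqn']

end K177.ExtAlg
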