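import Groth.Agent.LefX.K177.ETop
import Groth.Agent.FormalB.FormalLoc
import Groth.Agent.Algz.K573.Base

/-!
# A criterion for a system of coherent modules to come from a coherent formal module

`E` a system of coherent modules on a Noetherian scheme `X` over `Spec A`.  If on the members `W` of an affine cover
the sections far out in the system lift to the limit, and the topology of the limit is `J`-adic up to a shift
(`Pred`), then for some `m` the modules `im (E_{n+m} → E_n) / J^(..)` form a coherent formal module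
(`exists_formal`).
-/

set_option autoImplicit false
set_option linter.unusedSectionVars false
universe u

open CategoryTheory CategoryTheory.Limits AlgebraicGeometry Opposite TopologicalSpace

namespace K177.ExtCrit

open Groth.Agent Groth.Agent.FormalB Groth.Agent.FormalB.ModPow Groth.Agent.FormalB.ModPowAff
  Groth.Agent.FormalB.FormalLoc Groth.Agent.Sga2lef.H100.GrTower

variable {A : Type u} [CommRing A] {X : Scheme.{u}} [X.Over (Spec (CommRingCat.of A))]

section Pred

variable (J : Ideal A) (E : ℕᵒᵖ ⥤ X.Modules) (W : X.Opens)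

/-- the compatible families of sections -/
noncomputable abbrev LW : Submodule Γ(X, W) (∀ n, Γ(E.obj (op n), W)) :=
  TowerAlg.lim (fun n => Γ(E.obj (op n), W)) (secT E W)

/-- The local condition. -/
def Pred (m : ℕ) : Prop :=
  (∀ n, ∀ z ∈ comp (P := fun n => Γ(E.obj (op n), W)) (secT E W) (n + m), ∃ w ∈ LW E W, w n = z n) ∧
    ∀ k, ∀ x ∈ LW E W, (∀ j, j < m + k → x j = 0) → x ∈ (J.map (toΓ A X W)) ^ k • LW E W

theorem pred_mono {m m' : ℕ} (h : m ≤ m') (hm : Pred J E W m) : Pred J E W m' :=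
  ⟨fun n z hz => hm.1 n z (comp_mono (by omega) hz), fun k x hx h' => hm.2 k x hx fun j hj => h' j (by omega)⟩

theorem mem_LW {x : ∀ n, Γ(E.obj (op n), W)} (hx : x ∈ LW E W) {n k : ℕ} (h : n ≤ k) :
    (E.map (homOfLE h).op).app W (x k) = x n := by
  induction k, h using Nat.le_induction with
  | base => rw [map_homOfLE_self]; rfl
  | succ k hk ih =>
    rw [map_homOfLE_comp E hk (Nat.le_succ k), ← ih]
    exact congrArg ((E.map (homOfLE hk).op).app W) (hx k)

/-- the partial family given by one section -/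
theorem exists_fam (L : ℕ) (y : Γ(E.obj (op L), W)) :
    ∃ z ∈ comp (P := fun n => Γ(E.obj (op n), W)) (secT E W) L, ∀ n (h : n ≤ L),
      z n = (E.map (homOfLE h).op).app W y := by
  classical
  refine ⟨fun n => if h : n ≤ L then (E.map (homOfLE h).op).app W y else 0, fun k hk => ?_,
    fun n h => dif_pos h⟩
  change (E.map (homOfLE (Nat.le_succ k)).op).app W (if h : k + 1 ≤ L then
    (E.map (homOfLE h).op).app W y else 0) = if h : k ≤ L then (E.map (homOfLE h).op).app W y else 0
  rw [dif_pos (show k + 1 ≤ L by omega), dif_pos (show k ≤ L by omega)]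
  rw [map_homOfLE_comp E (Nat.le_succ k) (show k + 1 ≤ L by omega)]
  rfl

end Pred

section Im

variable (E : ℕᵒᵖ ⥤ X.Modules) (m : ℕ)

/-- the transition maps `E_{n+m} → E_n`. -/
noncomputable def trm (n : ℕ) : E.obj (op (n + m)) ⟶ E.obj (op n) :=
  E.map (homOfLE (Nat.le_add_right n m)).op

/-- the images -/
noncomputable def Im (n : ℕ) : X.Modules := Limits.image (trm E m n)

/-- the projection to the image -/
noncomputable def ip (n : ℕ) : E.obj (op (n + m)) ⟶ Im E m n := factorThruImage _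

/-- the inclusion of the image -/
noncomputable def ii (n : ℕ) : Im E m n ⟶ E.obj (op n) := image.ι _

instance (n : ℕ) : Epi (ip E m n) := inferInstanceAs (Epi (factorThruImage _))

instance (n : ℕ) : Mono (ii E m n) := inferInstanceAs (Mono (image.ι _))

theorem ip_ii (n : ℕ) : ip E m n ≫ ii E m n = trm E m n := image.fac _

theorem exists_lift {C : Type*} [Category C] [Abelian C] {P I E' E'' : C} (p : P ⟶ I) [Epi p]
    (f : I ⟶ E'') (q : P ⟶ E') (i : E' ⟶ E'') [Mono i] (h : p ≫ f = q ≫ i) :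
    ∃ v : I ⟶ E', v ≫ i = f :=
  ⟨Abelian.monoLift i f (by
    rw [← cancel_epi p, reassoc_of% h, cokernel.condition, comp_zero, comp_zero]),
    Abelian.monoLift_comp i f _⟩

theorem trm_nat (n : ℕ) : trm E m (n + 1) ≫ E.map (homOfLE (Nat.le_succ n)).op =
    E.map (homOfLE (show n + m ≤ n + 1 + m by omega)).op ≫ trm E m n := by
  rw [trm, trm, ← E.map_comp, ← E.map_comp]
  rfl

theorem exists_vi (n : ℕ) : ∃ v : Im E m (n + 1) ⟶ Im E m n,
    v ≫ ii E m n = ii E m (n + 1) ≫ E.map (homOfLE (Nat.le_succ n)).op := by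
  refine exists_lift (ip E m (n + 1)) _
    (E.map (homOfLE (show n + m ≤ n + 1 + m by omega)).op ≫ ip E m n) (ii E m n) ?_
  rw [← Category.assoc, ip_ii, trm_nat, Category.assoc, ip_ii]

/-- the transition maps of the images -/
noncomputable def vi (n : ℕ) : Im E m (n + 1) ⟶ Im E m n := (exists_vi E m n).choose

theorem vi_ii (n : ℕ) : vi E m n ≫ ii E m n = ii E m (n + 1) ≫ E.map (homOfLE (Nat.le_succ n)).op :=
  (exists_vi E m n).choose_spec

theorem ip_vi (n : ℕ) : ip E m (n + 1) ≫ vi E m n =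
    E.map (homOfLE (show n + m ≤ n + 1 + m by omega)).op ≫ ip E m n := by
  rw [← cancel_mono (ii E m n), Category.assoc, vi_ii, ← Category.assoc, ip_ii, trm_nat, Category.assoc,
    ip_ii]

variable {E} (hE : ∀ n, Coh.IsCoh (E.obj (op n)))

include hE in
theorem isCoh_Im (n : ℕ) : Coh.IsCoh (Im E m n) :=
  isCoh_of_epi_mono (ip E m n) (ii E m n) (hE _) (hE n).1

theorem ii_injective (n : ℕ) (W : X.Opens) : Function.Injective ((ii E m n).app W) :=
  CohqB.FiniteType2.appLinear_injective (ii E m n) W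

variable {J : Ideal A} {W : X.Opens} (hW : IsAffineOpen W)

include hE hW in
/-- sections of the image are values of compatible families -/
theorem exists_of_Im (hP : Pred J E W m) (n : ℕ) (y : Γ(Im E m n, W)) :
    ∃ w ∈ LW E W, w n = (ii E m n).app W y := by
  obtain ⟨z, rfl⟩ := app_surjective_of_epi (ip E m n) (hE _).1 (isCoh_Im m hE n).1 hW y
  obtain ⟨z', hz', hzz⟩ := exists_fam E W (n + m) z
  obtain ⟨w, hw, hwz⟩ := hP.1 n z' hz'
  refine ⟨w, hw, ?_⟩
  rw [hwz, hzz n (by omega)]
  exact congrArg (fun t => t.app W z) (ip_ii E m n).symm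

/-- values of compatible families are sections of the image -/
theorem exists_Im (n : ℕ) (w : ∀ n, Γ(E.obj (op n), W)) (hw : w ∈ LW E W) :
    ∃ y : Γ(Im E m n, W), (ii E m n).app W y = w n := by
  refine ⟨(ip E m n).app W (w (n + m)), ?_⟩
  rw [← mem_LW E W hw (Nat.le_add_right n m)]
  exact congrArg (fun t => t.app W (w (n + m))) (ip_ii E m n)

include hE hW in
theorem vi_app_surjective (hP : Pred J E W m) (n : ℕ) : Function.Surjective ((vi E m n).app W) := by
  intro y
  obtain ⟨w, hw, hwy⟩ := exists_of_Im m hE hW hP n y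
  obtain ⟨y', hy'⟩ := exists_Im m (n + 1) w hw
  refine ⟨y', ii_injective m n W ?_⟩
  have h1 := congrArg (fun t => t.app W y') (vi_ii E m n)
  refine Eq.trans h1 ?_
  rw [← hwy, ← hw n]
  exact congrArg ((E.map (homOfLE (Nat.le_succ n)).op).app W) hy'

include hE hW in
theorem ker_vi (hP : Pred J E W m) (k : ℕ) (y : Γ(Im E m (m + k + 1), W))
    (hy : (vi E m (m + k)).app W y = 0) :
    y ∈ (J.map (toΓ A X W)) ^ (k + 1) • (⊤ : Submodule Γ(X, W) Γ(Im E m (m + k + 1), W)) := by
  obtain ⟨w, hw, hwy⟩ := exists_of_Im m hE hW hP (m + k + 1) y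
  have h0 : w (m + k) = 0 := by
    rw [← hw (m + k)]
    have h1 := congrArg (fun t => t.app W y) (vi_ii E m (m + k))
    have h2 : (ii E m (m + k)).app W ((vi E m (m + k)).app W y) =
      (E.map (homOfLE (Nat.le_succ (m + k))).op).app W ((ii E m (m + k + 1)).app W y) := h1
    rw [hy, map_zero, ← hwy] at h2
    exact h2.symm
  have h3 := hP.2 (k + 1) w hw (fun j hj => by
    rw [← mem_LW E W hw (show j ≤ m + k by omega), h0, map_zero])
  -- project to position `m + k + 1`
  have h4 : ∀ x ∈ (J.map (toΓ A X W)) ^ (k + 1) • LW E W, ∃ y' ∈ (J.map (toΓ A X W)) ^ (k + 1) •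
      (⊤ : Submodule Γ(X, W) Γ(Im E m (m + k + 1), W)), (ii E m (m + k + 1)).app W y' = x (m + k + 1) := by
    intro x hx
    refine Submodule.smul_induction_on hx (fun c hc x hx => ?_) (fun x x' hx hx' => ?_)
    · obtain ⟨y', hy'⟩ := exists_Im m (m + k + 1) x hx
      refine ⟨c • y', Submodule.smul_mem_smul hc trivial, ?_⟩
      refine (Scheme.Modules.Hom.app_smul (ii E m (m + k + 1)) c y').trans ?_
      rw [hy']
      rfl
    · obtain ⟨y, hy, h⟩ := hx
      obtain ⟨y', hy', h'⟩ := hx'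
      refine ⟨y + y', Submodule.add_mem _ hy hy', ?_⟩
      rw [map_add, h, h']
      rfl
  obtain ⟨y', hy', h5⟩ := h4 w h3
  have h6 : y' = y := ii_injective m _ W (by rw [h5, hwy])
  rwa [← h6]

end Im

section Cover

variable {E : ℕᵒᵖ ⥤ X.Modules} {m : ℕ} (hE : ∀ n, Coh.IsCoh (E.obj (op n))) {J : Ideal A}
  (hP : ∀ x : X, ∃ W : X.Opens, x ∈ W ∧ IsAffineOpen W ∧ Pred J E W m)

include hE hP in
theorem epi_vi (n : ℕ) : Epi (vi E m n) :=
  epi_of_cover (isCoh_Im m hE _).1 (isCoh_Im m hE _).1 _ fun x => by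
    obtain ⟨W, hx, hW, h⟩ := hP x
    exact ⟨W, hx, hW, vi_app_surjective m hE hW h n⟩

include hE hP in
theorem ker_comp (k : ℕ) {Z : X.Modules} (q : Im E m (m + k + 1) ⟶ Z) (hZ : Coh.IsQCoh Z)
    (hq : ∀ a ∈ J ^ (k + 1), Formal.smulMod A _ a ≫ q = 0) :
    kernel.ι (vi E m (m + k)) ≫ q = 0 := by
  have hq0 : Coh.IsQCoh (kernel (vi E m (m + k))) :=
    PerfA.QCohSerre.isQCoh_kernel _ (isCoh_Im m hE _).1 (isCoh_Im m hE _).1
  refine eq_zero_of_cover hq0 hZ _ fun x => ?_
  obtain ⟨W, hx, hW, h⟩ := hP x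
  refine ⟨W, hx, hW, fun y => ?_⟩
  have h1 : (vi E m (m + k)).app W ((kernel.ι (vi E m (m + k))).app W y) = 0 :=
    congrArg (fun t => t.app W y) (kernel.condition (vi E m (m + k)))
  have h2 := ker_vi m hE hW h k _ h1
  change q.app W ((kernel.ι (vi E m (m + k))).app W y) = 0
  have h3 : ∀ c ∈ (J.map (toΓ A X W)) ^ (k + 1), ∀ y' : Γ(Im E m (m + k + 1), W),
      q.app W (c • y') = 0 := by
    intro c hc y'
    rw [← Ideal.map_pow] at hc
    rw [Scheme.Modules.Hom.app_smul q c y']
    refine Submodule.span_induction (p := fun c _ => c • (q.app W y') = 0) ?_ ?_ ?_ ?_ hc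
    · rintro _ ⟨a, ha, rfl⟩
      have h4 := congrArg (fun t => t.app W y') (hq a ha)
      exact (Scheme.Modules.Hom.app_smul q _ y').symm.trans h4
    · rw [zero_smul]
    · intro a b _ _ ha hb
      rw [add_smul, ha, hb, add_zero]
    · intro a b _ hb
      rw [smul_eq_mul, mul_smul, hb, smul_zero]
  refine Submodule.smul_induction_on (p := fun y => q.app W y = 0) h2 (fun c hc y' _ => h3 c hc y')
    (fun y y' h h' => by rw [map_add, h, h', add_zero])

/-- the candidate -/
noncomputable def Mo (E : ℕᵒᵖ ⥤ X.Modules) (m : ℕ) (J : Ideal A) (k : ℕ) : X.Modules :=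
  Formal.modPow J (k + 1) (Im E m (m + k))

/-- the projection -/
noncomputable def pM (E : ℕᵒᵖ ⥤ X.Modules) (m : ℕ) (J : Ideal A) (k : ℕ) :
    Im E m (m + k) ⟶ Mo E m J k := Formal.modPowπ J (k + 1) (Im E m (m + k))

theorem isModPow_pM (k : ℕ) : IsModPow (J ^ (k + 1)) (pM E m J k) := isModPow_modPowπ J (k + 1) _

include hE in
theorem isCoh_Mo (k : ℕ) : Coh.IsCoh (Mo E m J k) :=
  isCoh_of_isModPow (isCoh_Im m hE _) (isModPow_pM k)

include hE hP in
theorem isModPow_vi (k : ℕ) : IsModPow (J ^ (k + 1)) (vi E m (m + k) ≫ pM E m J k) := by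
  have h1 := epi_vi hE hP (m + k)
  have h2 := isModPow_pM (E := E) (m := m) (J := J) k
  have h3 := h2.epi
  refine ⟨inferInstance, fun a ha => ?_, fun {Z} φ hφ => ?_⟩
  · rw [smulMod_naturality_assoc, h2.smul_comp a ha, comp_zero]
  · have hq := isModPow_modPowπ J (k + 1) (Im E m (m + k + 1))
    obtain ⟨ψ, hψ⟩ := hq.desc φ hφ
    have h4 := ker_comp hE hP k (Formal.modPowπ J (k + 1) (Im E m (m + k + 1)))
      (isCoh_of_isModPow (isCoh_Im m hE _) hq).1 hq.smul_comp
    have h5 : kernel.ι (vi E m (m + k)) ≫ φ = 0 := by rw [← hψ, ← Category.assoc, h4, zero_comp]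
    have h6 : vi E m (m + k) ≫ Abelian.epiDesc (vi E m (m + k)) φ h5 = φ := Abelian.comp_epiDesc _ _ _
    obtain ⟨χ, hχ⟩ := h2.desc (Abelian.epiDesc (vi E m (m + k)) φ h5) (fun a ha => by
      rw [← cancel_epi (vi E m (m + k)), ← smulMod_naturality_assoc, h6, hφ a ha, comp_zero])
    exact ⟨χ, by rw [Category.assoc, hχ, h6]⟩

/-- the transition maps of the candidate -/
theorem exists_tM (k : ℕ) : ∃ t : Mo E m J (k + 1) ⟶ Mo E m J k,
    pM E m J (k + 1) ≫ t = vi E m (m + k) ≫ pM E m J k := by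
  refine (isModPow_pM (E := E) (m := m) (J := J) (k + 1)).desc (vi E m (m + k) ≫ pM E m J k) fun a ha => ?_
  rw [smulMod_naturality_assoc, (isModPow_pM k).smul_comp a (Ideal.pow_le_pow_right (by omega) ha),
    comp_zero]

/-- the transition maps of the candidate -/
noncomputable def tM (E : ℕᵒᵖ ⥤ X.Modules) (m : ℕ) (J : Ideal A) (k : ℕ) :
    Mo E m J (k + 1) ⟶ Mo E m J k := (exists_tM (E := E) (m := m) (J := J) k).choose

theorem pM_tM (k : ℕ) : pM E m J (k + 1) ≫ tM E m J k = vi E m (m + k) ≫ pM E m J k :=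
  (exists_tM (E := E) (m := m) (J := J) k).choose_spec

/-- the candidate system -/
noncomputable def sysM (E : ℕᵒᵖ ⥤ X.Modules) (m : ℕ) (J : Ideal A) : ℕᵒᵖ ⥤ X.Modules :=
  Functor.ofOpSequence (X := Mo E m J) (tM E m J)

theorem sysM_map (k : ℕ) : (sysM E m J).map (homOfLE (Nat.le_succ k)).op = tM E m J k :=
  Functor.ofOpSequence_map_homOfLE_succ _ k

include hE hP in
theorem isCohFormal_sysM : Formal.IsCohFormal J (sysM E m J) := by
  rw [isCohFormal_iff]
  refine ⟨fun n => isCoh_Mo hE n, fun n => (isModPow_pM n).killedBy, fun n => ?_⟩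
  rw [sysM_map]
  have h1 := (isModPow_pM (E := E) (m := m) (J := J) (n + 1)).epi
  refine IsModPow.of_comp (p := pM E m J (n + 1)) ?_
  have h2 : pM E m J (n + 1) ≫ tM E m J n = vi E m (m + n) ≫ pM E m J n := pM_tM n
  exact h2 ▸ isModPow_vi hE hP n

end Cover

end K177.ExtCrit
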