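import Groth.Agent.LefX.K177.GrLocal

/-!
# Flatness off a closed subset, in terms of schemes
-/

set_option autoImplicit false
universe u

open CategoryTheory CategoryTheory.Limits AlgebraicGeometry Opposite TopologicalSpace

namespace K177.FlatOffB

open Groth.Agent K177.GrLocal

theorem flatOff_of_flat {A B : Type u} [CommRing A] [CommRing B] [Algebra A B] (𝔠 : Ideal B)
    (h : Flat ((LocCoh.puncturedOpen B 𝔠).ι ≫ Spec.map (CommRingCat.ofHom (algebraMap A B)))) :
    FlatOff A 𝔠 := by
  intro P hP hc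
  obtain ⟨g, hg𝔠, hgP⟩ := SetLike.not_le_iff_exists.1 hc
  let Bg := Localization.Away g
  let i : Spec (CommRingCat.of Bg) ⟶ Spec (CommRingCat.of B) :=
    Spec.map (CommRingCat.ofHom (algebraMap B Bg))
  have hi : IsOpenImmersion i := inferInstance
  have hr : Set.range i ⊆ Set.range (LocCoh.puncturedOpen B 𝔠).ι := by
    have h1 : Set.range i = (PrimeSpectrum.basicOpen g : Set (PrimeSpectrum B)) :=
      PrimeSpectrum.localization_away_comap_range Bg g
    rw [h1, Scheme.Opens.range_ι]
    intro x hx hx'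
    exact hx (hx' hg𝔠)
  let l := IsOpenImmersion.lift (LocCoh.puncturedOpen B 𝔠).ι i hr
  have hl : l ≫ (LocCoh.puncturedOpen B 𝔠).ι = i := IsOpenImmersion.lift_fac _ _ _
  have h1 : Flat (l ≫ (LocCoh.puncturedOpen B 𝔠).ι ≫ Spec.map (CommRingCat.ofHom (algebraMap A B))) :=
    inferInstance
  rw [← Category.assoc, hl, ← Spec.map_comp] at h1
  have h2 := (HasRingHomProperty.Spec_iff (P := @Flat)).1 h1
  have h3 : Module.Flat A Bg := by
    rw [← CommRingCat.ofHom_comp, CommRingCat.hom_ofHom, ← IsScalarTower.algebraMap_eq A B Bg] at h2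
    exact RingHom.flat_algebraMap_iff.1 h2
  have hle : Submonoid.powers g ≤ P.primeCompl := by
    rw [Submonoid.powers_le]
    exact hgP
  let _ : Algebra Bg (Localization.AtPrime P) :=
    (IsLocalization.lift (M := Submonoid.powers g) (g := algebraMap B (Localization.AtPrime P))
      (fun y => IsLocalization.map_units (Localization.AtPrime P) (⟨y.1, hle y.2⟩ : P.primeCompl))).toAlgebra
  have h4 : IsScalarTower B Bg (Localization.AtPrime P) :=
    IsScalarTower.of_algebraMap_eq fun x => (IsLocalization.lift_eq _ x).symm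
  have h5 : IsScalarTower A Bg (Localization.AtPrime P) := IsScalarTower.of_algebraMap_eq fun x => by
    rw [IsScalarTower.algebraMap_apply A B (Localization.AtPrime P), IsScalarTower.algebraMap_apply A B Bg,
      ← IsScalarTower.algebraMap_apply B Bg (Localization.AtPrime P)]
  have h6 := IsLocalization.isLocalization_of_submonoid_le Bg (Localization.AtPrime P)
    (Submonoid.powers g) P.primeCompl hle
  have h7 : Module.Flat Bg (Localization.AtPrime P) := IsLocalization.flat _ (P.primeCompl.map (algebraMap B Bg))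
  exact Module.Flat.trans A Bg (Localization.AtPrime P)

/-- Flatness off the complement of `U`. -/
theorem flatOff {X S : Scheme.{u}} (f : X ⟶ S) (U : X.Opens) [Flat (U.ι ≫ f)] {A B : Type u} [CommRing A]
    [CommRing B] [Algebra A B] (b : Spec (CommRingCat.of A) ⟶ S)
    (e : Spec (CommRingCat.of B) ⟶ pullback f b) [IsOpenImmersion e]
    (he : e ≫ pullback.snd f b = Spec.map (CommRingCat.ofHom (algebraMap A B))) (𝔠 : Ideal B)
    (h𝔠 : LocCoh.puncturedOpen B 𝔠 = e ⁻¹ᵁ (pullback.fst f b ⁻¹ᵁ U)) : FlatOff A 𝔠 := by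
  refine flatOff_of_flat 𝔠 ?_
  have h1 : Flat ((pullback.fst f b ⁻¹ᵁ U).ι ≫ pullback.snd f b) := by
    have sq : IsPullback (pullback.fst f b ∣_ U) (pullback.fst f b ⁻¹ᵁ U).ι U.ι (pullback.fst f b) :=
      isPullback_morphismRestrict (pullback.fst f b) U
    have sq' : IsPullback (pullback.fst f b ∣_ U) ((pullback.fst f b ⁻¹ᵁ U).ι ≫ pullback.snd f b)
      (U.ι ≫ f) b := sq.paste_vert (IsPullback.of_hasPullback f b)
    exact MorphismProperty.of_isPullback (P := @Flat) sq' inferInstance
  rw [← he, ← Category.assoc, h𝔠]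
  have h2 : (e ⁻¹ᵁ (pullback.fst f b ⁻¹ᵁ U)).ι ≫ e =
    (e ∣_ (pullback.fst f b ⁻¹ᵁ U)) ≫ (pullback.fst f b ⁻¹ᵁ U).ι := (morphismRestrict_ι _ _).symm
  rw [h2, Category.assoc]
  infer_instance

end K177.FlatOffB
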