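import Groth.Agent.Sga2lef.H96.LevelFree
import Groth.Agent.Algz.K573.BaseRing

/-!
# Restriction of finite locally free modules over `O_X/J^n O_X`, and change of the base ring
-/

set_option autoImplicit false
universe u

open CategoryTheory CategoryTheory.Limits AlgebraicGeometry Opposite TopologicalSpace

namespace K177.FreeRes

open Groth.Agent Groth.Agent.FormalB.ModPow Groth.Agent.Sga2lef.H96.LevelFree K573.BaseRing

section Restrict

variable {A : Type u} [CommRing A] {X Y : Scheme.{u}} [X.Over (Spec (CommRingCat.of A))]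
  [Y.Over (Spec (CommRingCat.of A))] (j : Y ⟶ X) [IsOpenImmersion j]

/-- `(F|_Y)|_{j⁻¹ V} = (F|_V)|_{j⁻¹ V}` -/
noncomputable def swap (V : X.Opens) : Scheme.Modules.restrictFunctor j ⋙
    Scheme.Modules.restrictFunctor (j ⁻¹ᵁ V).ι ≅
    Scheme.Modules.restrictFunctor V.ι ⋙ Scheme.Modules.restrictFunctor (j ∣_ V) :=
  (Scheme.Modules.restrictFunctorComp (j ⁻¹ᵁ V).ι j).symm ≪≫
    Scheme.Modules.restrictFunctorCongr (morphismRestrict_ι j V).symm ≪≫
    Scheme.Modules.restrictFunctorComp (j ∣_ V) V.ι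

theorem restrict_free (hj : j ≫ (X ↘ Spec (CommRingCat.of A)) = Y ↘ Spec (CommRingCat.of A))
    {J : Ideal A} {n : ℕ} {G : X.Modules} (hG : Formal2.IsFinLocFreeMod J n G) :
    Formal2.IsFinLocFreeMod J n ((Scheme.Modules.restrictFunctor j).obj G) := by
  intro x
  obtain ⟨V, r, hx, ⟨e⟩⟩ := hG (j x)
  obtain ⟨e', -, -⟩ := (K573.Base.restrict_isModPow j hj
    (isModPow_modPowπ J n (FlatMod.freeMod X r))).exists_iso
      ((isModPow_modPowπ J n (FlatMod.freeMod Y r)).iso_comp (freeModRestrict j r).hom)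
  refine ⟨j ⁻¹ᵁ V, r, hx, ⟨(swap j V).app G ≪≫ (Scheme.Modules.restrictFunctor (j ∣_ V)).mapIso e ≪≫
    ((swap j V).app _).symm ≪≫ (Scheme.Modules.restrictFunctor (j ⁻¹ᵁ V).ι).mapIso e'⟩⟩

end Restrict

section Ring

variable {A A' : Type u} [CommRing A] [CommRing A'] [Algebra A A'] {X : Scheme.{u}}
  [X.Over (Spec (CommRingCat.of A))] [X.Over (Spec (CommRingCat.of A'))]

theorem free_map (hX : Compat A A' X) {J : Ideal A} {n : ℕ} {G : X.Modules}
    (hG : Formal2.IsFinLocFreeMod J n G) :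
    Formal2.IsFinLocFreeMod (J.map (algebraMap A A')) n G := by
  intro x
  obtain ⟨V, r, hx, ⟨e⟩⟩ := hG x
  have h1 := (isModPow_iff_map hX _ _).1 (isModPow_modPowπ J n (FlatMod.freeMod X r))
  rw [Ideal.map_pow] at h1
  obtain ⟨e', -, -⟩ := h1.exists_iso (isModPow_modPowπ (J.map (algebraMap A A')) n (FlatMod.freeMod X r))
  exact ⟨V, r, hx, ⟨e ≪≫ (Scheme.Modules.restrictFunctor V.ι).mapIso e'⟩⟩

end Ring

end K177.FreeRes
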