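import Groth.Agent.Sga2.LefQcoh
import Groth.Agent.Sga2lef.H100.GrPunct
import Groth.Agent.Divis.IdealComap
import Groth.Agent.Divis.ExtendStalk
import Groth.Agent.Fdesc.StructMod
import Groth.Agent.Ega4C.FlatLocal
import Groth.Agent.S2612
import Groth.Agent.Ega4B.DepthBasic
import Groth.Agent.PerfC.TildeStalk
import Mathlib.AlgebraicGeometry.IdealSheaf.Functorial

/-!
# Functions on opens of `Spec A` and on the thickenings of `V(J)`

* `rho A U : A →+* Γ(U, ⊤)`, bijective if the depth of `A` is at least two off `U`.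
* `gammaComplete`: `Γ(U, O) → lim Γ(V(J^(n+1)) ∩ U, O)` is bijective when `A` is `J`-adically complete and `A`
  and the `A/J^(n+1)` have depth at least two off `U`.
-/

set_option autoImplicit false
universe u

open CategoryTheory CategoryTheory.Limits AlgebraicGeometry Opposite TopologicalSpace

namespace K177.GamComp

open Groth.Agent
open Groth.Agent.Sga2lef.H100.GrPunct (specMk ker_specMk_pow inclusion_appTop)

variable (A : Type u) [CommRing A] (U : (Spec (CommRingCat.of A)).Opens)

/-- Elements of `A` as functions on `U`. -/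
noncomputable def rho : A →+* Γ((U : Scheme.{u}), ⊤) :=
  (U.ι.appTop.hom).comp (Scheme.ΓSpecIso (CommRingCat.of A)).inv.hom

theorem rho_apply (a : A) : rho A U a = U.ι.appTop ((Scheme.ΓSpecIso (CommRingCat.of A)).inv a) := rfl

/-- depth of the stalk of the structure sheaf as a module. -/
theorem depth_stalk (x : Spec (CommRingCat.of A)) (p : PrimeSpectrum A) (hp : x = p) :
    LocCoh.depth ((Spec (CommRingCat.of A)).presheaf.stalk x)
      ((Coh.structureModule (Spec (CommRingCat.of A))).presheaf.stalk x) =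
    LocCoh.depth (Localization.AtPrime p.asIdeal) (Localization.AtPrime p.asIdeal) := by
  subst hp
  rw [← Groth.Agent.Ega4B.DepthBasic.depth_congr (Fdesc.StructMod.stalkEquiv _)]
  let : Algebra A ((Spec (CommRingCat.of A)).presheaf.stalk x) :=
    (PerfC.TildeStalk.alpha (R := CommRingCat.of A) x).toAlgebra
  have hp : (PrimeSpectrum.asIdeal (R := A) x).IsPrime := PrimeSpectrum.isPrime (R := A) x
  have : IsLocalization.AtPrime ((Spec (CommRingCat.of A)).presheaf.stalk x)
      (PrimeSpectrum.asIdeal (R := A) x) :=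
    PerfC.TildeStalk.isLocalization_alpha (R := CommRingCat.of A) x
  exact Groth.Agent.Ega4C.FlatLocal.depth_self_congr
    (IsLocalization.algEquiv (PrimeSpectrum.asIdeal (R := A) x).primeCompl
      ((Spec (CommRingCat.of A)).presheaf.stalk x)
      (Localization.AtPrime (PrimeSpectrum.asIdeal (R := A) x))).toRingEquiv

theorem rho_bijective [IsNoetherianRing A] (h : ∀ p : PrimeSpectrum A,
    (show (Spec (CommRingCat.of A) : Scheme.{u}) from p) ∉ U →
    (2 : ℕ∞) ≤ LocCoh.depth (Localization.AtPrime p.asIdeal) (Localization.AtPrime p.asIdeal)) :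
    Function.Bijective (rho A U) := by
  have h1 : Function.Bijective (U.ι.app ⊤) := by
    rw [Pi1A.DepthTwo.bijective_app_iff]
    have hcoh := Groth.Agent.Fdesc.StructMod.isCoh_structureModule (Spec (CommRingCat.of A))
    have h3 := Groth.Agent.Divis.ExtendStalk.bijective_of_stalk hcoh U (fun x hx => by
      have h4 := h x hx
      rw [← depth_stalk A x _ rfl] at h4
      have := Groth.Agent.Divis.StalkMod.finite_stalk hcoh x
      exact Groth.Agent.Divis.ExtendStalk.exists_regPair_of_two_le_depth h4) ⊤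
    rw [Scheme.Opens.opensRange_ι]
    exact h3
  have h2 : Function.Bijective ((Scheme.ΓSpecIso (.of A)).inv) :=
    ConcreteCategory.bijective_of_isIso _
  exact h1.comp h2

variable (J : Ideal A)

/-- The preimage of `U` in `Spec (A/J)`. -/
noncomputable abbrev UJ : (Spec (CommRingCat.of (A ⧸ J))).Opens := (specMk A J) ⁻¹ᵁ U

/-- the closed immersion `V(J) ∩ U → U`. -/
noncomputable abbrev inc : (UJ A U J : Scheme.{u}) ⟶ (U : Scheme.{u}) := (specMk A J) ∣_ U

theorem inc_ι : inc A U J ≫ U.ι = (UJ A U J).ι ≫ specMk A J := morphismRestrict_ι _ _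

theorem inc_appTop_rho (a : A) :
    (inc A U J).appTop (rho A U a) = rho (A ⧸ J) (UJ A U J) (Ideal.Quotient.mk J a) := by
  have h1 : (inc A U J ≫ U.ι).appTop = ((UJ A U J).ι ≫ specMk A J).appTop := by
    rw [inc_ι]
  have h2 := congr($h1 ((Scheme.ΓSpecIso (.of A)).inv a))
  rw [Scheme.Hom.comp_appTop, Scheme.Hom.comp_appTop] at h2
  have h3 := congr($(Scheme.ΓSpecIso_inv_naturality (CommRingCat.ofHom (Ideal.Quotient.mk J))) a)
  rw [rho_apply, rho_apply]
  refine Eq.trans ?_ (h2.trans ?_)
  · rfl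
  · exact congrArg (UJ A U J).ι.appTop h3.symm

theorem ker_inc : (specMk A J).ker.comap U.ι = (inc A U J).ker := by
  rw [← Scheme.IdealSheafData.ker_fst_of_isClosedImmersion (specMk A J) U.ι]
  have h := isPullback_morphismRestrict (specMk A J) U
  have h2 : inc A U J = h.isoPullback.hom ≫ pullback.fst U.ι (specMk A J) :=
    h.isoPullback_hom_fst.symm
  rw [h2, Scheme.Hom.ker_comp_of_isIso]

/-- the closed subscheme with the ideal sheaf of `V(J) ∩ U`. -/
theorem exists_subschemeIso (K : (U : Scheme.{u}).IdealSheafData) (hK : K = (inc A U J).ker) :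
    ∃ e : (UJ A U J : Scheme.{u}) ≅ K.subscheme, e.hom ≫ K.subschemeι = inc A U J := by
  subst hK
  exact ⟨asIso (inc A U J).toImage, (inc A U J).toImage_imageι⟩

theorem comap_pow_eq (n : ℕ) :
    ((specMk A J).ker.comap U.ι) ^ n = (inc A U (J ^ n)).ker := by
  rw [← Groth.Agent.Divis.IdealComap.comap_pow, ker_specMk_pow, ker_inc]

/-- functions on the thickening. -/
theorem exists_thick (n : ℕ) (hb : Function.Bijective (rho (A ⧸ J ^ (n + 1)) (UJ A U (J ^ (n + 1))))) :
    (∀ a : A, ((((specMk A J).ker.comap U.ι) ^ (n + 1)).subschemeι.appTop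
      (rho A U a) = 0 ↔ a ∈ J ^ (n + 1))) ∧
    ∀ y : Γ((((specMk A J).ker.comap U.ι) ^ (n + 1)).subscheme, ⊤), ∃ a : A,
      (((specMk A J).ker.comap U.ι) ^ (n + 1)).subschemeι.appTop
        (rho A U a) = y := by
  obtain ⟨e, he⟩ := exists_subschemeIso A U (J ^ (n + 1)) _ (comap_pow_eq A U J (n + 1))
  have hiso : IsIso (e.hom.app ⊤) := inferInstance
  have hbij : Function.Bijective e.hom.appTop := ConcreteCategory.bijective_of_isIso (e.hom.app ⊤)
  have key : ∀ a : A, e.hom.appTop
      ((((specMk A J).ker.comap U.ι) ^ (n + 1)).subschemeι.appTop (rho A U a)) =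
      rho (A ⧸ J ^ (n + 1)) (UJ A U (J ^ (n + 1))) (Ideal.Quotient.mk _ a) := by
    intro a
    rw [← inc_appTop_rho]
    have := congr($(congrArg Scheme.Hom.appTop he) (rho A U a))
    exact this
  constructor
  · intro a
    rw [← Ideal.Quotient.eq_zero_iff_mem, ← hb.1.eq_iff, ← key, map_zero, ← map_zero e.hom.appTop.hom]
    exact hbij.1.eq_iff.symm
  · intro y
    obtain ⟨b, hb'⟩ := hb.2 (e.hom.appTop y)
    obtain ⟨a, rfl⟩ := Ideal.Quotient.mk_surjective b
    exact ⟨a, hbij.1 ((key a).trans hb')⟩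

/-- `Γ(U, O) = A = lim A/J^(n+1) = lim Γ(V(J^(n+1)) ∩ U, O)`. -/
theorem gammaComplete_of_bijective [IsAdicComplete J A] (hb : Function.Bijective (rho A U))
    (hbn : ∀ n : ℕ, Function.Bijective (rho (A ⧸ J ^ (n + 1)) (UJ A U (J ^ (n + 1))))) :
    Groth.Agent.Sga2.LefBasic.GammaComplete ((specMk A J).ker.comap U.ι) := by
  set K := (specMk A J).ker.comap U.ι with hK
  have hth := fun n => exists_thick A U J n (hbn n)
  rw [← hK] at hth
  constructor
  · intro s t hst
    obtain ⟨a, rfl⟩ := hb.2 s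
    obtain ⟨b, rfl⟩ := hb.2 t
    congr 1
    rw [← sub_eq_zero]
    refine IsHausdorff.haus' (I := J) (a - b) fun n => ?_
    rw [SModEq.zero, smul_eq_mul, Ideal.mul_top]
    rcases n with _ | n
    · simp
    · rw [← (hth n).1, map_sub, map_sub, hst n, sub_self]
  · intro y hy
    choose a ha using fun n => (hth n).2 (y n)
    have h1 : ∀ n, a (n + 1) - a n ∈ J ^ (n + 1) := by
      intro n
      rw [← (hth n).1, map_sub, map_sub, ha n, ← hy n, ← ha (n + 1),
        inclusion_appTop, sub_self]
    have h2 : ∀ m n, m ≤ n → a n - a m ∈ J ^ (m + 1) := by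
      intro m n hmn
      induction n, hmn using Nat.le_induction with
      | base => simp
      | succ n hmn ih =>
        have h3 : a (n + 1) - a m = (a (n + 1) - a n) + (a n - a m) := by ring
        rw [h3]
        exact Ideal.add_mem _ (Ideal.pow_le_pow_right (by omega) (h1 n)) ih
    obtain ⟨L, hL⟩ := IsPrecomplete.prec' (I := J) (M := A) a (by
      intro m n hmn
      rw [SModEq.comm, SModEq.sub_mem, smul_eq_mul, Ideal.mul_top]
      exact Ideal.pow_le_pow_right (by omega) (h2 m n hmn))
    refine ⟨rho A U L, fun n => ?_⟩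
    rw [← ha n, ← sub_eq_zero, ← map_sub, ← map_sub, (hth n).1]
    have h3 := hL (n + 1)
    rw [SModEq.comm, SModEq.sub_mem, smul_eq_mul, Ideal.mul_top] at h3
    have h4 : L - a n = (L - a (n + 1)) + (a (n + 1) - a n) := by ring
    rw [h4]
    exact Ideal.add_mem _ h3 (h1 n)

/-- the same from depth. -/
theorem gammaComplete [IsNoetherianRing A] [IsAdicComplete J A]
    (h : ∀ p : PrimeSpectrum A, (show (Spec (CommRingCat.of A) : Scheme.{u}) from p) ∉ U →
      (2 : ℕ∞) ≤ LocCoh.depth (Localization.AtPrime p.asIdeal) (Localization.AtPrime p.asIdeal))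
    (hn : ∀ (n : ℕ) (p : PrimeSpectrum (A ⧸ J ^ (n + 1))),
      (show (Spec (CommRingCat.of A) : Scheme.{u}) from
        PrimeSpectrum.comap (Ideal.Quotient.mk (J ^ (n + 1))) p) ∉ U →
      (2 : ℕ∞) ≤ LocCoh.depth (Localization.AtPrime p.asIdeal) (Localization.AtPrime p.asIdeal)) :
    Groth.Agent.Sga2.LefBasic.GammaComplete ((specMk A J).ker.comap U.ι) :=
  gammaComplete_of_bijective A U J (rho_bijective A U h) fun n =>
    rho_bijective (A ⧸ J ^ (n + 1)) (UJ A U (J ^ (n + 1))) fun p hp => hn n p hp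

end K177.GamComp
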