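import Groth.Agent.LefX.K177.PBasis
import Groth.Agent.Pi1A.DepthTwo
import Groth.Agent.S2854
import Groth.Agent.Ega4B.DepthBasic
import Groth.Agent.Ega4dB.DepthOpen
import Mathlib.RingTheory.AdicCompletion.Noetherian
import Mathlib.RingTheory.Filtration

/-!
# Regular pairs modulo the powers of `J` when `gr_J(A)` is projective

* `RegMod K x y`: `x, y` is a regular pair on `A/K`.
* `regMod_pow`: regular on `A/J` implies regular on `A/J^n` when every `J^n/J^(n+1)` has a dual basis.
* `isRegPair`: and on `A` if `A` is `J`-adically complete.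
* `exists_regMod`: existence of the pair in an ideal `I` from the depths of `(A/J)_p`, `p ⊇ I + J`.
-/

set_option autoImplicit false
universe u

namespace K177.RegGr

open Groth.Agent K177.PBasis Groth.Agent.Pi1A.DepthTwo

variable {A : Type u} [CommRing A]

/-- `x, y` is a regular pair on `A/K`. -/
structure RegMod (K : Ideal A) (x y : A) : Prop where
  inj : ∀ u, x * u ∈ K → u ∈ K
  div : ∀ u v, y * u - x * v ∈ K → ∃ w, u - x * w ∈ K

theorem RegMod.isRegPair {K : Ideal A} {x y : A} (h : RegMod K x y) :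
    IsRegPair (Ideal.Quotient.mk K x) (Ideal.Quotient.mk K y) := by
  refine ⟨fun b hb => ?_, fun b c hbc => ?_⟩
  · obtain ⟨b, rfl⟩ := Ideal.Quotient.mk_surjective b
    rw [← map_mul, Ideal.Quotient.eq_zero_iff_mem] at hb
    exact Ideal.Quotient.eq_zero_iff_mem.2 (h.inj b hb)
  · obtain ⟨b, rfl⟩ := Ideal.Quotient.mk_surjective b
    obtain ⟨c, rfl⟩ := Ideal.Quotient.mk_surjective c
    rw [← map_mul, ← map_mul, Ideal.Quotient.eq] at hbc
    obtain ⟨w, hw⟩ := h.div b c hbc
    exact ⟨Ideal.Quotient.mk K w, by rw [← map_mul]; exact Ideal.Quotient.eq.2 hw⟩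

section Gr

variable {J : Ideal A} {S : Set A} {n r : ℕ} {ω : Fin r → A} {C : Fin r → Fin r → A}

/-- coordinates: the class of `∑ ω_k c_k` is that of `∑ ω_i (C c)_i`. -/
theorem sum_sub_mem (h : IsPB J S n ω C) (c : Fin r → A) :
    ∑ k, ω k * c k - ∑ i, ω i * (∑ k, C i k * c k) ∈ J ^ (n + 1) := by
  have h1 : ∑ k, ω k * c k - ∑ i, ω i * (∑ k, C i k * c k) =
      ∑ k, (ω k - ∑ i, ω i * C i k) * c k := by
    simp_rw [sub_mul, Finset.sum_sub_distrib, Finset.mul_sum, Finset.sum_mul]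
    congr 1
    rw [Finset.sum_comm]
    refine Finset.sum_congr rfl fun k _ => Finset.sum_congr rfl fun i _ => ?_
    ring
  rw [h1]
  exact Ideal.sum_mem _ fun k _ => Ideal.mul_mem_right _ _ (h.fix k)

theorem indep' (h : IsPB J S n ω C) (h1 : (1 : A) ∈ S) (c : Fin r → A)
    (hc : ∑ k, ω k * c k ∈ J ^ (n + 1)) (i : Fin r) : ∑ k, C i k * c k ∈ J := by
  obtain ⟨l, hl⟩ := h.indep 1 h1 c hc
  simpa using hl i

theorem mem_of_coord (h : IsPB J S n ω C) (c : Fin r → A) (hc : ∀ i, ∑ k, C i k * c k ∈ J) :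
    ∑ k, ω k * c k ∈ J ^ (n + 1) := by
  have h1 := sum_sub_mem h c
  have h2 : ∑ i, ω i * (∑ k, C i k * c k) ∈ J ^ (n + 1) := by
    refine Ideal.sum_mem _ fun i _ => ?_
    rw [pow_succ]
    exact Ideal.mul_mem_mul (h.mem i) (hc i)
  have := Ideal.add_mem _ h1 h2
  rwa [sub_add_cancel] at this

variable {x y : A}

theorem gr_inj (h : IsPB J S n ω C) (h1 : (1 : A) ∈ S) (hxy : RegMod J x y) (u : A)
    (hu : u ∈ J ^ n) (hxu : x * u ∈ J ^ (n + 1)) : u ∈ J ^ (n + 1) := by
  obtain ⟨c, hc⟩ := h.span u hu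
  have h2 : ∑ k, ω k * (x * c k) ∈ J ^ (n + 1) := by
    have h3 : ∑ k, ω k * (x * c k) = x * u - x * (u - ∑ k, ω k * c k) := by
      rw [mul_sub, sub_sub_cancel, Finset.mul_sum]
      exact Finset.sum_congr rfl fun k _ => by ring
    rw [h3]
    exact Ideal.sub_mem _ hxu (Ideal.mul_mem_left _ _ hc)
  have h4 : ∀ i, ∑ k, C i k * c k ∈ J := by
    intro i
    refine hxy.inj _ ?_
    have h5 := indep' h h1 _ h2 i
    have h6 : x * ∑ k, C i k * c k = ∑ k, C i k * (x * c k) := by
      rw [Finset.mul_sum]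
      exact Finset.sum_congr rfl fun k _ => by ring
    rw [h6]
    exact h5
  have h7 := Ideal.add_mem _ hc (mem_of_coord h c h4)
  rwa [sub_add_cancel] at h7

theorem gr_div (h : IsPB J S n ω C) (h1 : (1 : A) ∈ S) (hxy : RegMod J x y) (u v : A)
    (hu : u ∈ J ^ n) (hv : v ∈ J ^ n) (huv : y * u - x * v ∈ J ^ (n + 1)) :
    ∃ w, u - x * w ∈ J ^ (n + 1) := by
  obtain ⟨c, hc⟩ := h.span u hu
  obtain ⟨d, hd⟩ := h.span v hv
  have h2 : ∑ k, ω k * (y * c k - x * d k) ∈ J ^ (n + 1) := by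
    have h3 : ∑ k, ω k * (y * c k - x * d k) =
        (y * u - x * v) - y * (u - ∑ k, ω k * c k) + x * (v - ∑ k, ω k * d k) := by
      have h4 : ∑ k, ω k * (y * c k - x * d k) = y * ∑ k, ω k * c k - x * ∑ k, ω k * d k := by
        rw [Finset.mul_sum, Finset.mul_sum, ← Finset.sum_sub_distrib]
        exact Finset.sum_congr rfl fun k _ => by ring
      rw [h4]; ring
    rw [h3]
    exact Ideal.add_mem _ (Ideal.sub_mem _ huv (Ideal.mul_mem_left _ _ hc))
      (Ideal.mul_mem_left _ _ hd)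
  have h4 : ∀ i, ∃ w, ∑ k, C i k * c k - x * w ∈ J := by
    intro i
    refine hxy.div _ (∑ k, C i k * d k) ?_
    have h5 := indep' h h1 _ h2 i
    have h6 : y * ∑ k, C i k * c k - x * ∑ k, C i k * d k = ∑ k, C i k * (y * c k - x * d k) := by
      rw [Finset.mul_sum, Finset.mul_sum, ← Finset.sum_sub_distrib]
      exact Finset.sum_congr rfl fun k _ => by ring
    rw [h6]
    exact h5
  choose w hw using h4
  refine ⟨∑ i, ω i * w i, ?_⟩
  have h7 : u - x * ∑ i, ω i * w i = (u - ∑ k, ω k * c k) +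
      (∑ k, ω k * c k - ∑ i, ω i * (∑ k, C i k * c k)) +
      ∑ i, ω i * (∑ k, C i k * c k - x * w i) := by
    have h8 : ∑ i, ω i * (∑ k, C i k * c k - x * w i) =
        ∑ i, ω i * (∑ k, C i k * c k) - x * ∑ i, ω i * w i := by
      rw [Finset.mul_sum, ← Finset.sum_sub_distrib]
      exact Finset.sum_congr rfl fun k _ => by ring
    rw [h8]; ring
  rw [h7]
  refine Ideal.add_mem _ (Ideal.add_mem _ hc (sum_sub_mem h c)) (Ideal.sum_mem _ fun i _ => ?_)
  rw [pow_succ]
  exact Ideal.mul_mem_mul (h.mem i) (hw i)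

end Gr

variable {J : Ideal A} {S : Set A} {x y : A}

theorem regMod_pow (h1 : (1 : A) ∈ S)
    (hgr : ∀ n : ℕ, ∃ (r : ℕ) (ω : Fin r → A) (C : Fin r → Fin r → A), IsPB J S (n + 1) ω C)
    (hxy : RegMod J x y) (n : ℕ) : RegMod (J ^ (n + 1)) x y := by
  induction n with
  | zero => rw [zero_add, pow_one]; exact hxy
  | succ n ih =>
    obtain ⟨r, ω, C, h⟩ := hgr n
    refine ⟨fun u hu => ?_, fun u v huv => ?_⟩
    · exact gr_inj h h1 hxy u (ih.inj u (Ideal.pow_le_pow_right (Nat.le_succ _) hu)) hu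
    · obtain ⟨w, hw⟩ := ih.div u v (Ideal.pow_le_pow_right (Nat.le_succ _) huv)
      have h2 : y * (u - x * w) - x * (v - y * w) ∈ J ^ (n + 1 + 1) := by
        have h3 : y * (u - x * w) - x * (v - y * w) = y * u - x * v := by ring
        rw [h3]; exact huv
      have h4 : v - y * w ∈ J ^ (n + 1) := by
        refine ih.inj _ ?_
        have h5 := Ideal.sub_mem _ (Ideal.mul_mem_left _ y hw)
          (Ideal.pow_le_pow_right (Nat.le_succ _) h2)
        rwa [sub_sub_cancel] at h5
      obtain ⟨w', hw'⟩ := gr_div h h1 hxy _ _ hw h4 h2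
      refine ⟨w + w', ?_⟩
      have h6 : u - x * (w + w') = u - x * w - x * w' := by ring
      rw [h6]; exact hw'

theorem isRegPair [IsNoetherianRing A] [IsAdicComplete J A] (h : ∀ n, RegMod (J ^ (n + 1)) x y) :
    IsRegPair x y := by
  have hjac : J ≤ Ideal.jacobson ⊥ := IsAdicComplete.le_jacobson_bot J
  refine ⟨fun b hb => ?_, fun b c hbc => ?_⟩
  · refine IsHausdorff.haus' (I := J) b fun n => ?_
    rw [SModEq.zero, smul_eq_mul, Ideal.mul_top]
    rcases n with _ | n
    · simp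
    · exact (h n).inj b (by rw [hb]; exact zero_mem _)
  · have h1 : IsHausdorff J (A ⧸ Ideal.span {x}) := IsHausdorff.of_le_jacobson J _ hjac
    have h2 : Ideal.Quotient.mk (Ideal.span {x}) b = 0 := by
      refine h1.haus' _ fun n => ?_
      rw [SModEq.zero]
      rcases n with _ | n
      · simp
      · obtain ⟨w, hw⟩ := (h n).div b c (by rw [hbc, sub_self]; exact zero_mem _)
        have h3 : Ideal.Quotient.mk (Ideal.span {x}) b =
            (b - x * w) • (1 : A ⧸ Ideal.span {x}) := by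
          rw [Algebra.smul_def, mul_one]
          change _ = Ideal.Quotient.mk _ _
          rw [Ideal.Quotient.eq, sub_sub_cancel]
          exact Ideal.mul_mem_right _ _ (Ideal.mem_span_singleton_self x)
        rw [h3]
        exact Submodule.smul_mem_smul hw trivial
    rw [Ideal.Quotient.eq_zero_iff_mem, Ideal.mem_span_singleton] at h2
    obtain ⟨d, hd⟩ := h2
    exact ⟨d, hd⟩

theorem depth_quot_localization (J : Ideal A) (p : Ideal A) [p.IsPrime] :
    LocCoh.depth (Localization.AtPrime p)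
      (Localization.AtPrime p ⧸ J.map (algebraMap A (Localization.AtPrime p))) =
    LocCoh.depth (Localization.AtPrime p) (LocalizedModule p.primeCompl (A ⧸ J)) := by
  have h := Groth.Agent.Ega4dB.DepthOpen.depth_eq_of_isLocalizedModule (q := p)
    (M := A ⧸ J) (Localization.AtPrime p)
    (Submodule.toLocalizedQuotient' (Localization.AtPrime p) p.primeCompl
      (Algebra.linearMap A (Localization.AtPrime p)) J)
  rw [← h, Ideal.localized'_eq_map]

theorem subsingleton_localized_quot (J : Ideal A) (p : Ideal A) [p.IsPrime] (hp : ¬ J ≤ p) :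
    Subsingleton (LocalizedModule p.primeCompl (A ⧸ J)) := by
  obtain ⟨t, ht, htp⟩ := Set.not_subset.1 hp
  refine (LocalizedModule.subsingleton_iff).2 fun m => ⟨t, htp, ?_⟩
  obtain ⟨m, rfl⟩ := Ideal.Quotient.mk_surjective m
  rw [Algebra.smul_def]
  change Ideal.Quotient.mk _ (t * m) = 0
  exact Ideal.Quotient.eq_zero_iff_mem.2 (Ideal.mul_mem_right _ _ ht)

open scoped Pointwise in
theorem regMod_of_isWeaklyRegular {J : Ideal A} {x y : A}
    (h : RingTheory.Sequence.IsWeaklyRegular (A ⧸ J) [x, y]) : RegMod J x y := by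
  rw [RingTheory.Sequence.isWeaklyRegular_cons_iff,
    RingTheory.Sequence.isWeaklyRegular_singleton_iff] at h
  obtain ⟨h1, h2⟩ := h
  refine ⟨fun u hu => ?_, fun u v huv => ?_⟩
  · rw [← Ideal.Quotient.eq_zero_iff_mem]
    apply h1
    change x • Ideal.Quotient.mk J u = x • (0 : A ⧸ J)
    rw [smul_zero, Algebra.smul_def]
    exact Ideal.Quotient.eq_zero_iff_mem.2 hu
  · have h3 : (Submodule.Quotient.mk (Ideal.Quotient.mk J u) : QuotSMulTop x (A ⧸ J)) = 0 := by
      apply h2
      change y • (Submodule.Quotient.mk (Ideal.Quotient.mk J u) : QuotSMulTop x (A ⧸ J)) =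
        y • (0 : QuotSMulTop x (A ⧸ J))
      rw [smul_zero, ← Submodule.Quotient.mk_smul, Submodule.Quotient.mk_eq_zero]
      rw [Submodule.mem_smul_pointwise_iff_exists]
      refine ⟨Ideal.Quotient.mk J v, trivial, ?_⟩
      rw [Algebra.smul_def, Algebra.smul_def]
      change Ideal.Quotient.mk J (x * v) = Ideal.Quotient.mk J (y * u)
      rw [Ideal.Quotient.eq, ← neg_mem_iff, neg_sub]
      exact huv
    rw [Submodule.Quotient.mk_eq_zero, Submodule.mem_smul_pointwise_iff_exists] at h3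
    obtain ⟨w, -, hw⟩ := h3
    obtain ⟨w, rfl⟩ := Ideal.Quotient.mk_surjective w
    refine ⟨w, ?_⟩
    rw [← Ideal.Quotient.eq, ← hw, Algebra.smul_def]
    rfl

theorem exists_regMod [IsNoetherianRing A] (I J : Ideal A)
    (hb : ∀ (p : Ideal A) (_ : p.IsPrime), I ≤ p → J ≤ p →
      (2 : ℕ∞) ≤ LocCoh.depth (Localization.AtPrime p) (LocalizedModule p.primeCompl (A ⧸ J))) :
    ∃ x ∈ I, ∃ y ∈ I, RegMod J x y := by
  obtain ⟨fs, hlen, hmem, hreg⟩ := (Groth.Agent.S2854.result A (A ⧸ J) I 2).1 (by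
    intro p hp hIp
    by_cases hJp : J ≤ p
    · exact hb p hp hIp hJp
    · have := subsingleton_localized_quot J p hJp
      rw [Groth.Agent.Ega4B.DepthBasic.depth_eq_top_of_subsingleton]
      exact le_top)
  obtain ⟨x, y, rfl⟩ := List.length_eq_two.1 hlen
  exact ⟨x, hmem x (by simp), y, hmem y (by simp), regMod_of_isWeaklyRegular hreg⟩

end K177.RegGr
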