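import Groth.Agent.LefX.K177.GamComp
import Groth.Agent.LefX.K177.RegGr

/-!
# `GammaComplete` from a regular pair modulo all powers of `J`
-/

set_option autoImplicit false
universe u

open CategoryTheory CategoryTheory.Limits AlgebraicGeometry Opposite TopologicalSpace

namespace K177.GamReg

open Groth.Agent Groth.Agent.Pi1A.DepthTwo K177.GamComp K177.RegGr
open Groth.Agent.Sga2lef.H100.GrPunct (specMk)

variable (A : Type u) [CommRing A] (U : (Spec (CommRingCat.of A)).Opens)

/-- the basic open of an element of `A`. -/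
noncomputable abbrev bO (x : A) : (Spec (CommRingCat.of A)).Opens :=
  (Spec (CommRingCat.of A)).basicOpen ((Scheme.ΓSpecIso (CommRingCat.of A)).inv x)

theorem rho_bijective_of_isRegPair {x y : A} (h : IsRegPair x y) (hx : bO A x ≤ U)
    (hy : bO A y ≤ U) : Function.Bijective (rho A U) := by
  have h2 : Function.Bijective ((Scheme.ΓSpecIso (.of A)).inv) :=
    ConcreteCategory.bijective_of_isIso _
  have h1 : Function.Bijective (U.ι.app ⊤) := by
    rw [bijective_app_iff]
    have h' : IsRegPair ((Scheme.ΓSpecIso (.of A)).inv x) ((Scheme.ΓSpecIso (.of A)).inv y) := by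
      refine ⟨fun b hb => ?_, fun b c hbc => ?_⟩
      · obtain ⟨b, rfl⟩ := h2.2 b
        rw [← map_mul] at hb
        rw [h.fst b (h2.1 (hb.trans (map_zero _).symm)), map_zero]
      · obtain ⟨b, rfl⟩ := h2.2 b
        obtain ⟨c, rfl⟩ := h2.2 c
        rw [← map_mul, ← map_mul] at hbc
        obtain ⟨d, hd⟩ := h.snd b c (h2.1 hbc)
        exact ⟨(Scheme.ΓSpecIso (.of A)).inv d, by rw [← map_mul, hd]⟩
    have h3 := bijective_res_of_isRegPair (isAffineOpen_top (Spec (CommRingCat.of A))) _ _ h'
      (W := ⊤ ⊓ U.ι.opensRange) inf_le_left (by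
        rw [Scheme.Opens.opensRange_ι, top_inf_eq]
        exact sup_le hx hy)
    exact h3
  exact h1.comp h2

theorem preimage_bO (K : Ideal A) (x : A) :
    (specMk A K) ⁻¹ᵁ (bO A x) = bO (A ⧸ K) (Ideal.Quotient.mk K x) := by
  rw [Scheme.preimage_basicOpen_top]
  have h3 := congr($(Scheme.ΓSpecIso_inv_naturality (CommRingCat.ofHom (Ideal.Quotient.mk K))) x)
  congr 1
  exact h3.symm

theorem gammaComplete_of_regMod [IsNoetherianRing A] (J : Ideal A) [IsAdicComplete J A] {x y : A}
    (hx : bO A x ≤ U) (hy : bO A y ≤ U) (h : ∀ n : ℕ, RegMod (J ^ (n + 1)) x y) :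
    Groth.Agent.Sga2.LefBasic.GammaComplete ((specMk A J).ker.comap U.ι) := by
  refine gammaComplete_of_bijective A U J (rho_bijective_of_isRegPair A U (isRegPair h) hx hy)
    fun n => rho_bijective_of_isRegPair _ _ (h n).isRegPair ?_ ?_
  · rw [← preimage_bO]
    exact (Opens.map _).map (homOfLE hx) |>.le
  · rw [← preimage_bO]
    exact (Opens.map _).map (homOfLE hy) |>.le

end K177.GamReg
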