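import Groth.Agent.LefX.K177.GrSheaf
import Groth.Agent.LefX.K177.GrRees

/-!
# The action of the polynomial ring on the graded family of a formal system

For `p ∈ A[x_1, ..., x_r]` and `m ∈ N 0` the degree `n` component of `p • m` is `kap n (ev n p) m`, where
`ev n p ∈ J^n` is the coefficient of `T^n` of `p(a_1 T, ..., a_r T)`.
-/

set_option autoImplicit false
universe u

open CategoryTheory CategoryTheory.Limits AlgebraicGeometry Opposite TopologicalSpace

namespace K177.GrAct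

open Groth.Agent
open Groth.Agent.FormalB.HMod Groth.Agent.FormalB.ModPow Groth.Agent.FormalB.PrincTower
  Groth.Agent.Sga2lef.H100.GrSys Groth.Agent.Sga2lef.H100 Groth.Agent.FormalB.PuncTheta
  Groth.Agent.FormalB.PuncTheta2 Groth.Agent.FormalB Groth.Agent.Fga.GrFam K177.GrFin K177.GrSheaf
  K177.GrRees

variable {A : Type u} [CommRing A] {X : Scheme.{u}} [X.Over (Spec (CommRingCat.of A))]
  {J : Ideal A} {G : ℕᵒᵖ ⥤ X.Modules}

theorem kap_congr (hG : IsFormal J G) (n : ℕ) {ω ω' : A} (h : ω = ω') (hω : ω ∈ J ^ n)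
    (hω' : ω' ∈ J ^ n) : kap hG n ω hω = kap hG n ω' hω' := by
  subst h; rfl

theorem kap_eq_zero (hG : IsFormal J G) (n : ℕ) (ω : A) (hω : ω ∈ J ^ n) (h : ω ∈ J ^ (n + 1)) :
    kap hG n ω hω = 0 := GrProj.kap_zero hG n ω hω h

theorem kap_deg_zero (hG : IsFormal J G) (ω : A) (hω : ω ∈ J ^ 0) :
    kap hG 0 ω hω = Formal.smulMod A (G.obj (op 0)) ω := by
  have := epi_t0 hG 0
  have h1 : t0 G 0 = 𝟙 _ := G.map_id _
  have h2 := t0_m hG 0 ω hω
  rw [h1, Category.id_comp] at h2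
  exact h2

section Act

variable {A : Type u} [CommRing A] [IsNoetherianRing A] (U : (Spec (CommRingCat.of A)).Opens)
  {J : Ideal A} {G : ℕᵒᵖ ⥤ (U : Scheme.{u}).Modules} (hG : IsFormal J G) {r : ℕ} (a : Fin r → J)
  (N : Submodule A ((Gam U).obj (G.obj (op 0))))

/-- `kap` on sections. -/
noncomputable def kapΓ (n : ℕ) (ω : A) (hω : ω ∈ J ^ n) :
    (Gam U).obj (G.obj (op 0)) →ₗ[A] (Gam U).obj (K G n) := ((Gam U).map (kap hG n ω hω)).hom

theorem kapΓ_congr (n : ℕ) {ω ω' : A} (h : ω = ω') (hω : ω ∈ J ^ n) (hω' : ω' ∈ J ^ n) :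
    kapΓ U hG n ω hω = kapΓ U hG n ω' hω' := by
  subst h; rfl

theorem kapΓ_add (n : ℕ) (ω ω' : A) (hω : ω ∈ J ^ n) (hω' : ω' ∈ J ^ n) (h : ω + ω' ∈ J ^ n) :
    kapΓ U hG n (ω + ω') h = kapΓ U hG n ω hω + kapΓ U hG n ω' hω' := by
  rw [kapΓ, kap_add hG n ω ω' hω hω' h, Functor.map_add]
  rfl

theorem kapΓ_zero (n : ℕ) (ω : A) (hω : ω ∈ J ^ n) (h : ω ∈ J ^ (n + 1)) :
    kapΓ U hG n ω hω = 0 := by
  rw [kapΓ, kap_eq_zero hG n ω hω h, Functor.map_zero]
  rfl

theorem kapΓ_mul (n : ℕ) (b : J) (ω : A) (hω : ω ∈ J ^ n) (h : (b : A) * ω ∈ J ^ (n + 1))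
    (y : (Gam U).obj (G.obj (op 0))) :
    kapΓ U hG (n + 1) (b * ω) h y = ((Gam U).map (kmu hG b n)).hom (kapΓ U hG n ω hω y) := by
  rw [kapΓ, kap_mul hG n b ω hω h, Functor.map_comp]
  rfl

theorem kapΓ_deg_zero (ω : A) (hω : ω ∈ J ^ 0) (y : (Gam U).obj (G.obj (op 0))) :
    kapΓ U hG 0 ω hω y = ω • y := by
  rw [kapΓ, kap_deg_zero hG ω hω]
  exact congrArg (fun t => t.hom y) (gam_map_smulMod U (G.obj (op 0)) ω)

/-- the value in degree `n` -/
noncomputable def vl (n : ℕ) (w : (famN U hG a N).Tot) : (Gam U).obj (K G n) :=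
  ((famN U hG a N).pr n w : NN U hG a N n).1

theorem vl_add (n : ℕ) (w w' : (famN U hG a N).Tot) :
    vl U hG a N n (w + w') = vl U hG a N n w + vl U hG a N n w' := by
  rw [vl, map_add]; rfl

theorem vl_smul (n : ℕ) (c : A) (w : (famN U hG a N).Tot) :
    vl U hG a N n (c • w) = c • vl U hG a N n w := by
  rw [vl, map_smul]; rfl

theorem vl_zero (n : ℕ) : vl U hG a N n 0 = 0 := by
  rw [vl, map_zero]; rfl

theorem vl_X_succ (n : ℕ) (i : Fin r) (w : (famN U hG a N).Tot) :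
    vl U hG a N (n + 1) ((MvPolynomial.X i : MvPolynomial (Fin r) A) • w) =
      ((Gam U).map (kmu hG (a i) n)).hom (vl U hG a N n w) := by
  rw [Fam.X_smul, vl, pr_X_succ]; rfl

theorem vl_X_zero (i : Fin r) (w : (famN U hG a N).Tot) :
    vl U hG a N 0 ((MvPolynomial.X i : MvPolynomial (Fin r) A) • w) = 0 := by
  rw [Fam.X_smul, vl, pr_X_zero]; rfl

theorem vl_ext {w w' : (famN U hG a N).Tot} (h : ∀ n, vl U hG a N n w = vl U hG a N n w') : w = w' :=
  (famN U hG a N).tot_ext fun n => Subtype.ext (h n)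

/-- the inclusion of the degree zero part -/
noncomputable def o0 : N →ₗ[A] (famN U hG a N).Tot := (famN U hG a N).of 0

theorem vl_o0_zero (m : N) : vl U hG a N 0 (o0 U hG a N m) = m.1 :=
  congrArg Subtype.val ((famN U hG a N).pr_of_self 0 m)

theorem vl_o0_succ (n : ℕ) (m : N) : vl U hG a N (n + 1) (o0 U hG a N m) = 0 :=
  congrArg Subtype.val ((famN U hG a N).pr_of_ne (Nat.succ_ne_zero n).symm m)

/-- **The action formula.** -/
theorem act (p : MvPolynomial (Fin r) A) (m : N) (n : ℕ) :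
    vl U hG a N n (p • o0 U hG a N m) = kapΓ U hG n (ev a n p) (ev_mem a n p) m.1 := by
  induction p using MvPolynomial.induction_on generalizing n with
  | C c =>
    rw [Fam.C_smul, vl_smul]
    cases n with
    | zero =>
      rw [vl_o0_zero, kapΓ_congr U hG 0 (ev_C_zero a c) _ (by simp), kapΓ_deg_zero]
      rfl
    | succ n =>
      rw [vl_o0_succ, smul_zero, kapΓ_zero U hG (n + 1) _ _ (by
        rw [ev_C_succ]; exact zero_mem _)]
      rfl
  | add p q hp hq =>
    rw [add_smul, vl_add, hp, hq, kapΓ_congr U hG n (ev_add a n p q) _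
      (add_mem (ev_mem a n p) (ev_mem a n q)), kapΓ_add U hG n _ _ (ev_mem a n p) (ev_mem a n q)]
    rfl
  | mul_X p i hp =>
    rw [mul_comm, mul_smul]
    cases n with
    | zero =>
      rw [vl_X_zero, kapΓ_deg_zero, mul_comm, ev_mul_X_zero, zero_smul]
      rfl
    | succ n =>
      have h1 : (a i : A) * ev a n p ∈ J ^ (n + 1) := by
        rw [pow_succ']
        exact Ideal.mul_mem_mul (a i).2 (ev_mem a n p)
      rw [vl_X_succ, hp, kapΓ_congr U hG (n + 1) (ω' := (a i : A) * ev a n p) (by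
        rw [mul_comm, ev_mul_X_succ]) _ h1, kapΓ_mul U hG n (a i) _ (ev_mem a n p) h1]

theorem sum_act {k : ℕ} (v : Fin k → MvPolynomial (Fin r) A) (m : Fin k → N) (n : ℕ) :
    vl U hG a N n (∑ i, v i • o0 U hG a N (m i)) =
      ∑ i, kapΓ U hG n (ev a n (v i)) (ev_mem a n (v i)) (m i).1 := by
  classical
  have : ∀ s : Finset (Fin k), vl U hG a N n (∑ i ∈ s, v i • o0 U hG a N (m i)) =
      ∑ i ∈ s, kapΓ U hG n (ev a n (v i)) (ev_mem a n (v i)) (m i).1 := by
    intro s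
    induction s using Finset.induction_on with
    | empty => rw [Finset.sum_empty, Finset.sum_empty, vl_zero]
    | insert i s hi ih => rw [Finset.sum_insert hi, Finset.sum_insert hi, vl_add, ih, act]
  exact this _

/-- The kernel of `A[x] → gr_J(A)` kills the graded module. -/
theorem ker_smul (p : MvPolynomial (Fin r) A) (hp : toGr a p = 0) (m : N) :
    p • o0 U hG a N m = 0 := by
  refine vl_ext U hG a N fun n => ?_
  rw [act, vl_zero, kapΓ_zero U hG n _ _ ((toGr_eq_zero_iff a p).1 hp n)]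
  rfl

end Act

end K177.GrAct
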