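import Mathlib.LinearAlgebra.Pi
import Mathlib.RingTheory.Ideal.BigOperators
import Mathlib.RingTheory.Ideal.Operations
import Mathlib.Algebra.BigOperators.Module
import Mathlib.RingTheory.Finiteness.Basic

/-!
# Bases up to torsion

`BasisUpTo S I b`: the elements `b j` of the `A`-module `P` generate `P` up to `S`-torsion, and their relations
are in `I` up to `S`-torsion; i.e. `S⁻¹P` is free over `S⁻¹(A/I)` with basis `b`.
-/

set_option autoImplicit false

namespace K177.GrBasisAlg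

variable {A : Type*} [CommRing A]

/-- a family of elements is a basis over `A/I` up to `S`-torsion -/
def BasisUpTo (S : Submonoid A) (I : Ideal A) {P : Type*} [AddCommGroup P] [Module A P] {κ : ℕ}
    (b : Fin κ → P) : Prop :=
  (∀ y : P, ∃ s ∈ S, ∃ c : Fin κ → A, s • y = ∑ j, c j • b j) ∧
    ∀ c : Fin κ → A, ∑ j, c j • b j = 0 → ∃ s ∈ S, ∀ j, s * c j ∈ I

theorem exists_common {S : Submonoid A} {κ : ℕ} {p : Fin κ → A → Prop}
    (hp : ∀ i s t, s ∈ S → p i s → p i (t * s)) (h : ∀ i, ∃ s ∈ S, p i s) : ∃ s ∈ S, ∀ i, p i s := by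
  classical
  choose s hs hps using h
  refine ⟨∏ i, s i, Submonoid.prod_mem _ fun i _ => hs i, fun i => ?_⟩
  rw [← Finset.prod_erase_mul Finset.univ s (Finset.mem_univ i)]
  exact hp i _ _ (hs i) (hps i)

/-- Relations between lifts of a basis are in the ideal. -/
theorem relations {S : Submonoid A} {J : Ideal A} {n : ℕ} {P₀ P₁ : Type*} [AddCommGroup P₀] [Module A P₀]
    [AddCommGroup P₁] [Module A P₁]
    (t : P₁ →ₗ[A] P₀) (ht : ∀ y : P₀, ∃ s ∈ S, ∃ z : P₁, t z = s • y)
    {k κ : ℕ} (m : Fin k → P₀) (hm : BasisUpTo S J m) (b : Fin κ → P₁)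
    (hb : BasisUpTo S (J ^ (n + 1)) b) (ω : Fin k → A) (hω : ∀ i, ω i ∈ J ^ n)
    (f : Fin k → (P₀ →ₗ[A] P₁)) (hf : ∀ i z, f i (t z) = ω i • z)
    (h0 : ∑ i, f i (m i) = 0) : ∃ s ∈ S, ∀ i, s * ω i ∈ J ^ (n + 1) := by
  classical
  -- lifts of the `m i`
  have h1 : ∀ i, ∃ s ∈ S, ∃ c : Fin κ → A, s • m i = ∑ j, c j • t (b j) := by
    intro i
    obtain ⟨s, hs, z, hz⟩ := ht (m i)
    obtain ⟨s', hs', c, hc⟩ := hb.1 z
    refine ⟨s' * s, mul_mem hs' hs, c, ?_⟩
    rw [mul_smul, ← hz, ← map_smul, hc, map_sum]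
    exact Finset.sum_congr rfl fun j _ => map_smul _ _ _
  obtain ⟨s, hs, hc⟩ := exists_common (S := S)
    (p := fun i s => ∃ c : Fin κ → A, s • m i = ∑ j, c j • t (b j)) (by
      rintro i s u _ ⟨c, hc⟩
      refine ⟨fun j => u * c j, ?_⟩
      rw [mul_smul, hc, Finset.smul_sum]
      exact Finset.sum_congr rfl fun j _ => (mul_smul _ _ _).symm) h1
  choose c hc using hc
  -- expressions of the `t (b j)`
  obtain ⟨s', hs', hd⟩ := exists_common (S := S)
    (p := fun (j : Fin κ) s => ∃ d : Fin k → A, s • t (b j) = ∑ i, d i • m i) (by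
      rintro j s u _ ⟨d, hd⟩
      refine ⟨fun i => u * d i, ?_⟩
      rw [mul_smul, hd, Finset.smul_sum]
      exact Finset.sum_congr rfl fun j _ => (mul_smul _ _ _).symm) (fun j => hm.1 (t (b j)))
  choose d hd using hd
  -- the composite matrix
  have h2 : ∀ i, ∃ s'' ∈ S, ∀ i', s'' * ((∑ j, c i j * d j i') - if i' = i then s' * s else 0) ∈ J := by
    intro i
    refine hm.2 (fun i' => (∑ j, c i j * d j i') - if i' = i then s' * s else 0) ?_
    have h3 : ∑ i', (∑ j, c i j * d j i') • m i' = (s' * s) • m i := by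
      rw [mul_smul, hc i, Finset.smul_sum]
      simp_rw [Finset.sum_smul]
      rw [Finset.sum_comm]
      refine Finset.sum_congr rfl fun j _ => ?_
      rw [smul_comm, hd j, Finset.smul_sum]
      exact Finset.sum_congr rfl fun i' _ => mul_smul _ _ _
    simp_rw [sub_smul]
    rw [Finset.sum_sub_distrib, h3]
    simp [ite_smul]
  obtain ⟨s'', hs'', h3⟩ := exists_common (S := S)
    (p := fun i s'' => ∀ i', s'' * ((∑ j, c i j * d j i') - if i' = i then s' * s else 0) ∈ J) (by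
      intro i s u _ h i'
      rw [mul_assoc]
      exact Ideal.mul_mem_left _ _ (h i')) h2
  -- the relation for the `b j`
  have h4 : ∑ j, (∑ i, c i j * ω i) • b j = 0 := by
    have h5 : s • ∑ i, f i (m i) = ∑ j, (∑ i, c i j * ω i) • b j := by
      rw [Finset.smul_sum]
      simp_rw [← map_smul, hc, map_sum, map_smul, hf, Finset.sum_smul]
      rw [Finset.sum_comm]
      refine Finset.sum_congr rfl fun j _ => Finset.sum_congr rfl fun i _ => ?_
      rw [mul_smul]
    rw [← h5, h0, smul_zero]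
  obtain ⟨u, hu, h6⟩ := hb.2 _ h4
  refine ⟨u * (s'' * (s' * s)), mul_mem hu (mul_mem hs'' (mul_mem hs' hs)), fun i' => ?_⟩
  have h7 : ∑ j, d j i' * (u * s'' * ∑ i, c i j * ω i) ∈ J ^ (n + 1) :=
    Ideal.sum_mem _ fun j _ => Ideal.mul_mem_left _ _ (by
      rw [mul_comm u, mul_assoc]
      exact Ideal.mul_mem_left _ _ (h6 j))
  have h8 : ∑ i, (u * ω i) * (s'' * ((∑ j, c i j * d j i') - if i' = i then s' * s else 0)) ∈
      J ^ (n + 1) := by
    refine Ideal.sum_mem _ fun i _ => ?_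
    rw [pow_succ]
    exact Ideal.mul_mem_mul (Ideal.mul_mem_left _ _ (hω i)) (h3 i i')
  have h9 : u * (s'' * (s' * s)) * ω i' = ∑ j, d j i' * (u * s'' * ∑ i, c i j * ω i) -
      ∑ i, (u * ω i) * (s'' * ((∑ j, c i j * d j i') - if i' = i then s' * s else 0)) := by
    simp_rw [mul_sub, Finset.sum_sub_distrib, Finset.mul_sum]
    rw [Finset.sum_comm]
    have h10 : ∀ i ∈ Finset.univ, ∀ j ∈ Finset.univ, d j i' * (u * s'' * (c i j * ω i)) =
      u * ω i * (s'' * (c i j * d j i')) := fun i _ j _ => by ring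
    rw [Finset.sum_congr rfl fun i hi => Finset.sum_congr rfl fun j hj => h10 i hi j hj]
    rw [sub_sub_cancel]
    simp only [mul_ite, mul_zero, Finset.sum_ite_eq, Finset.mem_univ, if_true]
    ring
  rw [h9]
  exact sub_mem h7 h8

end K177.GrBasisAlg
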