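import Groth.Agent.LefX.K177.GrSheaf

/-!
# From finiteness of the cohomology of the punctured spectrum to finiteness of local cohomology

Converse of `DeltaComp.finite_zero`, `DeltaComp.finite_one`.
-/

set_option autoImplicit false
universe u

open CategoryTheory CategoryTheory.Limits AlgebraicGeometry
open Groth.Agent.Localalg.DeltaFun Groth.Agent.Localalg.LCAbs Groth.Agent.Localalg.Gam
open Groth.Agent.FormalB Groth.Agent.FormalB.DeltaComp K177.GrFin

namespace K177.GrConv

section Abs

variable {A : Type u} [CommRing A] {I : Ideal A} (L : LC I)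
  (T : DeltaFunctor (ModuleCat.{u} A) (ModuleCat.{u} A)) (η : 𝟭 (ModuleCat.{u} A) ⟶ T.T 0)
  (hη : ∀ (J : ModuleCat.{u} A) [Injective J], Function.Surjective (η.app J).hom)
  (hη' : ∀ (M : ModuleCat.{u} A) (m : M), (η.app M).hom m = 0 ↔ m ∈ gam I M)
  (hT : ∀ {M N : ModuleCat.{u} A} (φ : M ⟶ N) [Mono φ], Function.Injective ((T.T 0).map φ).hom)
  (hJ : ∀ (J : ModuleCat.{u} A) [Injective J], IsZero ((T.T 1).obj J))

include hη' in
theorem p_surjective (M : ModuleCat.{u} A) : Function.Surjective (p L T η M) := by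
  intro y
  have h0 := epi_δ L.D (injSES_shortExact M) 0 (L.eff (injSES M).X₂ 0)
  obtain ⟨z, rfl⟩ := (ModuleCat.epi_iff_surjective _).1 h0 y
  let c : gam I (injSES M).X₃ := (L.zero.hom.app (injSES M).X₃).hom z
  have hc : (L.zero.inv.app (injSES M).X₃).hom c = z :=
    congrArg (fun t' => t'.hom z) (L.zero.hom_inv_id_app (injSES M).X₃)
  have h1 := (injSES_shortExact M).epi_g
  obtain ⟨j, hj⟩ := (ModuleCat.epi_iff_surjective _).1 h1 c.1
  have h2 : ((T.T 0).map (injSES M).g).hom ((η.app (injSES M).X₂).hom j) = 0 := by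
    rw [η_nat]
    refine (hη' _ _).2 ?_
    have h3 : (injSES M).g.hom j = c.1 := hj
    rw [h3]
    exact c.2
  obtain ⟨s, hs⟩ := (ShortComplex.moduleCat_exact_iff _).1 (T.exact₂ (injSES_shortExact M) 0) _ h2
  refine ⟨⟨(c, s), j, hj, hs.symm⟩, ?_⟩
  exact congrArg (L.D.δ (injSES_shortExact M) 0).hom hc

include hη' in
theorem ker_q_le (M : ModuleCat.{u} A) :
    LinearMap.ker (q (I := I) T η M) ≤ LinearMap.ker (p L T η M) := by
  rintro ⟨⟨c, s⟩, j, h1, h2⟩ hw
  dsimp only at h1 h2
  have hw' : (LinearMap.range (η.app M).hom).mkQ s = 0 := hw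
  rw [Submodule.mkQ_apply, Submodule.Quotient.mk_eq_zero] at hw'
  obtain ⟨m, rfl⟩ := hw'
  rw [η_nat] at h2
  have h3 : (η.app (injSES M).X₂).hom (j - (injSES M).f.hom m) = 0 := by
    rw [map_sub, h2, sub_self]
  let t : gam I (injSES M).X₂ := ⟨j - (injSES M).f.hom m, (hη' _ _).1 h3⟩
  have h4 : (injSES M).g.hom t.1 = c.1 := by
    change (injSES M).g.hom (j - (injSES M).f.hom m) = _
    rw [map_sub, h1]
    have : (injSES M).g.hom ((injSES M).f.hom m) = 0 := congrArg (fun t => t.hom m) (injSES M).zero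
    rw [this, sub_zero]
  have h5 : ((gamFunctor I).map (injSES M).g).hom t = c := Subtype.ext h4
  change (L.D.δ (injSES_shortExact M) 0).hom ((L.zero.inv.app (injSES M).X₃).hom c) = 0
  have h6 : ((L.D.T 0).map (injSES M).g).hom ((L.zero.inv.app (injSES M).X₂).hom t) =
      (L.zero.inv.app (injSES M).X₃).hom c := by
    rw [← h5]
    exact (congrArg (fun t' => t'.hom t) (L.zero.inv.naturality (injSES M).g)).symm
  rw [← h6]
  exact congrArg (fun t' => t'.hom ((L.zero.inv.app (injSES M).X₂).hom t))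
    (L.D.zero₃ (injSES_shortExact M) 0)

include hη' in
/-- `T^0(M)/M` finite implies `H^1_I(M)` finite. -/
theorem finite_H1_of_coker [IsNoetherianRing A] (M : ModuleCat.{u} A)
    (h : Module.Finite A ((T.T 0).obj M ⧸ LinearMap.range (η.app M).hom)) :
    Module.Finite A (L.obj 1 M) :=
  finite_of_lift (q (I := I) T η M) (p L T η M) (p_surjective L T η hη' M) (ker_q_le L T η hη' M)

include hη' in
theorem finite_H1 [IsNoetherianRing A] (M : ModuleCat.{u} A)
    (h : Module.Finite A ((T.T 0).obj M)) : Module.Finite A (L.obj 1 M) :=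
  finite_H1_of_coker L T η hη' M inferInstance

include hη hη' in
theorem finite_H2 [IsNoetherianRing A] (M : ModuleCat.{u} A)
    (h : Module.Finite A ((T.T 1).obj M)) : Module.Finite A (L.obj 2 M) := by
  have h1 : Module.Finite A ((T.T 0).obj (injSES M).X₃ ⧸
      LinearMap.range (η.app (injSES M).X₃).hom) := by
    refine Module.Finite.of_injective ((LinearMap.range (η.app (injSES M).X₃).hom).liftQ
      (T.δ (injSES_shortExact M) 0).hom (range_le_ker T η M)) ?_
    rw [← LinearMap.ker_eq_bot, eq_bot_iff]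
    intro x hx
    obtain ⟨x, rfl⟩ := Submodule.Quotient.mk_surjective _ x
    have hx' : (T.δ (injSES_shortExact M) 0).hom x = 0 := hx
    obtain ⟨y, hy⟩ := (ShortComplex.moduleCat_exact_iff _).1
      (T.exact₃ (injSES_shortExact M) 0) x hx'
    obtain ⟨j, rfl⟩ := hη (injSES M).X₂ y
    rw [Submodule.mem_bot, Submodule.Quotient.mk_eq_zero]
    refine ⟨(injSES M).g.hom j, ?_⟩
    rw [← η_nat]
    exact hy
  have h2 := finite_H1_of_coker L T η hη' (injSES M).X₃ h1
  have h3 := epi_δ L.D (injSES_shortExact M) 1 (L.eff (injSES M).X₂ 1)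
  exact Module.Finite.of_surjective _ ((ModuleCat.epi_iff_surjective _).1 h3)

end Abs

section Punc

variable {C : Type u} [CommRing C] [IsNoetherianRing C] (𝔠 : Ideal C)

/-- Finiteness of local cohomology from the cohomology of the punctured spectrum. -/
theorem finite_H (M : ModuleCat.{u} C) (hM : Module.Finite C M)
    (h0 : Module.Finite C (((K177.GrSheaf.punc 𝔠).T.T 0).obj M))
    (h1 : Module.Finite C (((K177.GrSheaf.punc 𝔠).T.T 1).obj M)) :
    ∀ i : ℕ, i ≤ 2 → Module.Finite C (LocCoh.H 𝔠 i M) := by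
  intro i hi
  let Φ := K177.GrSheaf.punc 𝔠
  interval_cases i
  · have h2 : Module.Finite C (gam 𝔠 M) := inferInstance
    have h3 : Module.Finite C ((gamFunctor 𝔠).obj M) := h2
    exact Module.Finite.equiv (((lc 𝔠).zero.app M).symm.toLinearEquiv)
  · exact finite_H1 (lc 𝔠) Φ.T Φ.η Φ.zero_iff M h0
  · exact finite_H2 (lc 𝔠) Φ.T Φ.η Φ.surj Φ.zero_iff M h1

end Punc

end K177.GrConv
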