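import Groth.Agent.LefX.K177.GrRees
import Mathlib.RingTheory.Flat.EquationalCriterion
import Mathlib.RingTheory.Localization.Integer
import Mathlib.RingTheory.MvPolynomial.Homogeneous

/-!
# Polynomial relations modulo powers of `J` over a flat algebra

`A → B`, `S` a submonoid of `B` with `S⁻¹B` flat over `A`, `a i ∈ J`, `𝔧 n` ideals of `A` with
`J 𝔧 n ⊆ 𝔧 (n+1)`.  A polynomial over `B` all of whose coefficients `ev n p` are in `𝔧 n B` is, up to `S`,
in the ideal generated by the polynomials over `A` with `ev n q ∈ 𝔧 n` (`exists_mul_mem`).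
-/

set_option autoImplicit false
universe u

namespace K177.GrFlat

open K177.GrRees

section Ev

variable {A : Type u} [CommRing A] {J : Ideal A} {r : ℕ} (a : Fin r → J)

/-- `ev` as a linear map. -/
noncomputable def evL (n : ℕ) : MvPolynomial (Fin r) A →ₗ[A] A where
  toFun := ev a n
  map_add' := ev_add a n
  map_smul' c p := by rw [MvPolynomial.smul_eq_C_mul, ev_C_mul]; rfl

theorem evL_apply (n : ℕ) (p : MvPolynomial (Fin r) A) : evL a n p = ev a n p := rfl

theorem exists_degree (m : Fin r →₀ ℕ) (c : A) : ∃ d : ℕ,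
    (MvPolynomial.monomial m c : MvPolynomial (Fin r) A).IsHomogeneous d ∧
      ∀ k, k ≠ d → ev a k (MvPolynomial.monomial m c) = 0 := by
  refine MvPolynomial.induction_on_monomial (R := A) (σ := Fin r)
    (motive := fun p => ∃ d : ℕ, p.IsHomogeneous d ∧ ∀ k, k ≠ d → ev a k p = 0) ?_ ?_ m c
  · intro c
    refine ⟨0, MvPolynomial.isHomogeneous_C _ c, fun k hk => ?_⟩
    obtain ⟨k, rfl⟩ := Nat.exists_eq_succ_of_ne_zero hk
    exact ev_C_succ a k c
  · rintro p i ⟨d, hd, h⟩
    refine ⟨d + 1, hd.mul (MvPolynomial.isHomogeneous_X _ i), fun k hk => ?_⟩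
    cases k with
    | zero => exact ev_mul_X_zero a p i
    | succ k => rw [ev_mul_X_succ, h k (by omega), mul_zero]

theorem ev_monomial_of_ne (m : Fin r →₀ ℕ) (c : A) (k : ℕ) (hk : k ≠ m.degree) :
    ev a k (MvPolynomial.monomial m c) = 0 := by
  by_cases hc : c = 0
  · rw [hc, map_zero, ev_zero]
  obtain ⟨d, hd, h⟩ := exists_degree a m c
  refine h k fun hkd => hk ?_
  rw [hkd]
  have h1 : (MvPolynomial.monomial m c : MvPolynomial (Fin r) A).IsHomogeneous m.degree :=
    MvPolynomial.isHomogeneous_monomial c rfl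
  refine hd.inj_right h1 ?_
  rw [Ne, MvPolynomial.monomial_eq_zero]
  exact hc

theorem ev_homogeneousComponent (k n : ℕ) (p : MvPolynomial (Fin r) A) :
    ev a k (MvPolynomial.homogeneousComponent n p) = if k = n then ev a n p else 0 := by
  induction p using MvPolynomial.induction_on' with
  | monomial m c =>
    rw [MvPolynomial.homogeneousComponent_of_mem
      (MvPolynomial.isHomogeneous_monomial (R := A) c rfl)]
    by_cases h : n = m.degree
    · rw [if_pos h]
      split_ifs with hk
      · rw [hk]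
      · exact ev_monomial_of_ne a m c k (by rw [← h]; exact hk)
    · rw [if_neg h, ev_zero]
      split_ifs with hk
      · exact (ev_monomial_of_ne a m c n h).symm
      · rfl
  | add p q hp hq =>
    rw [map_add, ev_add, hp, hq]
    split_ifs
    · rw [ev_add]
    · rw [add_zero]

/-- The polynomials with `ev n p ∈ 𝔧 n`. -/
noncomputable def evIdeal (𝔧 : ℕ → Ideal A) (hj : ∀ n, J * 𝔧 n ≤ 𝔧 (n + 1)) :
    Ideal (MvPolynomial (Fin r) A) where
  carrier := {p | ∀ n, ev a n p ∈ 𝔧 n}
  zero_mem' := fun n => by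
    rw [ev_zero]
    exact zero_mem _
  add_mem' := fun {p q} hp hq n => by
    rw [ev_add]
    exact add_mem (hp n) (hq n)
  smul_mem' := fun c p hp => by
    change ∀ n, ev a n (c * p) ∈ 𝔧 n
    rw [mul_comm]
    induction c using MvPolynomial.induction_on with
    | C c =>
      intro n
      rw [mul_comm, ev_C_mul]
      exact Ideal.mul_mem_left _ _ (hp n)
    | add c d hc hd =>
      intro n
      rw [mul_add, ev_add]
      exact add_mem (hc n) (hd n)
    | mul_X c i hc =>
      intro n
      rw [← mul_assoc]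
      cases n with
      | zero =>
        rw [ev_mul_X_zero]
        exact zero_mem _
      | succ n =>
        rw [ev_mul_X_succ]
        exact hj n (Ideal.mul_mem_mul (a i).2 (hc n))

theorem mem_evIdeal {𝔧 : ℕ → Ideal A} {hj : ∀ n, J * 𝔧 n ≤ 𝔧 (n + 1)} {p : MvPolynomial (Fin r) A} :
    p ∈ evIdeal a 𝔧 hj ↔ ∀ n, ev a n p ∈ 𝔧 n := Iff.rfl

end Ev

section Map

variable {A B : Type u} [CommRing A] [CommRing B] [Algebra A B] {J : Ideal A} {r : ℕ} (a : Fin r → J)

variable (B) in
/-- the images of the generators -/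
def aB (i : Fin r) : J.map (algebraMap A B) := ⟨algebraMap A B (a i), Ideal.mem_map_of_mem _ (a i).2⟩

theorem ev_map (n : ℕ) (p : MvPolynomial (Fin r) A) :
    ev (aB B a) n (MvPolynomial.map (algebraMap A B) p) = algebraMap A B (ev a n p) := by
  induction p using MvPolynomial.induction_on generalizing n with
  | C c =>
    rw [MvPolynomial.map_C]
    cases n with
    | zero => rw [ev_C_zero, ev_C_zero]
    | succ n => rw [ev_C_succ, ev_C_succ, map_zero]
  | add p q hp hq => rw [map_add, ev_add, hp, hq, ev_add, map_add]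
  | mul_X p i hp =>
    rw [map_mul, MvPolynomial.map_X]
    cases n with
    | zero => rw [ev_mul_X_zero, ev_mul_X_zero, map_zero]
    | succ n =>
      rw [ev_mul_X_succ, ev_mul_X_succ, hp, map_mul]
      rfl

theorem mul_map_le {𝔧 : ℕ → Ideal A} (hj : ∀ n, J * 𝔧 n ≤ 𝔧 (n + 1)) (n : ℕ) :
    J.map (algebraMap A B) * (𝔧 n).map (algebraMap A B) ≤ (𝔧 (n + 1)).map (algebraMap A B) := by
  rw [← Ideal.map_mul]
  exact Ideal.map_mono (hj n)

theorem map_evIdeal_le (𝔧 : ℕ → Ideal A) (hj : ∀ n, J * 𝔧 n ≤ 𝔧 (n + 1)) :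
    (evIdeal a 𝔧 hj).map (MvPolynomial.map (algebraMap A B)) ≤
      evIdeal (aB B a) (fun n => (𝔧 n).map (algebraMap A B)) (mul_map_le hj) := by
  rw [Ideal.map_le_iff_le_comap]
  intro p hp n
  rw [ev_map]
  exact Ideal.mem_map_of_mem _ (hp n)

/-- Relations over a flat localization, with cleared denominators. -/
theorem exists_rel (S : Submonoid B) (L : Type u) [CommRing L] [Algebra B L] [IsLocalization S L]
    [Algebra A L] [IsScalarTower A B L] [Module.Flat A L] {ι : Type} [Fintype ι] (f : ι → A)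
    (x : ι → B) (h : ∑ i, algebraMap A B (f i) * x i = 0) :
    ∃ s ∈ S, ∃ (k : ℕ) (α : ι → Fin k → A) (z : Fin k → B),
      (∀ i, s * x i = ∑ j, algebraMap A B (α i j) * z j) ∧ ∀ j, ∑ i, f i * α i j = 0 := by
  classical
  have h1 : ∑ i, f i • algebraMap B L (x i) = 0 := by
    rw [← map_zero (algebraMap B L), ← h, map_sum]
    refine Finset.sum_congr rfl fun i _ => ?_
    rw [Algebra.smul_def, IsScalarTower.algebraMap_apply A B L, map_mul]
  obtain ⟨k, α, y, hx, hα⟩ := Module.Flat.isTrivialRelation_of_sum_smul_eq_zero h1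
  obtain ⟨t, ht⟩ := IsLocalization.exist_integer_multiples_of_finset S (Finset.univ.image y)
  choose! z hz using ht
  have hz' : ∀ j, algebraMap B L (z (y j)) = algebraMap B L t * y j := fun j => by
    rw [hz (y j) (Finset.mem_image_of_mem _ (Finset.mem_univ j)), Algebra.smul_def]
  have h2 : ∀ i, algebraMap B L (t * x i) = algebraMap B L (∑ j, algebraMap A B (α i j) * z (y j)) := by
    intro i
    have hx' : algebraMap B L (x i) = ∑ j, α i j • y j := hx i
    rw [map_mul, hx', map_sum, Finset.mul_sum]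
    refine Finset.sum_congr rfl fun j _ => ?_
    rw [map_mul, hz' j, Algebra.smul_def, IsScalarTower.algebraMap_apply A B L]
    ring
  have h3 : ∀ i, ∃ c : S, (c : B) * (t * x i) = c * ∑ j, algebraMap A B (α i j) * z (y j) := fun i =>
    (IsLocalization.eq_iff_exists S L).1 (h2 i)
  choose c hc using h3
  refine ⟨(∏ i, (c i : B)) * t, mul_mem (Submonoid.prod_mem _ fun i _ => (c i).2) t.2, k, α,
    fun j => (∏ i, (c i : B)) * z (y j), fun i => ?_, hα⟩
  rw [← Finset.prod_erase_mul Finset.univ (fun i => (c i : B)) (Finset.mem_univ i), mul_assoc, mul_assoc,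
    hc i, Finset.mul_sum, Finset.mul_sum]
  refine Finset.sum_congr rfl fun j _ => ?_
  ring

/-- the elements which are in an ideal up to `S` -/
theorem exists_sum {S : Submonoid B} {R' : Type*} [CommRing R'] (C : B →+* R') (𝔨 : Ideal R') {ι : Type*}
    (s : Finset ι) (p : ι → R') (h : ∀ i ∈ s, ∃ t ∈ S, C t * p i ∈ 𝔨) :
    ∃ t ∈ S, C t * ∑ i ∈ s, p i ∈ 𝔨 := by
  classical
  induction s using Finset.induction_on with
  | empty => exact ⟨1, one_mem _, by simp⟩
  | insert i s hi ih =>
    obtain ⟨t, ht, h1⟩ := h i (Finset.mem_insert_self i s)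
    obtain ⟨t', ht', h2⟩ := ih fun j hj => h j (Finset.mem_insert_of_mem hj)
    refine ⟨t * t', mul_mem ht ht', ?_⟩
    rw [Finset.sum_insert hi, mul_add, map_mul]
    refine add_mem ?_ ?_
    · rw [mul_comm (C t), mul_assoc]
      exact Ideal.mul_mem_left _ _ h1
    · rw [mul_assoc]
      exact Ideal.mul_mem_left _ _ h2

theorem exists_mul_mem_homogeneous (S : Submonoid B) (L : Type u) [CommRing L] [Algebra B L]
    [IsLocalization S L] [Algebra A L] [IsScalarTower A B L] [Module.Flat A L]
    (𝔧 : ℕ → Ideal A) (hj : ∀ n, J * 𝔧 n ≤ 𝔧 (n + 1)) (n : ℕ) (p : MvPolynomial (Fin r) B)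
    (hp : p.IsHomogeneous n) (h : ev (aB B a) n p ∈ (𝔧 n).map (algebraMap A B)) :
    ∃ s ∈ S, MvPolynomial.C s * p ∈ (evIdeal a 𝔧 hj).map (MvPolynomial.map (algebraMap A B)) := by
  classical
  -- the coefficients of the relation
  let e : (Fin r →₀ ℕ) → A := fun m => ev a n (MvPolynomial.monomial m 1)
  have h1 : ev (aB B a) n p = ∑ m : p.support, algebraMap A B (e m) * p.coeff m := by
    conv_lhs => rw [← evL_apply, ← p.support_sum_monomial_coeff, map_sum]
    rw [← Finset.sum_coe_sort]
    refine Finset.sum_congr rfl fun m _ => ?_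
    have h2 : (MvPolynomial.monomial (m : Fin r →₀ ℕ) (p.coeff m) : MvPolynomial (Fin r) B) =
        p.coeff m • MvPolynomial.map (algebraMap A B) (MvPolynomial.monomial (m : Fin r →₀ ℕ) (1 : A)) := by
      rw [MvPolynomial.map_monomial, map_one, MvPolynomial.smul_monomial, smul_eq_mul, mul_one]
    rw [h2, map_smul, evL_apply, ev_map, smul_eq_mul, mul_comm]
  obtain ⟨k, c, b, hcb⟩ : ∃ (k : ℕ) (c : Fin k → 𝔧 n) (b : Fin k → B),
      ev (aB B a) n p = ∑ j, algebraMap A B (c j) * b j := by
    have h3 : ∀ x ∈ (𝔧 n).map (algebraMap A B), ∃ (k : ℕ) (c : Fin k → 𝔧 n) (b : Fin k → B),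
        x = ∑ j, algebraMap A B (c j) * b j := by
      intro x hx
      rw [Ideal.map, Ideal.span, Submodule.mem_span_set'] at hx
      obtain ⟨k, f, g, hfg⟩ := hx
      choose c hc hc' using fun j => (g j).2
      refine ⟨k, fun j => ⟨c j, hc j⟩, f, ?_⟩
      rw [← hfg]
      refine Finset.sum_congr rfl fun j _ => ?_
      rw [smul_eq_mul, mul_comm]
      exact congrArg (fun t => t * f j) (hc' j).symm
    exact h3 _ h
  obtain ⟨s, hs, k', α, z, hz, hα⟩ := exists_rel (A := A) S L (ι := p.support ⊕ Fin k)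
    (Sum.elim (fun m => e m) (fun j => -(c j : A))) (Sum.elim (fun m => p.coeff m) b) (by
      rw [Fintype.sum_sum_type]
      simp only [Sum.elim_inl, Sum.elim_inr, map_neg, neg_mul, Finset.sum_neg_distrib]
      rw [← h1, ← hcb, add_neg_cancel])
  refine ⟨s, hs, ?_⟩
  let q : Fin k' → MvPolynomial (Fin r) A := fun l =>
    ∑ m : p.support, MvPolynomial.monomial (m : Fin r →₀ ℕ) (α (Sum.inl m) l)
  have hq : ∀ l, q l ∈ evIdeal a 𝔧 hj := by
    intro l n'
    by_cases hn : n' = n
    · subst hn
      have h4 : ev a n' (q l) = ∑ m : p.support, e m * α (Sum.inl m) l := by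
        rw [← evL_apply, map_sum]
        refine Finset.sum_congr rfl fun m _ => ?_
        have h2 : (MvPolynomial.monomial (m : Fin r →₀ ℕ) (α (Sum.inl m) l) : MvPolynomial (Fin r) A) =
            α (Sum.inl m) l • MvPolynomial.monomial (m : Fin r →₀ ℕ) (1 : A) := by
          rw [MvPolynomial.smul_monomial, smul_eq_mul, mul_one]
        rw [h2, map_smul, evL_apply, smul_eq_mul, mul_comm]
      have h5 := hα l
      rw [Fintype.sum_sum_type] at h5
      simp only [Sum.elim_inl, Sum.elim_inr, neg_mul, Finset.sum_neg_distrib] at h5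
      rw [h4, add_neg_eq_zero.1 h5]
      exact Ideal.sum_mem _ fun j _ => Ideal.mul_mem_right _ _ (c j).2
    · have h6 : ev a n' (q l) = 0 := by
        rw [← evL_apply, map_sum]
        refine Finset.sum_eq_zero fun m _ => ?_
        rw [evL_apply]
        refine ev_monomial_of_ne a _ _ _ ?_
        have h7 := hp (MvPolynomial.mem_support_iff.1 m.2)
        rw [Finsupp.degree_eq_weight_one]
        exact fun h => hn (h.trans h7)
      rw [h6]
      exact zero_mem _
  have h8 : MvPolynomial.C s * p = ∑ l, MvPolynomial.C (z l) * MvPolynomial.map (algebraMap A B) (q l) := by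
    conv_lhs => rw [← p.support_sum_monomial_coeff, Finset.mul_sum, ← Finset.sum_coe_sort]
    have h9 : ∀ m : p.support, (MvPolynomial.C s * MvPolynomial.monomial (m : Fin r →₀ ℕ) (p.coeff m) :
        MvPolynomial (Fin r) B) = ∑ l, MvPolynomial.monomial (m : Fin r →₀ ℕ)
          (algebraMap A B (α (Sum.inl m) l) * z l) := by
      intro m
      rw [MvPolynomial.C_mul_monomial, ← map_sum]
      exact congrArg _ (hz (Sum.inl m))
    rw [Finset.sum_congr rfl fun m _ => h9 m, Finset.sum_comm]
    refine Finset.sum_congr rfl fun l _ => ?_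
    rw [map_sum, Finset.mul_sum]
    refine Finset.sum_congr rfl fun m _ => ?_
    rw [MvPolynomial.map_monomial, MvPolynomial.C_mul_monomial, mul_comm]
  rw [h8]
  exact Ideal.sum_mem _ fun l _ => Ideal.mul_mem_left _ _ (Ideal.mem_map_of_mem _ (hq l))

/-- **Relations over a flat algebra.** -/
theorem exists_mul_mem (S : Submonoid B) (L : Type u) [CommRing L] [Algebra B L]
    [IsLocalization S L] [Algebra A L] [IsScalarTower A B L] [Module.Flat A L]
    (𝔧 : ℕ → Ideal A) (hj : ∀ n, J * 𝔧 n ≤ 𝔧 (n + 1)) (p : MvPolynomial (Fin r) B)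
    (h : ∀ n, ev (aB B a) n p ∈ (𝔧 n).map (algebraMap A B)) :
    ∃ s ∈ S, MvPolynomial.C s * p ∈ (evIdeal a 𝔧 hj).map (MvPolynomial.map (algebraMap A B)) := by
  rw [← p.sum_homogeneousComponent]
  refine exists_sum MvPolynomial.C _ _ _ fun n _ => ?_
  refine exists_mul_mem_homogeneous a S L 𝔧 hj n _ (MvPolynomial.homogeneousComponent_isHomogeneous n p) ?_
  rw [ev_homogeneousComponent, if_pos rfl]
  exact h n

end Map

end K177.GrFlat
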