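import Groth.Agent.LefX.K177.GrDepth
import Groth.Agent.LefX.K177.GrFlat

/-!
# Depth of graded modules, with a graded ring which is only locally the right one

`C` a quotient ring of `A[x_1, ..., x_r]` mapping onto `gr_J(A)`, resp. onto the Rees algebra of `J`, such that this
map is an isomorphism off `V(𝔠)`, and `depth C_p ≥ 2` for `p ⋖ q`, `p` off `V(𝔠)`, `q` in `V(𝔠)`.  Then the
cohomology on `Spec A - V(𝔠)` of the graded pieces of a locally free formal system (`good_of_depth2`), resp. of the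
powers of `J` (`pow_of_depth`), is finite and eventually generated in degrees `0`, `1`.
-/

set_option autoImplicit false
set_option linter.unusedSectionVars false
universe u

open CategoryTheory CategoryTheory.Limits AlgebraicGeometry Opposite TopologicalSpace

namespace K177.GrDepth2

open Groth.Agent
open Groth.Agent.FormalB.HMod Groth.Agent.FormalB.ModPow Groth.Agent.FormalB.PrincTower
  Groth.Agent.Sga2lef.H100.GrSys Groth.Agent.Sga2lef.H100 Groth.Agent.FormalB.PuncTheta
  Groth.Agent.FormalB.PuncTheta2 Groth.Agent.FormalB Groth.Agent.Fga.GrFam K177.GrFin K177.GrSheaf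
  K177.GrRees K177.GrAct K177.GrBasisAlg K177.GrLocFree K177.GrDepth

section Abs

/-- The two alternatives for the depth. -/
def Alt {S C : Type u} [CommRing S] [CommRing C] (f : S →+* C) (M : Type u) [AddCommGroup M] [Module S M]
    (P : Ideal S) [P.IsPrime] : Prop :=
  LocCoh.depth (Localization.AtPrime P) (LocalizedModule P.primeCompl M) = ⊤ ∨
    ∃ (P' : Ideal C) (_ : P'.IsPrime), P'.comap f = P ∧
      LocCoh.depth (Localization.AtPrime P') (LocalizedModule P'.primeCompl C) ≤
      LocCoh.depth (Localization.AtPrime P) (LocalizedModule P.primeCompl M)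

theorem depth_alt {S C : Type u} [CommRing S] [CommRing C] [IsNoetherianRing C] (f : S →+* C)
    (hs : Function.Surjective f) {M : Type u} [AddCommGroup M] [Module S M] (P : Ideal S) [P.IsPrime]
    {k : ℕ} (b : Fin k → M) (h1 : ∀ q : S, f q = 0 → ∀ m : M, q • m = 0)
    (h2 : ∀ w : M, ∃ s, s ∉ P ∧ ∃ v : Fin k → S, s • w = ∑ i, v i • b i)
    (h3 : ∀ v : Fin k → S, ∑ i, v i • b i = 0 → ∃ s, s ∉ P ∧ ∀ i, f (s * v i) = 0) :
    Alt f M P := by
  classical
  by_cases hker : RingHom.ker f ≤ P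
  · right
    have hprime : (P.map f).IsPrime := Ideal.map_isPrime_of_surjective hs hker
    have hcomap : (P.map f).comap f = P := by
      rw [Ideal.comap_map_of_surjective _ hs, sup_eq_left]
      exact hker
    refine ⟨P.map f, hprime, hcomap, ?_⟩
    let _ : Algebra S C := f.toAlgebra
    let π : (Fin k → S) →ₗ[S] (Fin k → C) := (Algebra.linearMap S C).compLeft (Fin k)
    have hπ : Function.Surjective π := by
      intro y
      choose z hz using fun i => hs (y i)
      exact ⟨z, funext hz⟩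
    let Θ : (Fin k → S) →ₗ[S] M := Fintype.linearCombination S b
    have hΘ : ∀ v, Θ v = ∑ i, v i • b i := fun v => Fintype.linearCombination_apply _ _ _
    have hle : LinearMap.ker π ≤ LinearMap.ker Θ := by
      intro v hv
      rw [LinearMap.mem_ker] at hv ⊢
      rw [hΘ]
      exact Finset.sum_eq_zero fun i _ => h1 (v i) (congrFun hv i) _
    obtain ⟨g, hg⟩ := exists_factor π hπ Θ hle
    have hC : ∀ s, s ∉ P → s ∉ (P.map f).comap (algebraMap S C) := by
      intro s hs' h
      apply hs'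
      have h5 : s ∈ (P.map f).comap f := h
      rw [hcomap] at h5
      exact h5
    have h5 := depth_ge (S := S) (B := C) hs (P.map f) g
      (fun w => by
        obtain ⟨s, hs', v, hv⟩ := h2 w
        exact ⟨s, hC s hs', π v, by rw [hg, hΘ, hv]⟩)
      (fun y hy => by
        obtain ⟨v, rfl⟩ := hπ y
        rw [hg, hΘ] at hy
        obtain ⟨s, hs', hsv⟩ := h3 v hy
        refine ⟨s, hC s hs', ?_⟩
        rw [← map_smul]
        exact funext fun i => hsv i)
    refine h5.trans (le_of_eq ?_)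
    exact depth_prime_congr _ hcomap
  · left
    obtain ⟨q, hq, hqP⟩ := SetLike.not_le_iff_exists.1 hker
    exact depth_localized_eq_top _ P q hqP (h1 q hq)

theorem finite_H_of_alt {S C : Type u} [CommRing S] [IsNoetherianRing S] [CommRing C]
    (f : S →+* C) (hs : Function.Surjective f) (R : Type u) [CommRing R] [IsRegularRing R] (π : R →+* S)
    (hπ : Function.Surjective π) (I : Ideal S) (M : Type u) [AddCommGroup M] [Module S M] [Module.Finite S M]
    (h : ∀ P : PrimeSpectrum S, ¬ I ≤ P.asIdeal → Alt f M P.asIdeal) (hD : DepthHyp C (I.map f)) :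
    ∀ i : ℕ, i ≤ 2 → Module.Finite S (LocCoh.H I i M) :=
  (Groth.Agent.S2930.result R S π hπ I M 2).2 (by
    intro p q hp hq hpq
    rcases h p hp with h | ⟨P', hP', hcomap, hle⟩
    · rw [h]; exact le_top
    · refine le_trans ?_ hle
      have hkq : RingHom.ker f ≤ q.asIdeal := by
        refine le_trans ?_ hpq.le
        change _ ≤ p.asIdeal
        rw [← hcomap]
        exact Ideal.ker_le_comap _
      have hprime : (q.asIdeal.map f).IsPrime := Ideal.map_isPrime_of_surjective hs hkq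
      have hcq : (q.asIdeal.map f).comap f = q.asIdeal := by
        rw [Ideal.comap_map_of_surjective _ hs, sup_eq_left]
        exact hkq
      refine hD ⟨P', hP'⟩ ⟨q.asIdeal.map f, hprime⟩ ?_ ?_ ?_
      · intro h
        apply hp
        rw [Ideal.map_le_iff_le_comap] at h
        rw [← hcomap]
        exact h
      · exact Ideal.map_mono hq
      · refine covBy_of_comap f hs ?_
        have e1 : PrimeSpectrum.comap f ⟨P', hP'⟩ = p := PrimeSpectrum.ext hcomap
        have e2 : PrimeSpectrum.comap f ⟨q.asIdeal.map f, hprime⟩ = q := PrimeSpectrum.ext hcq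
        rw [e1, e2]
        exact hpq)

end Abs

section Main

variable {A : Type u} [CommRing A] [IsNoetherianRing A] {J 𝔠 : Ideal A}
  {r : ℕ} (a : Fin r → J)
  {C : Type u} [CommRing C] [IsNoetherianRing C] (f : MvPolynomial (Fin r) A →+* C)
  (hsurj : Function.Surjective f)

/-- the point of `Spec A` below a prime of the polynomial ring. -/
noncomputable abbrev pt (P : Ideal (MvPolynomial (Fin r) A)) [P.IsPrime] : Spec (CommRingCat.of A) :=
  (⟨P.comap (algebraMap A (MvPolynomial (Fin r) A)), inferInstance⟩ : PrimeSpectrum A)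

omit [IsNoetherianRing A] in
theorem pt_mem (P : Ideal (MvPolynomial (Fin r) A)) [P.IsPrime]
    (hP : ¬ 𝔠.map (algebraMap A (MvPolynomial (Fin r) A)) ≤ P) : pt P ∈ LocCoh.puncturedOpen A 𝔠 := by
  intro h
  apply hP
  rw [Ideal.map_le_iff_le_comap]
  exact h

omit [IsNoetherianRing A] in
theorem C_notMem (P : Ideal (MvPolynomial (Fin r) A)) [P.IsPrime] (s : A) (hs : s ∈ (pr (pt P)).primeCompl) :
    (MvPolynomial.C s : MvPolynomial (Fin r) A) ∉ P := hs

section Formal

variable {G : ℕᵒᵖ ⥤ (↑(LocCoh.puncturedOpen A 𝔠) : Scheme.{u}).Modules}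
  (hG : IsFormal J G) (hcoh : ∀ n : ℕ, Coh.IsCoh (G.obj (op n)))
  (hfree : ∀ n : ℕ, Formal2.IsFinLocFreeMod J (n + 1) (G.obj (op n)))
  (N : Submodule A ((Gam (LocCoh.puncturedOpen A 𝔠)).obj (G.obj (op 0)))) (hN : N.FG)
  (hN' : IsTorsOn (LocCoh.puncturedOpen A 𝔠)
    (((Gam (LocCoh.puncturedOpen A 𝔠)).obj (G.obj (op 0)) : Type u) ⧸ N))
  (hf1 : ∀ p, f p = 0 → ∀ n, ev a n p ∈ J ^ (n + 1))
  (hf2 : ∀ x ∈ LocCoh.puncturedOpen A 𝔠, ∀ p, (∀ n, ev a n p ∈ J ^ (n + 1)) →
    ∃ s ∈ (pr x).primeCompl, f (MvPolynomial.C s * p) = 0)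

omit [IsNoetherianRing C] in
include hf1 in
theorem ker_smul_tot' (q : MvPolynomial (Fin r) A) (hq : f q = 0)
    (w : (famN (LocCoh.puncturedOpen A 𝔠) hG a N).Tot) : q • w = 0 := by
  have hw : w ∈ Submodule.span (MvPolynomial (Fin r) A)
      (Set.range (o0 (LocCoh.puncturedOpen A 𝔠) hG a N)) := by
    rw [span_o0]; trivial
  have hq' : toGr a q = 0 := (toGr_eq_zero_iff a q).2 (hf1 q hq)
  induction hw using Submodule.span_induction with
  | mem w hw =>
    obtain ⟨m, rfl⟩ := hw
    exact ker_smul _ hG a N q hq' m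
  | zero => rw [smul_zero]
  | add x y _ _ hx hy => rw [smul_add, hx, hy, add_zero]
  | smul p x _ hx => rw [smul_comm, hx, smul_zero]

include hcoh hfree hN hN' hsurj hf1 hf2 in
theorem alt_famN (P : Ideal (MvPolynomial (Fin r) A)) [P.IsPrime]
    (hP : ¬ 𝔠.map (algebraMap A (MvPolynomial (Fin r) A)) ≤ P) :
    Alt f (famN (LocCoh.puncturedOpen A 𝔠) hG a N).Tot P := by
  have hU : IsCompact (LocCoh.puncturedOpen A 𝔠 : Set (Spec (CommRingCat.of A))) :=
    Groth.Agent.FormalA.InjSec.isCompact_opens _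
  have hx := pt_mem P hP
  obtain ⟨k, b, h1, h3⟩ := exists_local (LocCoh.puncturedOpen A 𝔠) hG a N hU hcoh hfree hN hN' (pt P) hx
  refine depth_alt f hsurj P (fun i => o0 (LocCoh.puncturedOpen A 𝔠) hG a N (b i))
    (ker_smul_tot' a f hG N hf1) (fun w => ?_) (fun v hv => ?_)
  · obtain ⟨s, hs, v, hv⟩ := h1 w
    exact ⟨MvPolynomial.C s, C_notMem P s hs, v, hv⟩
  · obtain ⟨s, hs, hsv⟩ := h3 v hv
    obtain ⟨t, ht, htv⟩ := exists_common (S := (pr (pt P)).primeCompl)
      (p := fun i t => f (MvPolynomial.C t * (MvPolynomial.C s * v i)) = 0) (by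
        intro i t u _ h
        rw [map_mul MvPolynomial.C, mul_assoc, map_mul f, h, mul_zero])
      (fun i => hf2 (pt P) hx _ ((toGr_eq_zero_iff a _).1 (hsv i)))
    refine ⟨MvPolynomial.C t * MvPolynomial.C s, ?_, fun i => ?_⟩
    · rw [← map_mul]
      exact C_notMem P _ (mul_mem ht hs)
    · rw [mul_assoc]
      exact htv i

include hcoh hfree hsurj hf1 hf2 in
/-- **Finiteness and eventual generation of the cohomology of the graded pieces.** -/
theorem good_of_depth2 (ha : Ideal.span (Set.range fun i => (a i : A)) = J)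
    (R : Type u) [CommRing R] [IsRegularRing R] (π : R →+* A) (hπ : Function.Surjective π)
    (hD : DepthHyp C ((𝔠.map (algebraMap A (MvPolynomial (Fin r) A))).map f)) :
    Good (LocCoh.puncturedOpen A 𝔠) hG a 0 ∧ Good (LocCoh.puncturedOpen A 𝔠) hG a 1 := by
  have hU : IsCompact (LocCoh.puncturedOpen A 𝔠 : Set (Spec (CommRingCat.of A))) :=
    Groth.Agent.FormalA.InjSec.isCompact_opens _
  obtain ⟨N, hN, hN'⟩ := exists_fg_isTorsOn (LocCoh.puncturedOpen A 𝔠) hU (G.obj (op 0)) (hcoh 0)
  have hfin := finite_tot_famN hG a N hN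
  have hπ' : Function.Surjective (MvPolynomial.map (σ := Fin r) π) := MvPolynomial.map_surjective π hπ
  have hreg : IsRegularRing (MvPolynomial (Fin r) R) := inferInstance
  have key := finite_H_of_alt f hsurj (MvPolynomial (Fin r) R) (MvPolynomial.map π) hπ'
    (𝔠.map (algebraMap A (MvPolynomial (Fin r) A)))
    (famN (LocCoh.puncturedOpen A 𝔠) hG a N).Tot
    (fun P hP => alt_famN a f hsurj hG hcoh hfree N hN hN' hf1 hf2 P.asIdeal hP) hD
  exact ⟨good_zero hG a hcoh ha N hN hN' (key 1 (by norm_num)),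
    good_one hG a hcoh ha N hN' (key 2 le_rfl)⟩

end Formal

section Pow

/-- multiplication by `c` from `J^n` to `J^(n+1)` -/
def mulPow (c : J) (n : ℕ) : ↥(J ^ n) →ₗ[A] ↥(J ^ (n + 1)) where
  toFun x := ⟨(c : A) * x, by rw [pow_succ']; exact Ideal.mul_mem_mul c.2 x.2⟩
  map_add' x y := Subtype.ext (mul_add _ _ _)
  map_smul' s x := Subtype.ext (by
    change (c : A) * (s * x) = s * (c * x)
    ring)

/-- The family of the powers of `J`. -/
noncomputable def famJ : Fam A (Fin r) where
  M n := ↥(J ^ n)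
  x i n := mulPow (a i) n
  comm i j n m := Subtype.ext (by
    change (a i : A) * ((a j : A) * m) = a j * (a i * m)
    ring)

/-- the generator -/
noncomputable def u0 : (famJ a).Tot := (famJ a).of 0 (⟨1, by simp⟩ : ↥(J ^ 0))

/-- the value in degree `n` -/
noncomputable def vJ (n : ℕ) (w : (famJ a).Tot) : A := ((famJ a).pr n w : ↥(J ^ n)).1

theorem vJ_add (n : ℕ) (w w' : (famJ a).Tot) : vJ a n (w + w') = vJ a n w + vJ a n w' := by
  rw [vJ, map_add]; rfl

theorem vJ_smul (n : ℕ) (c : A) (w : (famJ a).Tot) : vJ a n (c • w) = c * vJ a n w := by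
  rw [vJ, map_smul]; rfl

theorem vJ_X_succ (n : ℕ) (i : Fin r) (w : (famJ a).Tot) :
    vJ a (n + 1) ((MvPolynomial.X i : MvPolynomial (Fin r) A) • w) = a i * vJ a n w := by
  rw [Fam.X_smul, vJ, pr_X_succ]; rfl

theorem vJ_X_zero (i : Fin r) (w : (famJ a).Tot) :
    vJ a 0 ((MvPolynomial.X i : MvPolynomial (Fin r) A) • w) = 0 := by
  rw [Fam.X_smul, vJ, pr_X_zero]; rfl

theorem vJ_u0_zero : vJ a 0 (u0 a) = 1 := congrArg Subtype.val ((famJ a).pr_of_self 0 _)

theorem vJ_u0_succ (n : ℕ) : vJ a (n + 1) (u0 a) = 0 :=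
  congrArg Subtype.val ((famJ a).pr_of_ne (Nat.succ_ne_zero n).symm _)

theorem vJ_ext {w w' : (famJ a).Tot} (h : ∀ n, vJ a n w = vJ a n w') : w = w' :=
  (famJ a).tot_ext fun n => Subtype.ext (h n)

/-- **The action formula.** -/
theorem actJ (p : MvPolynomial (Fin r) A) (n : ℕ) : vJ a n (p • u0 a) = ev a n p := by
  induction p using MvPolynomial.induction_on generalizing n with
  | C c =>
    rw [Fam.C_smul, vJ_smul]
    cases n with
    | zero => rw [vJ_u0_zero, mul_one, ev_C_zero]
    | succ n => rw [vJ_u0_succ, mul_zero, ev_C_succ]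
  | add p q hp hq => rw [add_smul, vJ_add, hp, hq, ev_add]
  | mul_X p i hp =>
    rw [mul_comm, mul_smul, mul_comm]
    cases n with
    | zero => rw [vJ_X_zero, ev_mul_X_zero]
    | succ n => rw [vJ_X_succ, hp, ev_mul_X_succ]

theorem smul_u0_eq_zero_iff (p : MvPolynomial (Fin r) A) : p • u0 a = 0 ↔ ∀ n, ev a n p = 0 := by
  constructor
  · intro h n
    rw [← actJ, h, vJ, map_zero]
    rfl
  · intro h
    refine vJ_ext a fun n => ?_
    rw [actJ, h n, vJ, map_zero]
    rfl

theorem exists_smul_u0 (ha : Ideal.span (Set.range fun i => (a i : A)) = J) (w : (famJ a).Tot) :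
    ∃ p : MvPolynomial (Fin r) A, p • u0 a = w := by
  induction w using Fam.tot_induction with
  | h0 => exact ⟨0, zero_smul _ _⟩
  | hof n m =>
    obtain ⟨p, hp⟩ := rho_surjective a ha (mono n (m : ↥(J ^ n)).1 (m : ↥(J ^ n)).2)
    refine ⟨p, vJ_ext a fun k => ?_⟩
    rw [actJ, ev, hp]
    change (Polynomial.monomial n (m : ↥(J ^ n)).1).coeff k = _
    rw [Polynomial.coeff_monomial]
    split_ifs with h
    · subst h
      exact (congrArg Subtype.val ((famJ a).pr_of_self n m)).symm
    · exact (congrArg Subtype.val ((famJ a).pr_of_ne h m)).symm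
  | hadd w w' h h' =>
    obtain ⟨p, rfl⟩ := h
    obtain ⟨q, rfl⟩ := h'
    exact ⟨p + q, add_smul _ _ _⟩

theorem finite_tot_famJ (ha : Ideal.span (Set.range fun i => (a i : A)) = J) :
    Module.Finite (MvPolynomial (Fin r) A) (famJ a).Tot :=
  Module.Finite.of_surjective (LinearMap.toSpanSingleton (MvPolynomial (Fin r) A) _ (u0 a))
    (exists_smul_u0 a ha)

variable (hf1 : ∀ p, f p = 0 → ∀ n, ev a n p = 0)
  (hf2 : ∀ x ∈ LocCoh.puncturedOpen A 𝔠, ∀ p, (∀ n, ev a n p = 0) →
    ∃ s ∈ (pr x).primeCompl, f (MvPolynomial.C s * p) = 0)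

include hsurj hf1 hf2 in
theorem alt_famJ (ha : Ideal.span (Set.range fun i => (a i : A)) = J)
    (P : Ideal (MvPolynomial (Fin r) A)) [P.IsPrime]
    (hP : ¬ 𝔠.map (algebraMap A (MvPolynomial (Fin r) A)) ≤ P) :
    Alt f (famJ a).Tot P := by
  have hx := pt_mem P hP
  refine depth_alt f hsurj P (k := 1) (fun _ => u0 a) (fun q hq w => ?_) (fun w => ?_) (fun v hv => ?_)
  · obtain ⟨p, rfl⟩ := exists_smul_u0 a ha w
    rw [smul_comm, (smul_u0_eq_zero_iff a q).2 (hf1 q hq), smul_zero]
  · obtain ⟨p, rfl⟩ := exists_smul_u0 a ha w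
    exact ⟨1, fun h => P.ne_top_iff_one.1 (Ideal.IsPrime.ne_top ‹_›) h, fun _ => p, by simp⟩
  · rw [Fin.sum_univ_one, smul_u0_eq_zero_iff] at hv
    obtain ⟨s, hs, h⟩ := hf2 (pt P) hx (v 0) hv
    refine ⟨MvPolynomial.C s, C_notMem P s hs, fun i => ?_⟩
    rw [Fin.fin_one_eq_zero i]
    exact h

include hsurj hf1 hf2 in
/-- **Finiteness and eventual generation of the cohomology of the powers of `J`.** -/
theorem pow_of_depth (ha : Ideal.span (Set.range fun i => (a i : A)) = J)
    (R : Type u) [CommRing R] [IsRegularRing R] (π : R →+* A) (hπ : Function.Surjective π)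
    (hD : DepthHyp C ((𝔠.map (algebraMap A (MvPolynomial (Fin r) A))).map f)) (j : ℕ) (hj : j ≤ 1) :
    (∀ n, Module.Finite A (((punc 𝔠).T.T j).obj (ModuleCat.of A ↥(J ^ n)))) ∧
    ∃ N : ℕ, ∀ n, N ≤ n → (⊤ : Submodule A (((punc 𝔠).T.T j).obj (ModuleCat.of A ↥(J ^ (n + 1))))) ≤
      ⨆ i, LinearMap.range (((punc 𝔠).T.T j).map (ModuleCat.ofHom (mulPow (a i) n))).hom := by
  have hfin := finite_tot_famJ a ha
  have hπ' : Function.Surjective (MvPolynomial.map (σ := Fin r) π) := MvPolynomial.map_surjective π hπ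
  have hreg : IsRegularRing (MvPolynomial (Fin r) R) := inferInstance
  have key := finite_H_of_alt f hsurj (MvPolynomial (Fin r) R) (MvPolynomial.map π) hπ'
    (𝔠.map (algebraMap A (MvPolynomial (Fin r) A))) (famJ a).Tot
    (fun P hP => alt_famJ a f hsurj hf1 hf2 ha P.asIdeal hP) hD
  interval_cases j
  · exact main_zero (punc 𝔠) (famJ a) hfin (key 1 (by norm_num))
  · exact main_one (punc 𝔠) (famJ a) (key 2 le_rfl)

end Pow

end Main

end K177.GrDepth2
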