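import Groth.Agent.LefX.K177.UpDelta
import Groth.Agent.FormalB.PuncDelta
import Groth.Agent.Localalg.InjDecomp
import Mathlib.Algebra.Category.ModuleCat.ChangeOfRingsExact

/-!
# Punctured spectrum cohomology over a flat algebra

`Facts 𝔠` : a delta functor `T` on `A`-modules with `η : M → T^0 M` having the formal properties of
`M ↦ H^j(Spec A - V(𝔠), M~)`.  For `S` flat over `A` it lifts to `S`-modules (`Facts.base`).
-/

set_option autoImplicit false
universe u

open CategoryTheory CategoryTheory.Limits TensorProduct
open Groth.Agent.Localalg.DeltaFun Groth.Agent.Localalg.LCAbs Groth.Agent.Localalg.Gam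
open Groth.Agent.FormalB K177.UpDelta

namespace K177.GrFin

/-- The formal properties of the cohomology of the punctured spectrum. -/
structure Facts {A : Type u} [CommRing A] (𝔠 : Ideal A) where
  /-- the delta functor -/
  T : DeltaFunctor (ModuleCat.{u} A) (ModuleCat.{u} A)
  /-- the canonical map -/
  η : 𝟭 (ModuleCat.{u} A) ⟶ T.T 0
  surj : ∀ (J : ModuleCat.{u} A) [Injective J], Function.Surjective (η.app J).hom
  zero_iff : ∀ (M : ModuleCat.{u} A) (m : M), (η.app M).hom m = 0 ↔ m ∈ gam 𝔠 M
  inj : ∀ {M N : ModuleCat.{u} A} (φ : M ⟶ N) [Mono φ], Function.Injective ((T.T 0).map φ).hom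
  van : ∀ (J : ModuleCat.{u} A) [Injective J], IsZero ((T.T 1).obj J)
  lin : ∀ (n : ℕ) (M : ModuleCat.{u} A) (a : A) (x : (T.T n).obj M),
    ((T.T n).map (a • 𝟙 M)).hom x = a • x

section Base

variable {A S : Type u} [CommRing A] [CommRing S] [Algebra A S]

/-- Over a flat algebra injective modules stay injective. -/
theorem injective_restrict [Module.Flat A S] (E : Type u) [AddCommGroup E] [Module S E] [Module A E]
    [IsScalarTower A S E] (hE : Module.Injective S E) : Module.Injective A E := by
  refine ⟨fun X Y _ _ _ _ f hf g => ?_⟩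
  obtain ⟨h, hh⟩ := hE.out (f.baseChange S) (Module.Flat.lTensor_preserves_injective_linearMap f hf)
    (g.liftBaseChange S)
  refine ⟨(LinearMap.liftBaseChangeEquiv S).symm h, fun x => ?_⟩
  rw [LinearMap.liftBaseChangeEquiv_symm_apply]
  have := hh (1 ⊗ₜ x)
  rw [LinearMap.baseChange_tmul] at this
  rw [this, LinearMap.liftBaseChange_tmul, one_smul]

/-- restriction of scalars -/
noncomputable abbrev res (A S : Type u) [CommRing A] [CommRing S] [Algebra A S] :
    ModuleCat.{u} S ⥤ ModuleCat.{u} A := ModuleCat.restrictScalars (algebraMap A S)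

theorem injective_res [Module.Flat A S] (J : ModuleCat.{u} S) [Injective J] :
    Injective ((res A S).obj J) := by
  letI : Module A J := Module.compHom J (algebraMap A S)
  haveI : IsScalarTower A S J := ⟨fun a s x => by
    rw [Algebra.smul_def, mul_smul]; rfl⟩
  have h1 := moduleInjective J
  have h2 : Module.Injective A J := injective_restrict (S := S) J h1
  exact (Module.injective_iff_injective_object A ((res A S).obj J)).1 h2

theorem gam_res (𝔠 : Ideal A) (M : ModuleCat.{u} S) (m : M) :
    m ∈ gam 𝔠 ((res A S).obj M) ↔ m ∈ gam (𝔠.map (algebraMap A S)) M := by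
  constructor
  · rintro ⟨n, hn⟩
    refine ⟨n, fun s hs => ?_⟩
    rw [← Ideal.map_pow] at hs
    have : Ideal.map (algebraMap A S) (𝔠 ^ n) ≤ Ideal.torsionOf S M m :=
      Ideal.map_le_iff_le_comap.2 fun a ha => hn a ha
    exact this hs
  · rintro ⟨n, hn⟩
    refine ⟨n, fun a ha => ?_⟩
    have := hn (algebraMap A S a) (by
      rw [← Ideal.map_pow]
      exact Ideal.mem_map_of_mem _ ha)
    exact this

variable {𝔠 : Ideal A} (F : Facts 𝔠)

variable (S) in
/-- the lifted delta functor -/
noncomputable def baseT : DeltaFunctor (ModuleCat.{u} S) (ModuleCat.{u} S) :=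
  upDelta S (PuncDelta.precomp (res A S) F.T)

variable (S) in
/-- the lifted unit -/
noncomputable def baseη : 𝟭 (ModuleCat.{u} S) ⟶ (baseT S F).T 0 where
  app M := ModuleCat.ofHom
    { toFun := fun m => (F.η.app ((res A S).obj M)).hom m
      map_add' := fun x y => map_add (F.η.app ((res A S).obj M)).hom x y
      map_smul' := fun s x => by
        have h := F.η.naturality ((res A S).map (s • 𝟙 M))
        exact congrArg (fun t => t.hom x) h }
  naturality M N f := by
    ext x
    exact congrArg (fun t => t.hom x) (F.η.naturality ((res A S).map f))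

theorem isZero_up {c : ModuleCat.{u} S} {F : ModuleCat.{u} S ⥤ ModuleCat.{u} A} [F.Additive]
    (h : IsZero (F.obj c)) : IsZero ((up S F).obj c) := by
  have := ModuleCat.subsingleton_of_isZero h
  have : Subsingleton ((up S F).obj c) := this
  exact ModuleCat.isZero_of_subsingleton _

variable (S) in
/-- The lifted facts. -/
noncomputable def Facts.base [Module.Flat A S] : Facts (𝔠.map (algebraMap A S)) where
  T := baseT S F
  η := baseη S F
  surj J _ := by
    have := injective_res (A := A) J
    intro y
    obtain ⟨x, hx⟩ := F.surj ((res A S).obj J) y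
    exact ⟨x, hx⟩
  zero_iff M m := (F.zero_iff ((res A S).obj M) m).trans (gam_res 𝔠 M m)
  inj {M N} φ _ x y hxy := F.inj ((res A S).map φ) hxy
  van J _ := by
    have := injective_res (A := A) J
    exact isZero_up (F.van _)
  lin n M a x := rfl

end Base

end K177.GrFin
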