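import Groth.Agent.LefX.K177.GrFacts
import Groth.Agent.Fga.GrFam

/-!
# Graded finiteness of the cohomology of a punctured spectrum

`A` Noetherian, `𝔠` an ideal, `T` the cohomology of `Spec A - V(𝔠)` (`Facts 𝔠`), `G` a graded family of
`A`-modules with commuting operators `x_1, ..., x_r`.  If `H^1`, resp. `H^2`, of the total module with support
in `V(𝔠)` is finite over `A[x_1, ..., x_r]`, then `T^0(G_n)`, resp. `T^1(G_n)`, is finite over `A` and
`T^j(G_{n+1}) = ∑ x_i T^j(G_n)` for `n` large.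
-/

set_option autoImplicit false
universe u

open CategoryTheory CategoryTheory.Limits
open Groth.Agent.Localalg.DeltaFun Groth.Agent.Localalg.LCAbs Groth.Agent.Localalg.Gam
open Groth.Agent.FormalB K177.UpDelta
open Groth.Agent.Fga.GrFam

namespace K177.GrFin

section Torsion

variable {A : Type u} [CommRing A] [IsNoetherianRing A] {𝔠 : Ideal A}

theorem mem_gam_of_forall {M : Type u} [AddCommGroup M] [Module A M] (n : ℕ) (m : M)
    (h : ∀ c ∈ 𝔠 ^ n, c • m ∈ gam 𝔠 M) : m ∈ gam 𝔠 M := by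
  classical
  obtain ⟨s, hs⟩ := IsNoetherian.noetherian (𝔠 ^ n)
  have hs' : ∀ c ∈ s, ∃ k : ℕ, ∀ a ∈ 𝔠 ^ k, a • c • m = 0 := fun c hc =>
    h c (hs ▸ Ideal.subset_span hc)
  choose! k hk using hs'
  refine ⟨s.sup k + n, fun a ha => ?_⟩
  rw [pow_add] at ha
  refine Submodule.mul_induction_on ha (fun b hb c hc => ?_) fun x y hx hy => by
    rw [add_smul, hx, hy, add_zero]
  rw [← hs] at hc
  refine Submodule.span_induction (p := fun c _ => (b * c) • m = 0) (fun c hc => ?_) ?_ ?_ ?_ hc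
  · rw [mul_smul]
    exact hk c hc b (Ideal.pow_le_pow_right (Finset.le_sup hc) hb)
  · rw [mul_zero, zero_smul]
  · intro x y _ _ hx hy
    rw [mul_add, add_smul, hx, hy, add_zero]
  · intro t x _ hx
    rw [smul_eq_mul, mul_left_comm, mul_smul, hx, smul_zero]

theorem Facts.notors (Φ : Facts 𝔠) (M : ModuleCat.{u} A) (z : (Φ.T.T 0).obj M) (n : ℕ)
    (h : ∀ c ∈ 𝔠 ^ n, c • z = 0) : z = 0 := by
  have := (injSES_shortExact M).mono_f
  apply Φ.inj (injSES M).f
  rw [map_zero]
  obtain ⟨j, hj⟩ := Φ.surj (injSES M).X₂ (((Φ.T.T 0).map (injSES M).f).hom z)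
  rw [← hj]
  refine (Φ.zero_iff _ j).2 (mem_gam_of_forall n j fun c hc => ?_)
  refine (Φ.zero_iff _ _).1 ?_
  have h1 : (Φ.η.app (injSES M).X₂).hom (c • j) = c • (Φ.η.app (injSES M).X₂).hom j := map_smul _ _ _
  refine h1.trans ?_
  rw [hj, ← map_smul, h c hc, map_zero]

theorem Facts.compact_zero (Φ : Facts 𝔠) {P : ModuleCat.{u} A} {M : ℕ → ModuleCat.{u} A}
    (pr : ∀ n, P ⟶ M n) (h : ∀ m : P, ∃ N : ℕ, ∀ n, N ≤ n → (pr n).hom m = 0)
    (y : (Φ.T.T 0).obj P) : ∃ N : ℕ, ∀ n, N ≤ n → ((Φ.T.T 0).map (pr n)).hom y = 0 := by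
  classical
  obtain ⟨k, hk⟩ := DeltaComp.torsion_coker (lc 𝔠) Φ.T Φ.η Φ.surj Φ.zero_iff Φ.inj P
    (Submodule.Quotient.mk y)
  obtain ⟨s, hs⟩ := IsNoetherian.noetherian (𝔠 ^ k)
  have h1 : ∀ c ∈ s, ∃ N : ℕ, ∀ n, N ≤ n → ((Φ.T.T 0).map (pr n)).hom (c • y) = 0 := by
    intro c hc
    have h2 := hk c (hs ▸ Ideal.subset_span hc)
    rw [← Submodule.Quotient.mk_smul, Submodule.Quotient.mk_eq_zero] at h2
    obtain ⟨m, hm⟩ := h2
    obtain ⟨N, hN⟩ := h m
    refine ⟨N, fun n hn => ?_⟩
    rw [← hm]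
    refine (DeltaComp.η_nat Φ.T Φ.η (pr n) m).trans ?_
    exact (congrArg (Φ.η.app (M n)).hom (hN n hn)).trans (map_zero _)
  choose! N hN using h1
  refine ⟨s.sup N, fun n hn => Φ.notors _ _ k fun c hc => ?_⟩
  rw [← hs] at hc
  refine Submodule.span_induction (p := fun c _ => c • ((Φ.T.T 0).map (pr n)).hom y = 0)
    (fun c hc => ?_) ?_ ?_ ?_ hc
  · rw [← map_smul]
    exact hN c hc n ((Finset.le_sup hc).trans hn)
  · rw [zero_smul]
  · intro x y _ _ hx hy
    rw [add_smul, hx, hy, add_zero]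
  · intro t x _ hx
    rw [smul_assoc, hx, smul_zero]

theorem Facts.compact_one (Φ : Facts 𝔠) {Z : ShortComplex (ModuleCat.{u} A)} (hZ : Z.ShortExact)
    [Injective Z.X₂] {Y : ℕ → ShortComplex (ModuleCat.{u} A)} (hY : ∀ n, (Y n).ShortExact)
    (pr : ∀ n, Z ⟶ Y n) (h : ∀ m : Z.X₃, ∃ N : ℕ, ∀ n, N ≤ n → (pr n).τ₃.hom m = 0)
    (y : (Φ.T.T 1).obj Z.X₁) : ∃ N : ℕ, ∀ n, N ≤ n → ((Φ.T.T 1).map (pr n).τ₁).hom y = 0 := by
  have h1 : Epi (Φ.T.δ hZ 0) := epi_δ Φ.T hZ 0 (Φ.van Z.X₂)
  obtain ⟨z, rfl⟩ := (ModuleCat.epi_iff_surjective _).1 h1 y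
  obtain ⟨N, hN⟩ := Φ.compact_zero (fun n => (pr n).τ₃) h z
  refine ⟨N, fun n hn => ?_⟩
  have h2 := congrArg (fun t => t.hom z) (Φ.T.naturality hZ (hY n) (pr n) 0)
  refine h2.symm.trans ?_
  exact (congrArg (Φ.T.δ (hY n) 0).hom (hN n hn)).trans (map_zero _)

end Torsion

section InjSum

theorem injective_directSum {R : Type u} [CommRing R] [IsNoetherianRing R]
    (E : ℕ → Type u) [∀ i, AddCommGroup (E i)] [∀ i, Module R (E i)]
    (hE : ∀ i, Module.Injective R (E i)) : Module.Injective R (DirectSum ℕ E) := by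
  classical
  refine Module.Baer.injective fun I g => ?_
  obtain ⟨F, hF⟩ : ∃ F : Finset ℕ, ∀ (x : I) (i : ℕ), i ∉ F → g x i = 0 := by
    obtain ⟨s, hs⟩ := (Module.finite_def (R := R) (M := I)).1 inferInstance
    refine ⟨s.biUnion fun x => (g x).support, fun x i hi => ?_⟩
    have hx : x ∈ Submodule.span R (s : Set I) := hs ▸ Submodule.mem_top
    induction hx using Submodule.span_induction with
    | mem y hy =>
      by_contra h
      exact hi (Finset.mem_biUnion.2 ⟨y, hy, by simpa [DFinsupp.mem_support_iff] using h⟩)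
    | zero => simp
    | add y z _ _ hy hz => simp [hy, hz]
    | smul a y _ hy =>
      rw [map_smul, DirectSum.smul_apply, hy, smul_zero]
  have hB : ∀ i, Module.Baer R (E i) := fun i => Module.Baer.of_injective (hE i)
  choose g' hg' using fun i => hB i I (DirectSum.component R ℕ E i ∘ₗ g)
  refine ⟨∑ i ∈ F, DirectSum.lof R ℕ E i ∘ₗ g' i, fun x hx => ?_⟩
  have h1 : (∑ i ∈ F, DirectSum.lof R ℕ E i ∘ₗ g' i) x
      = ∑ i ∈ F, DirectSum.lof R ℕ E i (g ⟨x, hx⟩ i) := by
    rw [LinearMap.sum_apply]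
    refine Finset.sum_congr rfl fun i _ => ?_
    rw [LinearMap.comp_apply, hg' i x hx]
    rfl
  rw [h1]
  ext j
  rw [DFinsupp.finsetSum_apply]
  by_cases hj : j ∈ F
  · rw [Finset.sum_eq_single_of_mem j hj]
    · rw [DirectSum.lof_apply]
    · intro i _ hij
      rw [DirectSum.lof_eq_of, DirectSum.of_eq_of_ne _ _ _ hij.symm]
  · rw [hF _ _ hj]
    refine Finset.sum_eq_zero fun i hi => ?_
    rw [DirectSum.lof_eq_of, DirectSum.of_eq_of_ne]
    rintro rfl
    exact hj hi

end InjSum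

section SumSES

variable {A : Type u} [CommRing A]

open DirectSum

/-- direct sum of short complexes -/
noncomputable def sumSES (Y : ℕ → ShortComplex (ModuleCat.{u} A)) : ShortComplex (ModuleCat.{u} A) where
  X₁ := ModuleCat.of A (⨁ n, (Y n).X₁)
  X₂ := ModuleCat.of A (⨁ n, (Y n).X₂)
  X₃ := ModuleCat.of A (⨁ n, (Y n).X₃)
  f := ModuleCat.ofHom (DirectSum.lmap fun n => (Y n).f.hom)
  g := ModuleCat.ofHom (DirectSum.lmap fun n => (Y n).g.hom)
  zero := by
    refine ModuleCat.hom_ext (LinearMap.ext fun x => DFinsupp.ext fun n => ?_)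
    exact congrArg (fun t => t.hom (x n)) (Y n).zero

/-- projection -/
noncomputable def sumSESPr (Y : ℕ → ShortComplex (ModuleCat.{u} A)) (n : ℕ) : sumSES Y ⟶ Y n where
  τ₁ := ModuleCat.ofHom (DirectSum.component A ℕ (fun n => (Y n).X₁) n)
  τ₂ := ModuleCat.ofHom (DirectSum.component A ℕ (fun n => (Y n).X₂) n)
  τ₃ := ModuleCat.ofHom (DirectSum.component A ℕ (fun n => (Y n).X₃) n)
  comm₁₂ := rfl
  comm₂₃ := rfl

theorem sumSES_shortExact {Y : ℕ → ShortComplex (ModuleCat.{u} A)} (hY : ∀ n, (Y n).ShortExact) :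
    (sumSES Y).ShortExact where
  exact := by
    rw [ShortComplex.moduleCat_exact_iff]
    intro (x : ⨁ n, (Y n).X₂) (hx : DirectSum.lmap (fun n => (Y n).g.hom) x = 0)
    have h1 : x ∈ LinearMap.range (DirectSum.lmap fun n => (Y n).f.hom) := by
      rw [DirectSum.range_lmap]
      intro n _
      obtain ⟨y, hy⟩ := (ShortComplex.moduleCat_exact_iff _).1 (hY n).exact (x n)
        (DFunLike.congr_fun hx n)
      exact ⟨y, hy⟩
    exact h1
  mono_f := by
    rw [ModuleCat.mono_iff_injective]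
    exact (DirectSum.lmap_injective _).2 fun n => (ModuleCat.mono_iff_injective _).1 (hY n).mono_f
  epi_g := by
    rw [ModuleCat.epi_iff_surjective]
    exact (DirectSum.lmap_surjective _).2 fun n => (ModuleCat.epi_iff_surjective _).1 (hY n).epi_g

theorem exists_bound {E : ℕ → Type u} [∀ n, AddCommGroup (E n)] (m : ⨁ n, E n) :
    ∃ N : ℕ, ∀ n, N ≤ n → m n = 0 := by
  classical
  refine ⟨m.support.sup id + 1, fun n hn => ?_⟩
  by_contra h
  have h1 : n ∈ m.support := by rwa [DFinsupp.mem_support_iff]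
  have := Finset.le_sup (f := id) h1
  simp only [id] at this
  omega

variable [IsNoetherianRing A] {𝔠 : Ideal A} (Φ : Facts 𝔠)

/-- projection from the direct sum -/
noncomputable abbrev prA (M : ℕ → Type u) [∀ n, AddCommGroup (M n)] [∀ n, Module A (M n)] (n : ℕ) :
    ModuleCat.of A (⨁ n, M n) ⟶ ModuleCat.of A (M n) :=
  ModuleCat.ofHom (DirectSum.component A ℕ M n)

theorem Facts.compact_sum_zero (M : ℕ → Type u) [∀ n, AddCommGroup (M n)] [∀ n, Module A (M n)]
    (y : (Φ.T.T 0).obj (ModuleCat.of A (⨁ n, M n))) :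
    ∃ N : ℕ, ∀ n, N ≤ n → ((Φ.T.T 0).map (prA M n)).hom y = 0 :=
  Φ.compact_zero (prA M) (fun m => exists_bound (E := M) m) y

theorem Facts.compact_sum_one (M : ℕ → Type u) [∀ n, AddCommGroup (M n)] [∀ n, Module A (M n)]
    (y : (Φ.T.T 1).obj (ModuleCat.of A (⨁ n, M n))) :
    ∃ N : ℕ, ∀ n, N ≤ n → ((Φ.T.T 1).map (prA M n)).hom y = 0 := by
  let Y : ℕ → ShortComplex (ModuleCat.{u} A) := fun n => injSES (ModuleCat.of A (M n))
  have hY : ∀ n, (Y n).ShortExact := fun n => injSES_shortExact _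
  have hinj : Module.Injective A (⨁ n, (Y n).X₂) := by
    refine injective_directSum _ fun n => ?_
    have : Injective (Y n).X₂ := by
      change Injective (Injective.under _)
      infer_instance
    exact moduleInjective (Y n).X₂
  have : Injective (sumSES Y).X₂ :=
    (Module.injective_iff_injective_object A (⨁ n, (Y n).X₂)).1 hinj
  exact Φ.compact_one (sumSES_shortExact hY) hY (sumSESPr Y) (fun m => exists_bound (E := fun n => (Y n).X₃) m) y

end SumSES

section Graded

variable {A : Type u} [CommRing A] {r : ℕ} (G : Fam A (Fin r))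

theorem pr_X_succ (i : Fin r) (n : ℕ) (w : G.Tot) : G.pr (n + 1) (G.X i w) = G.x i n (G.pr n w) := by
  induction w using Fam.tot_induction with
  | h0 => simp
  | hof s m =>
    rw [Fam.X_of]
    by_cases h : s = n
    · subst h
      rw [Fam.pr_of_self, Fam.pr_of_self]
    · rw [Fam.pr_of_ne _ h, Fam.pr_of_ne _ (by omega), map_zero]
  | hadd w w' h h' => rw [map_add, map_add, h, h', map_add, map_add]

theorem pr_X_zero (i : Fin r) (w : G.Tot) : G.pr 0 (G.X i w) = 0 := by
  induction w using Fam.tot_induction with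
  | h0 => simp
  | hof s m =>
    rw [Fam.X_of, Fam.pr_of_ne _ (by omega)]
  | hadd w w' h h' => rw [map_add, map_add, h, h', add_zero]

/-- the total module as a module over the polynomial ring, restricted to `A` -/
noncomputable abbrev TotS : ModuleCat.{u} (MvPolynomial (Fin r) A) :=
  ModuleCat.of (MvPolynomial (Fin r) A) G.Tot

/-- the total module, restricted to `A` -/
noncomputable abbrev TotR : ModuleCat.{u} A := (res A (MvPolynomial (Fin r) A)).obj (TotS G)

/-- identity -/
noncomputable def toTotR : ModuleCat.of A G.Tot ⟶ TotR G := ModuleCat.ofHom (Y := TotR G)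
  { toFun := fun w => w
    map_add' := fun _ _ => rfl
    map_smul' := fun a w => (G.C_smul a w).symm }

/-- identity -/
noncomputable def ofTotR : TotR G ⟶ ModuleCat.of A G.Tot := ModuleCat.ofHom (X := TotR G)
  { toFun := fun w => w
    map_add' := fun _ _ => rfl
    map_smul' := fun a w => G.C_smul a w }

/-- projection -/
noncomputable def prR (n : ℕ) : TotR G ⟶ ModuleCat.of A (G.M n) := ofTotR G ≫ ModuleCat.ofHom (G.pr n)

/-- inclusion -/
noncomputable def ofR (n : ℕ) : ModuleCat.of A (G.M n) ⟶ TotR G := ModuleCat.ofHom (G.of n) ≫ toTotR G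

theorem ofR_prR (n : ℕ) : ofR G n ≫ prR G n = 𝟙 _ := by
  refine ModuleCat.hom_ext (LinearMap.ext fun w => ?_)
  exact G.pr_of_self n w

theorem X_prR_succ (i : Fin r) (n : ℕ) :
    (res A (MvPolynomial (Fin r) A)).map ((MvPolynomial.X i : MvPolynomial (Fin r) A) • 𝟙 (TotS G)) ≫
      prR G (n + 1) = prR G n ≫ ModuleCat.ofHom (G.x i n) := by
  refine ModuleCat.hom_ext (LinearMap.ext fun (w : G.Tot) => ?_)
  change G.pr (n + 1) ((MvPolynomial.X i : MvPolynomial (Fin r) A) • w) = _
  rw [G.X_smul]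
  exact pr_X_succ G i n w

theorem X_prR_zero (i : Fin r) :
    (res A (MvPolynomial (Fin r) A)).map ((MvPolynomial.X i : MvPolynomial (Fin r) A) • 𝟙 (TotS G)) ≫
      prR G 0 = 0 := by
  refine ModuleCat.hom_ext (LinearMap.ext fun (w : G.Tot) => ?_)
  change G.pr 0 ((MvPolynomial.X i : MvPolynomial (Fin r) A) • w) = _
  rw [G.X_smul]
  exact pr_X_zero G i w

theorem C_prR (a : A) (n : ℕ) :
    (res A (MvPolynomial (Fin r) A)).map ((MvPolynomial.C a : MvPolynomial (Fin r) A) • 𝟙 (TotS G)) ≫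
      prR G n = prR G n ≫ (a • 𝟙 _) := by
  refine ModuleCat.hom_ext (LinearMap.ext fun (w : G.Tot) => ?_)
  change G.pr n ((MvPolynomial.C a : MvPolynomial (Fin r) A) • w) = a • G.pr n w
  rw [G.C_smul, map_smul]

/-- the images of the generators -/
def VV (H : ModuleCat.{u} A ⥤ ModuleCat.{u} A) (s : Finset (H.obj (TotR G))) :
    ∀ n : ℕ, Submodule A (H.obj (ModuleCat.of A (G.M n)))
  | 0 => Submodule.span A ((fun e => (H.map (prR G 0)).hom e) '' (s : Set (H.obj (TotR G))))
  | n + 1 => Submodule.span A ((fun e => (H.map (prR G (n + 1))).hom e) '' (s : Set (H.obj (TotR G)))) ⊔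
      ⨆ i, (VV H s n).map (H.map (ModuleCat.ofHom (G.x i n))).hom

variable (H : ModuleCat.{u} A ⥤ ModuleCat.{u} A)

theorem fg_VV (s : Finset (H.obj (TotR G))) (n : ℕ) : (VV G H s n).FG := by
  induction n with
  | zero =>
    exact Submodule.fg_span ((s.finite_toSet).image _)
  | succ n ih =>
    exact Submodule.FG.sup (Submodule.fg_span ((s.finite_toSet).image _))
      (Submodule.fg_iSup _ fun i => ih.map _)

theorem mem_VV_of_mem (s : Finset (H.obj (TotR G))) (n : ℕ) (e : H.obj (TotR G)) (he : e ∈ s) :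
    (H.map (prR G n)).hom e ∈ VV G H s n := by
  cases n with
  | zero => exact Submodule.subset_span ⟨e, he, rfl⟩
  | succ n => exact Submodule.mem_sup_left (Submodule.subset_span ⟨e, he, rfl⟩)

variable [H.Additive]
  (lin : ∀ (M : ModuleCat.{u} A) (a : A) (x : H.obj M), (H.map (a • 𝟙 M)).hom x = a • x)

include lin in
/-- the submodule `W` -/
theorem mem_VV (s : Finset ((up (MvPolynomial (Fin r) A) (res A (MvPolynomial (Fin r) A) ⋙ H)).obj (TotS G)))
    (hs : Submodule.span (MvPolynomial (Fin r) A)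
      (s : Set ((up (MvPolynomial (Fin r) A) (res A (MvPolynomial (Fin r) A) ⋙ H)).obj (TotS G))) = ⊤)
    (e : H.obj (TotR G)) (n : ℕ) : (H.map (prR G n)).hom e ∈ VV G H s n := by
  let W : Submodule (MvPolynomial (Fin r) A)
      ((up (MvPolynomial (Fin r) A) (res A (MvPolynomial (Fin r) A) ⋙ H)).obj (TotS G)) :=
    { carrier := {e | ∀ n : ℕ, (H.map (prR G n)).hom e ∈ VV G H s n}
      add_mem' := fun {a b} ha hb n => by
        have : (H.map (prR G n)).hom (a + b) = (H.map (prR G n)).hom a + (H.map (prR G n)).hom b :=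
          map_add (H.map (prR G n)).hom a b
        rw [this]
        exact add_mem (ha n) (hb n)
      zero_mem' := fun n => by
        have : (H.map (prR G n)).hom (0 : H.obj (TotR G)) = 0 := map_zero _
        exact this ▸ zero_mem _
      smul_mem' := fun p => by
        induction p using MvPolynomial.induction_on with
        | C a =>
          intro e he n
          have h1 := congrArg (fun t => (H.map t).hom e) (C_prR G a n)
          simp only [Functor.map_comp] at h1
          have h2 : (H.map (prR G n)).hom ((MvPolynomial.C a : MvPolynomial (Fin r) A) • e) =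
              a • (H.map (prR G n)).hom e := h1.trans (lin _ a _)
          rw [h2]
          exact Submodule.smul_mem _ a (he n)
        | add p q hp hq =>
          intro e he n
          rw [add_smul]
          have : (H.map (prR G n)).hom (p • e + q • e) = (H.map (prR G n)).hom (p • e) +
              (H.map (prR G n)).hom (q • e) := map_add (H.map (prR G n)).hom (p • e) (q • e)
          rw [this]
          exact add_mem (hp he n) (hq he n)
        | mul_X p i hp =>
          intro e he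
          rw [mul_smul]
          refine hp fun n => ?_
          cases n with
          | zero =>
            have h1 := congrArg (fun t => (H.map t).hom e) (X_prR_zero G i)
            simp only [Functor.map_comp] at h1
            have h3 : H.map (0 : TotR G ⟶ ModuleCat.of A (G.M 0)) = 0 := H.map_zero _ _
            have h2 : (H.map (prR G 0)).hom ((MvPolynomial.X i : MvPolynomial (Fin r) A) • e) = 0 :=
              h1.trans (congrArg (fun t => t.hom e) h3)
            rw [h2]
            exact zero_mem _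
          | succ n =>
            have h1 := congrArg (fun t => (H.map t).hom e) (X_prR_succ G i n)
            simp only [Functor.map_comp] at h1
            have h2 : (H.map (prR G (n + 1))).hom ((MvPolynomial.X i : MvPolynomial (Fin r) A) • e) =
              (H.map (ModuleCat.ofHom (G.x i n))).hom ((H.map (prR G n)).hom e) := h1
            rw [h2]
            exact Submodule.mem_sup_right (Submodule.mem_iSup_of_mem i
              (Submodule.mem_map_of_mem (he n))) }
  have h1 : Submodule.span (MvPolynomial (Fin r) A)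
      (s : Set ((up (MvPolynomial (Fin r) A) (res A (MvPolynomial (Fin r) A) ⋙ H)).obj (TotS G))) ≤ W :=
    Submodule.span_le.2 fun e he n => mem_VV_of_mem G H s n e he
  have h2 : e ∈ W := h1 (hs ▸ Submodule.mem_top)
  exact h2 n

include lin in
theorem VV_eq_top (s : Finset ((up (MvPolynomial (Fin r) A) (res A (MvPolynomial (Fin r) A) ⋙ H)).obj (TotS G)))
    (hs : Submodule.span (MvPolynomial (Fin r) A)
      (s : Set ((up (MvPolynomial (Fin r) A) (res A (MvPolynomial (Fin r) A) ⋙ H)).obj (TotS G))) = ⊤) (n : ℕ) :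
    VV G H s n = ⊤ := by
  rw [eq_top_iff]
  intro v _
  have h1 := mem_VV G H lin s hs ((H.map (ofR G n)).hom v) n
  have h2 := congrArg (fun t => (H.map t).hom v) (ofR_prR G n)
  simp only [Functor.map_comp] at h2
  have h3 : (H.map (prR G n)).hom ((H.map (ofR G n)).hom v) = v :=
    h2.trans (congrArg (fun t => t.hom v) (H.map_id _))
  rwa [h3] at h1

include lin in
/-- **Graded finiteness** (algebraic part). -/
theorem graded
    (hfin : Module.Finite (MvPolynomial (Fin r) A)
      ((up (MvPolynomial (Fin r) A) (res A (MvPolynomial (Fin r) A) ⋙ H)).obj (TotS G)))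
    (hc : ∀ y : H.obj (TotR G), ∃ N : ℕ, ∀ n, N ≤ n → (H.map (prR G n)).hom y = 0) :
    (∀ n, Module.Finite A (H.obj (ModuleCat.of A (G.M n)))) ∧
    ∃ N : ℕ, ∀ n, N ≤ n → (⊤ : Submodule A (H.obj (ModuleCat.of A (G.M (n + 1))))) ≤
      ⨆ i, LinearMap.range (H.map (ModuleCat.ofHom (G.x i n))).hom := by
  classical
  obtain ⟨s, hs⟩ := hfin.fg_top
  refine ⟨fun n => ⟨?_⟩, ?_⟩
  · rw [← VV_eq_top G H lin s hs n]
    exact fg_VV G H s n
  · choose N hN using hc
    refine ⟨s.sup N, fun n hn => ?_⟩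
    rw [← VV_eq_top G H lin s hs (n + 1)]
    refine sup_le (Submodule.span_le.2 ?_) (iSup_mono fun i => LinearMap.map_le_range)
    rintro _ ⟨e, he, rfl⟩
    have h1 : (H.map (prR G (n + 1))).hom e = 0 :=
      hN e (n + 1) ((Finset.le_sup (f := N) he).trans (hn.trans (Nat.le_succ n)))
    change (H.map (prR G (n + 1))).hom e ∈ _
    rw [h1]
    exact zero_mem _

end Graded

section Main

variable {A : Type u} [CommRing A] [IsNoetherianRing A] {𝔠 : Ideal A} (Φ : Facts 𝔠)
  {r : ℕ} (G : Fam A (Fin r))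

theorem compact_TotR (j : ℕ)
    (h : ∀ (y : (Φ.T.T j).obj (ModuleCat.of A (DirectSum ℕ G.M))),
      ∃ N : ℕ, ∀ n, N ≤ n → ((Φ.T.T j).map (prA G.M n)).hom y = 0)
    (y : (Φ.T.T j).obj (TotR G)) : ∃ N : ℕ, ∀ n, N ≤ n → ((Φ.T.T j).map (prR G n)).hom y = 0 := by
  obtain ⟨N, hN⟩ := h (((Φ.T.T j).map (ofTotR G)).hom y)
  refine ⟨N, fun n hn => ?_⟩
  have h1 := (Φ.T.T j).map_comp (ofTotR G) (ModuleCat.ofHom (G.pr n))
  exact (congrArg (fun t => t.hom y) h1).trans (hN n hn)

/-- Degree `0`. -/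
theorem main_zero (hfin : Module.Finite (MvPolynomial (Fin r) A) G.Tot)
    (h : Module.Finite (MvPolynomial (Fin r) A)
      (LocCoh.H (𝔠.map (algebraMap A (MvPolynomial (Fin r) A))) 1 G.Tot)) :
    (∀ n, Module.Finite A ((Φ.T.T 0).obj (ModuleCat.of A (G.M n)))) ∧
    ∃ N : ℕ, ∀ n, N ≤ n → (⊤ : Submodule A ((Φ.T.T 0).obj (ModuleCat.of A (G.M (n + 1))))) ≤
      ⨆ i, LinearMap.range ((Φ.T.T 0).map (ModuleCat.ofHom (G.x i n))).hom := by
  let Ψ := Φ.base (MvPolynomial (Fin r) A)
  have h1 : Module.Finite (MvPolynomial (Fin r) A) ((Ψ.T.T 0).obj (TotS G)) :=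
    DeltaComp.finite_zero (lc _) Ψ.T Ψ.η Ψ.surj Ψ.zero_iff Ψ.inj (TotS G) hfin h
  exact graded G (Φ.T.T 0) (Φ.lin 0) h1 (compact_TotR Φ G 0 (Φ.compact_sum_zero G.M))

/-- Degree `1`. -/
theorem main_one (h : Module.Finite (MvPolynomial (Fin r) A)
      (LocCoh.H (𝔠.map (algebraMap A (MvPolynomial (Fin r) A))) 2 G.Tot)) :
    (∀ n, Module.Finite A ((Φ.T.T 1).obj (ModuleCat.of A (G.M n)))) ∧
    ∃ N : ℕ, ∀ n, N ≤ n → (⊤ : Submodule A ((Φ.T.T 1).obj (ModuleCat.of A (G.M (n + 1))))) ≤
      ⨆ i, LinearMap.range ((Φ.T.T 1).map (ModuleCat.ofHom (G.x i n))).hom := by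
  let Ψ := Φ.base (MvPolynomial (Fin r) A)
  have h1 : Module.Finite (MvPolynomial (Fin r) A) ((Ψ.T.T 1).obj (TotS G)) :=
    DeltaComp.finite_one (lc _) Ψ.T Ψ.η Ψ.surj Ψ.zero_iff Ψ.inj Ψ.van (TotS G) h
  exact graded G (Φ.T.T 1) (Φ.lin 1) h1 (compact_TotR Φ G 1 (Φ.compact_sum_one G.M))

end Main

end K177.GrFin
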