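import Groth.Agent.LefX.K177.GrAct
import Groth.Agent.LefX.K177.GrBasisAlg

/-!
# The graded module of a locally free formal system is locally a power of `gr_J(A)`
-/

set_option autoImplicit false
universe u

open CategoryTheory CategoryTheory.Limits AlgebraicGeometry Opposite TopologicalSpace

namespace K177.GrLocFree

open Groth.Agent
open Groth.Agent.FormalB.HMod Groth.Agent.FormalB.ModPow Groth.Agent.FormalB.PrincTower
  Groth.Agent.Sga2lef.H100.GrSys Groth.Agent.Sga2lef.H100 Groth.Agent.FormalB.PuncTheta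
  Groth.Agent.FormalB.PuncTheta2 Groth.Agent.FormalB Groth.Agent.Fga.GrFam K177.GrFin K177.GrSheaf
  K177.GrRees K177.GrAct K177.GrBasisAlg Groth.Agent.FormalB.FreeUpTo

variable {A : Type u} [CommRing A] [IsNoetherianRing A] (U : (Spec (CommRingCat.of A)).Opens)
  {J : Ideal A} {G : ℕᵒᵖ ⥤ (U : Scheme.{u}).Modules}

/-- The prime ideal of a point of `Spec A`. -/
abbrev pr (x : Spec (CommRingCat.of A)) : Ideal A := (show PrimeSpectrum A from x).asIdeal

/-- A basis of `G_n` over `A/J^(n+1)` near a point. -/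
theorem exists_basis (hU : IsCompact (U : Set (Spec (CommRingCat.of A)))) (n : ℕ)
    (hcoh : Coh.IsCoh (G.obj (op n))) (hfree : Formal2.IsFinLocFreeMod J (n + 1) (G.obj (op n)))
    (N : Submodule A ((Gam U).obj (G.obj (op n)))) (hN : N.FG)
    (hN' : IsTorsOn U (((Gam U).obj (G.obj (op n)) : Type u) ⧸ N))
    (x : Spec (CommRingCat.of A)) (hx : x ∈ U) :
    ∃ (κ : ℕ) (b : Fin κ → N), BasisUpTo (pr x).primeCompl (J ^ (n + 1))
      (fun j => (b j : (Gam U).obj (G.obj (op n)))) := by
  classical
  have hiso := isIso_subToMod U hU hcoh.1 N hN'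
  have hNf : Module.Finite A N := Module.Finite.iff_fg.2 hN
  have hNp : Module.FinitePresentation A N := Module.finitePresentation_of_finite A N
  have hB : Module.FinitePresentation A (A ⧸ J ^ (n + 1)) := Module.finitePresentation_of_finite A _
  obtain ⟨g, hxg, hgU, κ, hfr⟩ := FormalB.LocFreeTheta.exists_isFreeUpTo U J (n + 1) _ hfree
    (asIso (subToMod U N)) x hx
  obtain ⟨k, a, b, hba, hab⟩ := hfr
  have hg : ∀ l : ℕ, g ^ l ∈ (pr x).primeCompl := fun l =>
    Submonoid.pow_mem _ (show g ∉ (pr x) from hxg) l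
  have hsum : ∀ c : Fin κ → A, b (fun j => Ideal.Quotient.mk (J ^ (n + 1)) (c j)) =
      ∑ j, c j • b (Pi.single j 1) := by
    intro c
    have h1 : (fun j => Ideal.Quotient.mk (J ^ (n + 1)) (c j)) =
        ∑ j, c j • (Pi.single j (1 : A ⧸ J ^ (n + 1)) : Fin κ → A ⧸ J ^ (n + 1)) := by
      funext i
      rw [Finset.sum_apply, Finset.sum_eq_single i]
      · rw [Pi.smul_apply, Pi.single_eq_same, Algebra.smul_def, mul_one]
        rfl
      · intro j _ hj
        rw [Pi.smul_apply, Pi.single_eq_of_ne hj.symm, smul_zero]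
      · intro h; exact absurd (Finset.mem_univ i) h
    rw [h1, map_sum]
    exact Finset.sum_congr rfl fun j _ => map_smul _ _ _
  refine ⟨κ, fun j => b (Pi.single j 1), ?_, ?_⟩
  · intro y
    obtain ⟨l, hl⟩ := hN' g hgU (Submodule.Quotient.mk y)
    rw [← Submodule.Quotient.mk_smul, Submodule.Quotient.mk_eq_zero] at hl
    choose c hc using fun j => Ideal.Quotient.mk_surjective (a ⟨g ^ l • y, hl⟩ j)
    refine ⟨g ^ (k + l), hg _, c, ?_⟩
    have h1 := hba ⟨g ^ l • y, hl⟩
    have h2 : a ⟨g ^ l • y, hl⟩ = fun j => Ideal.Quotient.mk (J ^ (n + 1)) (c j) :=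
      funext fun j => (hc j).symm
    rw [h2, hsum] at h1
    have h3 := congrArg (fun t : N => (t : (Gam U).obj (G.obj (op n)))) h1
    simp only [Submodule.coe_sum, Submodule.coe_smul] at h3
    rw [h3, pow_add, mul_smul]
  · intro c hc
    refine ⟨g ^ k, hg _, fun j => ?_⟩
    have h1 : ∑ j, c j • b (Pi.single j 1) = 0 := by
      apply Subtype.ext
      refine Eq.trans ?_ hc
      simp only [Submodule.coe_sum, Submodule.coe_smul]
    have h2 := hab (fun j => Ideal.Quotient.mk (J ^ (n + 1)) (c j))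
    rw [hsum, h1, map_zero] at h2
    have h3 := (congrFun h2 j).symm
    rw [Pi.smul_apply, Pi.zero_apply, Algebra.smul_def] at h3
    have h4 : Ideal.Quotient.mk (J ^ (n + 1)) (g ^ k * c j) = 0 := by
      rw [map_mul]
      exact h3
    exact Ideal.Quotient.eq_zero_iff_mem.1 h4

variable (hG : IsFormal J G) {r : ℕ} (a : Fin r → J) (N : Submodule A ((Gam U).obj (G.obj (op 0))))

theorem span_o0 : Submodule.span (MvPolynomial (Fin r) A) (Set.range (o0 U hG a N)) = ⊤ := by
  classical
  let W : Submodule (MvPolynomial (Fin r) A) (famN U hG a N).Tot :=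
    Submodule.span (MvPolynomial (Fin r) A) (Set.range (o0 U hG a N))
  have h1 : ∀ n (m : (famN U hG a N).M n), (famN U hG a N).of n m ∈ W := by
    intro n
    induction n with
    | zero =>
      intro m
      exact Submodule.subset_span ⟨m, rfl⟩
    | succ n ih =>
      intro m
      have hm : m ∈ ⨆ i, LinearMap.range ((famN U hG a N).x i n) := gen_fam U hG a N n Submodule.mem_top
      induction hm using Submodule.iSup_induction' with
      | mem i z hz =>
        obtain ⟨t, rfl⟩ := hz
        rw [← Fam.X_of, ← Fam.X_smul]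
        exact W.smul_mem _ (ih t)
      | zero => rw [map_zero]; exact W.zero_mem
      | add x y _ _ hx hy => rw [map_add]; exact W.add_mem hx hy
  have h2 : ∀ w : (famN U hG a N).Tot, w ∈ W := fun w => by
    induction w using Fam.tot_induction with
    | h0 => exact W.zero_mem
    | hof n m => exact h1 n m
    | hadd w w' h h' => exact W.add_mem h h'
  exact eq_top_iff.2 fun w _ => h2 w

variable (hU : IsCompact (U : Set (Spec (CommRingCat.of A))))
  (hcoh : ∀ n : ℕ, Coh.IsCoh (G.obj (op n)))
  (hfree : ∀ n : ℕ, Formal2.IsFinLocFreeMod J (n + 1) (G.obj (op n)))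
  (hN : N.FG) (hN' : IsTorsOn U (((Gam U).obj (G.obj (op 0)) : Type u) ⧸ N))

include hU hcoh hfree hN hN' in
/-- Near a point of `U` the graded module is `gr_J(A)^k`. -/
theorem exists_local (x : Spec (CommRingCat.of A)) (hx : x ∈ U) :
    ∃ (k : ℕ) (b : Fin k → N),
      (∀ w : (famN U hG a N).Tot, ∃ s ∈ (pr x).primeCompl, ∃ v : Fin k → MvPolynomial (Fin r) A,
        (MvPolynomial.C s : MvPolynomial (Fin r) A) • w = ∑ i, v i • o0 U hG a N (b i)) ∧
      ∀ v : Fin k → MvPolynomial (Fin r) A, ∑ i, v i • o0 U hG a N (b i) = 0 →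
        ∃ s ∈ (pr x).primeCompl, ∀ i, toGr a (MvPolynomial.C s * v i) = 0 := by
  classical
  obtain ⟨k, b, hm⟩ := exists_basis U hU 0 (hcoh 0) (hfree 0) N hN hN' x hx
  have hm' : BasisUpTo (pr x).primeCompl J (fun j => (b j : (Gam U).obj (G.obj (op 0)))) := by
    rw [zero_add, pow_one] at hm
    exact hm
  refine ⟨k, b, fun w => ?_, fun v hv => ?_⟩
  · have hw : w ∈ Submodule.span (MvPolynomial (Fin r) A) (Set.range (o0 U hG a N)) := by
      rw [span_o0]; trivial
    induction hw using Submodule.span_induction with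
    | mem w hw =>
      obtain ⟨m', rfl⟩ := hw
      obtain ⟨s, hs, c, hc⟩ := hm'.1 m'.1
      refine ⟨s, hs, fun i => MvPolynomial.C (c i), ?_⟩
      have h1 : s • m' = ∑ j, c j • b j := by
        apply Subtype.ext
        simp only [Submodule.coe_sum, Submodule.coe_smul]
        exact hc
      rw [Fam.C_smul, ← map_smul, h1, map_sum]
      refine Finset.sum_congr rfl fun j _ => ?_
      rw [map_smul, Fam.C_smul]
    | zero => exact ⟨1, one_mem _, 0, by simp⟩
    | add w w' _ _ hw hw' =>
      obtain ⟨s, hs, v, hv⟩ := hw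
      obtain ⟨s', hs', v', hv'⟩ := hw'
      refine ⟨s * s', mul_mem hs hs', fun i => MvPolynomial.C s' * v i + MvPolynomial.C s * v' i, ?_⟩
      simp_rw [add_smul, Finset.sum_add_distrib, mul_smul, ← Finset.smul_sum]
      rw [← hv, ← hv', smul_add, map_mul, smul_smul, smul_smul, mul_comm (MvPolynomial.C s')]
    | smul p w _ hw =>
      obtain ⟨s, hs, v, hv⟩ := hw
      refine ⟨s, hs, fun i => p * v i, ?_⟩
      simp_rw [mul_smul, ← Finset.smul_sum]
      rw [← hv, smul_comm]
  · -- relations in each degree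
    have h1 : ∀ n, ∃ s ∈ (pr x).primeCompl, ∀ i, s * ev a n (v i) ∈ J ^ (n + 1) := by
      intro n
      obtain ⟨N', hN1, hN1'⟩ := exists_fg_isTorsOn U hU (G.obj (op n)) (hcoh n)
      obtain ⟨κ, e, he⟩ := exists_basis U hU n (hcoh n) (hfree n) N' hN1 hN1' x hx
      obtain ⟨g, hxg, hgU⟩ := exists_D_le hx
      have hepi := epi_t0 hG n
      refine relations (P₀ := (Gam U).obj (G.obj (op 0))) (P₁ := (Gam U).obj (G.obj (op n)))
        ((Gam U).map (t0 G n)).hom (fun y => ?_) (fun j => (b j).1) hm'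
        (fun j => (e j).1) he (fun i => ev a n (v i)) (fun i => ev_mem a n (v i))
        (fun i => ((Gam U).map (m hG n (ev a n (v i)) (ev_mem a n (v i)))).hom)
        (fun i z => GrFree.gam_m U hG n _ _ z) ?_
      · obtain ⟨l, z, hz⟩ := GrFree.exists_lift_of_epi U hU (hcoh n).1 (hcoh 0).1 (t0 G n) g hgU y
        exact ⟨g ^ l, Submonoid.pow_mem _ (show g ∉ (pr x) from hxg) l, z, hz⟩
      · have h2 := sum_act U hG a N v b n
        rw [hv, vl_zero] at h2
        have h3 := congrArg ((Gam U).map (io G n)).hom h2.symm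
        rw [map_zero, map_sum] at h3
        refine Eq.trans (Finset.sum_congr rfl fun i _ => ?_) h3
        have h4 := congrArg (fun t => ((Gam U).map t).hom (b i).1)
          (kap_io hG n (ev a n (v i)) (ev_mem a n (v i)))
        rw [Functor.map_comp] at h4
        exact h4.symm
    choose s hs hsv using h1
    obtain ⟨D, hD⟩ : ∃ D : ℕ, ∀ n, D ≤ n → ∀ i, ev a n (v i) = 0 := by
      refine ⟨Finset.univ.sup (fun i => ((rho a (v i) : reesAlgebra J) : Polynomial A).natDegree + 1),
        fun n hn i => ?_⟩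
      refine Polynomial.coeff_eq_zero_of_natDegree_lt ?_
      have := Finset.le_sup (f := fun i => ((rho a (v i) : reesAlgebra J) : Polynomial A).natDegree + 1)
        (Finset.mem_univ i)
      omega
    refine ⟨∏ n ∈ Finset.range D, s n, Submonoid.prod_mem _ fun n _ => hs n, fun i => ?_⟩
    rw [toGr_eq_zero_iff]
    intro n
    rw [ev_C_mul]
    by_cases hn : n < D
    · rw [← Finset.mul_prod_erase _ _ (Finset.mem_range.2 hn), mul_comm (s n), mul_assoc]
      exact Ideal.mul_mem_left _ _ (hsv n i)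
    · rw [hD n (not_lt.1 hn) i, mul_zero]
      exact zero_mem _

end K177.GrLocFree
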