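import Groth.Agent.LefX.K177.GrFin
import Groth.Agent.LefX.K177.EAlgebraize

/-!
# The graded family of modules attached to a formal system on a punctured spectrum

`G` a formal system for `J` on `V = Spec A - V(𝔠)`, `K n = ker (G_n → G_{n-1})`, `a i` generators of `J`.  There
are finite submodules `N n` of `Γ(V, K n)` with `(N n)~ = K n` on `V` and `N (n+1) = ∑ a_i N n`
(`exists_family`).  If `H^1_𝔠`, `H^2_𝔠` of the graded family `⨁ N n` are finite over `A[x_1, ..., x_r]` then
the cohomology of the graded pieces is finite and eventually generated.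
-/

set_option autoImplicit false
universe u

open CategoryTheory CategoryTheory.Limits AlgebraicGeometry Opposite TopologicalSpace

namespace K177.GrSheaf

open Groth.Agent
open Groth.Agent.FormalB.HMod Groth.Agent.FormalB.ModPow Groth.Agent.FormalB.PrincTower
  Groth.Agent.Sga2lef.H100.GrSys Groth.Agent.Sga2lef.H100 Groth.Agent.FormalB.PuncTheta
  Groth.Agent.FormalB.PuncTheta2 Groth.Agent.FormalB Groth.Agent.Fga.GrFam K177.GrFin

theorem theta_smul {A : Type u} [CommRing A] (U : (Spec (CommRingCat.of A)).Opens)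
    (M : ModuleCat.{u} A) (a : A) :
    (Theta U).map (a • 𝟙 M) = Formal.smulMod A ((Theta U).obj M) a :=
  theta_map_smul U M a

theorem hh_smul {A : Type u} [CommRing A] {X : Scheme.{u}} [X.Over (Spec (CommRingCat.of A))] (n : ℕ)
    (F : X.Modules) (a : A) (x : (HHDelta.hh X A n).obj F) :
    ((HHDelta.hh X A n).map (Formal.smulMod A F a)).hom x = a • x :=
  FormalA.HHLin.HHmap_smulMod A a n x

theorem lin_TU {A : Type u} [CommRing A] (U : (Spec (CommRingCat.of A)).Opens) (n : ℕ)
    (M : ModuleCat.{u} A) (a : A) (x : ((PuncDelta.TU U).T n).obj M) :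
    (((PuncDelta.TU U).T n).map (a • 𝟙 M)).hom x = a • x := by
  have h1 : ((PuncDelta.TU U).T n).map (a • 𝟙 M) =
    (HHDelta.hh (U : Scheme.{u}) A n).map ((Theta U).map (a • 𝟙 M)) := rfl
  rw [h1, theta_smul]
  exact hh_smul n _ a x

/-- The facts for the punctured spectrum. -/
noncomputable def punc {A : Type u} [CommRing A] [IsNoetherianRing A] (𝔠 : Ideal A) : Facts 𝔠 where
  T := PuncDelta.TU (LocCoh.puncturedOpen A 𝔠)
  η := PuncDelta.η _
  surj J _ := PuncDelta.η_surjective _ J
  zero_iff M m := PuncDelta.η_eq_zero_iff 𝔠 M m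
  inj φ _ := PuncDelta.TU_zero_injective _ φ
  van J _ := PuncDelta.isZero_hh_injective _ J 0
  lin n M a x := lin_TU _ n M a x

section Joint

attribute [local instance] Abelian.hasFiniteBiproducts

variable {A : Type u} [CommRing A] [IsNoetherianRing A] {X : Scheme.{u}} [X.Over (Spec (CommRingCat.of A))]
  {J : Ideal A} {G : ℕᵒᵖ ⥤ X.Modules}

/-- multiplications by generators of `J` are jointly epimorphic on the graded pieces. -/
theorem joint_epi (hG : IsFormal J G) {r : ℕ} (a : Fin r → J)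
    (ha : Ideal.span (Set.range fun i => (a i : A)) = J) (n : ℕ) {Z : X.Modules} (f : K G (n + 1) ⟶ Z)
    (h : ∀ i, kmu hG (a i) n ≫ f = 0) : f = 0 := by
  obtain ⟨s, w, hw⟩ := Submodule.fg_iff_exists_fin_generating_family.1
    (IsNoetherian.noetherian (J ^ (n + 1)))
  have hmem : ∀ i, w i ∈ J ^ (n + 1) := fun i => hw ▸ Submodule.subset_span ⟨i, rfl⟩
  have hspan : ∀ x ∈ J ^ (n + 1), ∃ c : Fin s → A, x - ∑ i, w i * c i ∈ J ^ (n + 2) := by
    intro x hx
    rw [← hw] at hx
    obtain ⟨c, hc⟩ := (Submodule.mem_span_range_iff_exists_fun A).1 hx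
    refine ⟨c, ?_⟩
    have : ∑ i, w i * c i = x := by
      rw [← hc]
      exact Finset.sum_congr rfl fun i _ => by rw [smul_eq_mul, mul_comm]
    rw [this, sub_self]
    exact zero_mem _
  have h1 : Epi (GrFree.Phi hG n w hmem) :=
    (ShortComplex.exact_iff_epi_kernel_lift _).1 (GrProj.exact_phi hG n hmem hspan)
  rw [← cancel_epi (GrFree.Phi hG n w hmem), comp_zero]
  refine biproduct.hom_ext' _ _ fun i => ?_
  rw [← Category.assoc, GrFree.ι_Phi, comp_zero]
  let S : AddSubgroup (G.obj (op 0) ⟶ K G (n + 1)) :=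
    { carrier := {φ | φ ≫ f = 0}
      zero_mem' := zero_comp
      add_mem' := fun {φ ψ} h h' => by
        change (φ + ψ) ≫ f = 0
        have h1 : φ ≫ f = 0 := h
        have h2 : ψ ≫ f = 0 := h'
        rw [Preadditive.add_comp, h1, h2, add_zero]
      neg_mem' := fun {φ} h => by
        change (-φ) ≫ f = 0
        have h1 : φ ≫ f = 0 := h
        rw [Preadditive.neg_comp, h1, neg_zero] }
  refine kap_ind hG a ha n S (fun i φ => ?_) (w i) (hmem i)
  change (φ ≫ kmu hG (a i) n) ≫ f = 0
  rw [Category.assoc, h i, comp_zero]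

end Joint

section Family

variable {A : Type u} [CommRing A] [IsNoetherianRing A] (U : (Spec (CommRingCat.of A)).Opens)
  {J : Ideal A} {G : ℕᵒᵖ ⥤ (U : Scheme.{u}).Modules}

theorem isCoh_K (hcoh : ∀ n : ℕ, Coh.IsCoh (G.obj (op n))) (n : ℕ) : Coh.IsCoh (K G n) := by
  cases n with
  | zero => exact hcoh 0
  | succ n =>
    have : IsLocallyNoetherian (U : Scheme.{u}) := inferInstance
    exact Groth.Agent.FormalB.FormalLoc.isCoh_kernel (tr G n) (hcoh (n + 1)) (hcoh n).1

/-- Joint epimorphisms are jointly surjective on sections, up to torsion. -/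
theorem isTorsOn_of_joint (hU : IsCompact (U : Set (Spec (CommRingCat.of A))))
    {M N : (U : Scheme.{u}).Modules} (hM : Coh.IsQCoh M) (hN : Coh.IsQCoh N) {r : ℕ}
    (x : Fin r → (M ⟶ N)) (hx : ∀ {Z : (U : Scheme.{u}).Modules} (f : N ⟶ Z), (∀ i, x i ≫ f = 0) → f = 0) :
    IsTorsOn U (((Gam U).obj N : Type u) ⧸ (⨆ i, LinearMap.range ((Gam U).map (x i)).hom)) := by
  classical
  let φ : (Fin r → (Gam U).obj M) →ₗ[A] (Gam U).obj N :=
    ∑ i, ((Gam U).map (x i)).hom ∘ₗ LinearMap.proj i
  have hφ : LinearMap.range φ ≤ ⨆ i, LinearMap.range ((Gam U).map (x i)).hom := by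
    rintro _ ⟨v, rfl⟩
    rw [LinearMap.sum_apply]
    exact Submodule.sum_mem _ fun i _ => Submodule.mem_iSup_of_mem i ⟨v i, rfl⟩
  have i1 := isIso_counit U hU M hM
  have i2 := isIso_counit U hU N hN
  have hepi : Epi (thetaMap U φ) := by
    rw [Preadditive.epi_iff_cancel_zero]
    intro Z f hf
    have h1 : inv ((adj U).counit.app N) ≫ f = 0 := by
      refine hx _ fun i => ?_
      have h2 : (Theta U).map ((Gam U).map (x i)) ≫ (adj U).counit.app N =
          (adj U).counit.app M ≫ x i := (adj U).counit.naturality (x i)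
      have h3 : x i = inv ((adj U).counit.app M) ≫ (Theta U).map ((Gam U).map (x i)) ≫
          (adj U).counit.app N := by rw [h2, IsIso.inv_hom_id_assoc]
      have h4 : ModuleCat.ofHom (LinearMap.single A (fun _ : Fin r => (Gam U).obj M) i) ≫
          ModuleCat.ofHom φ = (Gam U).map (x i) := by
        refine ModuleCat.hom_ext (LinearMap.ext fun y => ?_)
        change φ (Pi.single i y) = _
        rw [LinearMap.sum_apply, Finset.sum_eq_single i]
        · simp
        · intro j _ hj
          simp [Pi.single_eq_of_ne hj]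
        · intro h; exact absurd (Finset.mem_univ i) h
      have h5 : (Theta U).map ((Gam U).map (x i)) ≫ f = 0 := by
        rw [← h4, Functor.map_comp, Category.assoc]
        refine Eq.trans (congrArg (fun t => _ ≫ t) hf) comp_zero
      rw [h3, Category.assoc, Category.assoc, IsIso.hom_inv_id_assoc, h5, comp_zero]
    have h6 := congrArg (fun t => (adj U).counit.app N ≫ t) h1
    simpa using h6
  intro g hg q
  obtain ⟨y, rfl⟩ := Submodule.Quotient.mk_surjective _ q
  obtain ⟨k, hk⟩ := (epi_thetaMap_iff U φ).1 hepi g hg (Submodule.Quotient.mk y)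
  refine ⟨k, ?_⟩
  rw [← Submodule.Quotient.mk_smul, Submodule.Quotient.mk_eq_zero] at hk ⊢
  exact hφ hk

/-- The submodules generated from a submodule of sections of `G_0`. -/
noncomputable def NN (hG : IsFormal J G) {r : ℕ} (a : Fin r → J)
    (N : Submodule A ((Gam U).obj (G.obj (op 0)))) : ∀ n : ℕ, Submodule A ((Gam U).obj (K G n))
  | 0 => N
  | n + 1 => ⨆ i, (NN hG a N n).map ((Gam U).map (kmu hG (a i) n)).hom

variable (hG : IsFormal J G) {r : ℕ} (a : Fin r → J) (N : Submodule A ((Gam U).obj (G.obj (op 0))))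

theorem fg_NN (hN : N.FG) (n : ℕ) : (NN U hG a N n).FG := by
  induction n with
  | zero => exact hN
  | succ n ih => exact Submodule.fg_iSup _ fun i => ih.map _

theorem isTorsOn_NN (hU : IsCompact (U : Set (Spec (CommRingCat.of A))))
    (hcoh : ∀ n : ℕ, Coh.IsCoh (G.obj (op n)))
    (ha : Ideal.span (Set.range fun i => (a i : A)) = J)
    (hN : IsTorsOn U (((Gam U).obj (G.obj (op 0)) : Type u) ⧸ N)) (n : ℕ) :
    IsTorsOn U (((Gam U).obj (K G n) : Type u) ⧸ NN U hG a N n) := by
  classical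
  induction n with
  | zero => exact hN
  | succ n ih =>
    have h1 := isTorsOn_of_joint U hU (isCoh_K U hcoh n).1 (isCoh_K U hcoh (n + 1)).1
      (fun i => kmu hG (a i) n) (fun f hf => joint_epi hG a ha n f hf)
    intro g hg q
    obtain ⟨y, rfl⟩ := Submodule.Quotient.mk_surjective _ q
    obtain ⟨k, hk⟩ := h1 g hg (Submodule.Quotient.mk y)
    rw [← Submodule.Quotient.mk_smul, Submodule.Quotient.mk_eq_zero] at hk
    have h2 : ∀ z ∈ (⨆ i, LinearMap.range ((Gam U).map (kmu hG (a i) n)).hom : Submodule A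
        ((Gam U).obj (K G (n + 1)))), ∃ l : ℕ, g ^ l • z ∈ NN U hG a N (n + 1) := by
      intro z hz
      induction hz using Submodule.iSup_induction' with
      | mem i z hz =>
        obtain ⟨t, rfl⟩ := hz
        obtain ⟨l, hl⟩ := ih g hg (Submodule.Quotient.mk t)
        rw [← Submodule.Quotient.mk_smul, Submodule.Quotient.mk_eq_zero] at hl
        refine ⟨l, ?_⟩
        rw [← map_smul]
        exact Submodule.mem_iSup_of_mem i (Submodule.mem_map_of_mem hl)
      | zero => exact ⟨0, by rw [smul_zero]; exact zero_mem _⟩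
      | add x y _ _ hx hy =>
        obtain ⟨l, hl⟩ := hx
        obtain ⟨l', hl'⟩ := hy
        refine ⟨l + l', ?_⟩
        rw [smul_add]
        refine add_mem ?_ ?_
        · rw [pow_add, mul_comm, mul_smul]
          exact Submodule.smul_mem _ _ hl
        · rw [pow_add, mul_smul]
          exact Submodule.smul_mem _ _ hl'
    obtain ⟨l, hl⟩ := h2 _ hk
    refine ⟨l + k, ?_⟩
    rw [← Submodule.Quotient.mk_smul, Submodule.Quotient.mk_eq_zero, pow_add, mul_smul]
    exact hl

/-- The graded family. -/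
noncomputable def famN : Fam A (Fin r) where
  M n := NN U hG a N n
  x i n := ((Gam U).map (kmu hG (a i) n)).hom.restrict fun y hy =>
    Submodule.mem_iSup_of_mem i (Submodule.mem_map_of_mem hy)
  comm i j n y := by
    refine Subtype.ext ?_
    have h := congrArg (fun t => ((Gam U).map t).hom y.1) (kmu_comm hG (a j) (a i) n)
    simp only [Functor.map_comp] at h
    exact h

/-- The isomorphisms. -/
noncomputable def famMap (n : ℕ) : (Theta U).obj (ModuleCat.of A ((famN U hG a N).M n)) ⟶ K G n :=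
  subToMod U (NN U hG a N n)

theorem famMap_nat (i : Fin r) (n : ℕ) : (Theta U).map (ModuleCat.ofHom ((famN U hG a N).x i n)) ≫
    famMap U hG a N (n + 1) = famMap U hG a N n ≫ kmu hG (a i) n := by
  have h2 : (Theta U).map ((Gam U).map (kmu hG (a i) n)) ≫ (adj U).counit.app (K G (n + 1)) =
      (adj U).counit.app (K G n) ≫ kmu hG (a i) n := (adj U).counit.naturality _
  have h3 : ModuleCat.ofHom ((famN U hG a N).x i n) ≫ subHom (NN U hG a N (n + 1)) =
    subHom (NN U hG a N n) ≫ (Gam U).map (kmu hG (a i) n) := rfl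
  have h4 := congrArg (fun t => (Theta U).map t ≫ (adj U).counit.app (K G (n + 1))) h3
  have h5 := (Theta U).map_comp (ModuleCat.ofHom ((famN U hG a N).x i n)) (subHom (NN U hG a N (n + 1)))
  have h6 := (Theta U).map_comp (subHom (NN U hG a N n)) ((Gam U).map (kmu hG (a i) n))
  refine (Category.assoc _ _ _).symm.trans ?_
  refine (congrArg (fun t => t ≫ (adj U).counit.app (K G (n + 1))) h5.symm).trans (h4.trans ?_)
  refine (congrArg (fun t => t ≫ (adj U).counit.app (K G (n + 1))) h6).trans ?_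
  refine (Category.assoc _ _ _).trans ?_
  refine (congrArg (fun t => (Theta U).map (subHom (NN U hG a N n)) ≫ t) h2).trans ?_
  exact (Category.assoc _ _ _).symm

theorem gen_fam (n : ℕ) : (⊤ : Submodule A ((famN U hG a N).M (n + 1))) ≤
    ⨆ i, LinearMap.range ((famN U hG a N).x i n) := by
  intro y _
  have h1 : ∀ z : (Gam U).obj (K G (n + 1)), z ∈ NN U hG a N (n + 1) →
      ∃ w : (famN U hG a N).M (n + 1), w.1 = z ∧
        w ∈ ⨆ i, LinearMap.range ((famN U hG a N).x i n) := by
    intro z hz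
    change z ∈ ⨆ i, (NN U hG a N n).map ((Gam U).map (kmu hG (a i) n)).hom at hz
    induction hz using Submodule.iSup_induction' with
    | mem i z hz =>
      obtain ⟨t, ht, rfl⟩ := hz
      exact ⟨(famN U hG a N).x i n ⟨t, ht⟩, rfl, Submodule.mem_iSup_of_mem i ⟨⟨t, ht⟩, rfl⟩⟩
    | zero => exact ⟨0, rfl, zero_mem _⟩
    | add x y _ _ hx hy =>
      obtain ⟨w, hw, hw'⟩ := hx
      obtain ⟨v, hv, hv'⟩ := hy
      exact ⟨w + v, by rw [← hw, ← hv]; rfl, add_mem hw' hv'⟩
  obtain ⟨w, hw, hw'⟩ := h1 y.1 y.2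
  have : w = y := Subtype.ext hw
  rwa [← this]

end Family

section Finite

variable {A : Type u} [CommRing A] {r : ℕ} (F : Fam A (Fin r))

theorem finite_tot (h0 : Module.Finite A (F.M 0))
    (hgen : ∀ n, (⊤ : Submodule A (F.M (n + 1))) ≤ ⨆ i, LinearMap.range (F.x i n)) :
    Module.Finite (MvPolynomial (Fin r) A) F.Tot := by
  classical
  obtain ⟨s, hs⟩ := h0.fg_top
  let W : Submodule (MvPolynomial (Fin r) A) F.Tot :=
    Submodule.span (MvPolynomial (Fin r) A) ((s.image (F.of 0) : Finset F.Tot) : Set F.Tot)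
  have hA : ∀ (a : A) (w : F.Tot), w ∈ W → a • w ∈ W := fun a w hw => by
    rw [← F.C_smul]
    exact W.smul_mem _ hw
  have h1 : ∀ n (m : F.M n), F.of n m ∈ W := by
    intro n
    induction n with
    | zero =>
      intro m
      have hm : m ∈ Submodule.span A (s : Set (F.M 0)) := hs ▸ Submodule.mem_top
      induction hm using Submodule.span_induction with
      | mem x hx => exact Submodule.subset_span (by simpa using ⟨x, hx, rfl⟩)
      | zero => rw [map_zero]; exact W.zero_mem
      | add x y _ _ hx hy => rw [map_add]; exact W.add_mem hx hy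
      | smul a x _ hx => rw [map_smul]; exact hA a _ hx
    | succ n ih =>
      intro m
      have hm : m ∈ ⨆ i, LinearMap.range (F.x i n) := hgen n Submodule.mem_top
      induction hm using Submodule.iSup_induction' with
      | mem i z hz =>
        obtain ⟨t, rfl⟩ := hz
        rw [← F.X_of, ← F.X_smul]
        exact W.smul_mem _ (ih t)
      | zero => rw [map_zero]; exact W.zero_mem
      | add x y _ _ hx hy => rw [map_add]; exact W.add_mem hx hy
  have h2 : ∀ w : F.Tot, w ∈ W := fun w => by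
    induction w using Fam.tot_induction with
    | h0 => exact W.zero_mem
    | hof n m => exact h1 n m
    | hadd w w' h h' => exact W.add_mem h h'
  exact ⟨⟨s.image (F.of 0), eq_top_iff.2 fun w _ => h2 w⟩⟩

end Finite

section Transport

variable {A : Type u} [CommRing A] {C : Type*} [Category C] {r : ℕ}

theorem finite_of_iso {P Q : ModuleCat.{u} A} (e : P ≅ Q) (h : Module.Finite A P) :
    Module.Finite A Q := Module.Finite.equiv e.toLinearEquiv

theorem gen_of_iso {P Q P' Q' : ModuleCat.{u} A} (e : P ≅ P') (e' : Q ≅ Q')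
    (x : Fin r → (P ⟶ Q)) (x' : Fin r → (P' ⟶ Q')) (hx : ∀ i, x i ≫ e'.hom = e.hom ≫ x' i)
    (h : (⊤ : Submodule A Q) ≤ ⨆ i, LinearMap.range (x i).hom) :
    (⊤ : Submodule A Q') ≤ ⨆ i, LinearMap.range (x' i).hom := by
  intro y _
  have h1 : e'.inv.hom y ∈ ⨆ i, LinearMap.range (x i).hom := h Submodule.mem_top
  have h2 : (⨆ i, LinearMap.range (x i).hom) ≤
      (⨆ i, LinearMap.range (x' i).hom).comap e'.hom.hom := by
    refine iSup_le fun i => ?_
    rintro _ ⟨z, rfl⟩
    have h3 := congrArg (fun t => t.hom z) (hx i)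
    exact Submodule.mem_iSup_of_mem i ⟨e.hom.hom z, h3.symm⟩
  have h4 := h2 h1
  have h5 : e'.hom.hom (e'.inv.hom y) = y := congrArg (fun t => t.hom y) e'.inv_hom_id
  rw [Submodule.mem_comap, h5] at h4
  exact h4

end Transport

section Good

variable {A : Type u} [CommRing A]

theorem hh_eq {X : Scheme.{u}} [X.Over (Spec (CommRingCat.of A))] (n : ℕ) :
    HHDelta.hh X A n = HM A X n := rfl

variable [IsNoetherianRing A]

/-- The cohomology of the graded pieces is finite and eventually generated. -/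
structure Good (U : (Spec (CommRingCat.of A)).Opens) {J : Ideal A} {G : ℕᵒᵖ ⥤ (U : Scheme.{u}).Modules}
    (hG : IsFormal J G) {r : ℕ} (a : Fin r → J) (j : ℕ) : Prop where
  fin : ∀ n, Module.Finite A ((HM A (U : Scheme.{u}) j).obj (K G n))
  gen : ∃ N : ℕ, ∀ n, N ≤ n → (⊤ : Submodule A ((HM A (U : Scheme.{u}) j).obj (K G (n + 1)))) ≤
    ⨆ i, LinearMap.range ((HM A (U : Scheme.{u}) j).map (kmu hG (a i) n)).hom

variable {𝔠 J : Ideal A} {G : ℕᵒᵖ ⥤ (↑(LocCoh.puncturedOpen A 𝔠) : Scheme.{u}).Modules}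
  (hG : IsFormal J G) {r : ℕ} (a : Fin r → J)

theorem good_of (F : Fam A (Fin r))
    (e : ∀ n, (Theta (LocCoh.puncturedOpen A 𝔠)).obj (ModuleCat.of A (F.M n)) ≅ K G n)
    (he : ∀ i n, (Theta (LocCoh.puncturedOpen A 𝔠)).map (ModuleCat.ofHom (F.x i n)) ≫ (e (n + 1)).hom =
      (e n).hom ≫ kmu hG (a i) n) (j : ℕ)
    (h : (∀ n, Module.Finite A (((punc 𝔠).T.T j).obj (ModuleCat.of A (F.M n)))) ∧
      ∃ N : ℕ, ∀ n, N ≤ n → (⊤ : Submodule A (((punc 𝔠).T.T j).obj (ModuleCat.of A (F.M (n + 1))))) ≤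
        ⨆ i, LinearMap.range (((punc 𝔠).T.T j).map (ModuleCat.ofHom (F.x i n))).hom) :
    Good (LocCoh.puncturedOpen A 𝔠) hG a j := by
  obtain ⟨h1, N, h2⟩ := h
  let H := HM A (LocCoh.puncturedOpen A 𝔠 : Scheme.{u}) j
  refine ⟨fun n => finite_of_iso (H.mapIso (e n)) (h1 n), N, fun n hn => ?_⟩
  refine gen_of_iso (H.mapIso (e n)) (H.mapIso (e (n + 1)))
    (fun i => H.map ((Theta (LocCoh.puncturedOpen A 𝔠)).map (ModuleCat.ofHom (F.x i n))))
    (fun i => H.map (kmu hG (a i) n)) (fun i => ?_) (h2 n hn)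
  rw [Functor.mapIso_hom, Functor.mapIso_hom, ← Functor.map_comp, ← Functor.map_comp, he i n]

variable (hcoh : ∀ n : ℕ, Coh.IsCoh (G.obj (op n)))
  (ha : Ideal.span (Set.range fun i => (a i : A)) = J)
  (N : Submodule A ((Gam (LocCoh.puncturedOpen A 𝔠)).obj (G.obj (op 0)))) (hN : N.FG)
  (hN' : IsTorsOn (LocCoh.puncturedOpen A 𝔠)
    (((Gam (LocCoh.puncturedOpen A 𝔠)).obj (G.obj (op 0)) : Type u) ⧸ N))

include hN in
theorem finite_tot_famN : Module.Finite (MvPolynomial (Fin r) A)
    (famN (LocCoh.puncturedOpen A 𝔠) hG a N).Tot :=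
  finite_tot _ (Module.Finite.iff_fg.2 hN) (gen_fam _ hG a N)

theorem isIso_famMap (hcoh : ∀ n : ℕ, Coh.IsCoh (G.obj (op n)))
    (ha : Ideal.span (Set.range fun i => (a i : A)) = J)
    (hN' : IsTorsOn (LocCoh.puncturedOpen A 𝔠)
      (((Gam (LocCoh.puncturedOpen A 𝔠)).obj (G.obj (op 0)) : Type u) ⧸ N)) (n : ℕ) :
    IsIso (famMap (LocCoh.puncturedOpen A 𝔠) hG a N n) := by
  have hU : IsCompact (LocCoh.puncturedOpen A 𝔠 : Set (Spec (CommRingCat.of A))) :=
    Groth.Agent.FormalA.InjSec.isCompact_opens _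
  exact isIso_subToMod _ hU (isCoh_K _ hcoh n).1 _ (isTorsOn_NN _ hG a N hU hcoh ha hN' n)

include hN hN' hcoh ha in
/-- **Finiteness and eventual generation in degree `0`.** -/
theorem good_zero
    (h : Module.Finite (MvPolynomial (Fin r) A)
      (LocCoh.H (𝔠.map (algebraMap A (MvPolynomial (Fin r) A))) 1
        (famN (LocCoh.puncturedOpen A 𝔠) hG a N).Tot)) :
    Good (LocCoh.puncturedOpen A 𝔠) hG a 0 := by
  have hi := isIso_famMap hG a N hcoh ha hN'
  exact good_of hG a (famN _ hG a N) (fun n => asIso (famMap _ hG a N n))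
    (fun i n => famMap_nat _ hG a N i n) 0
    (main_zero (punc 𝔠) (famN _ hG a N) (finite_tot_famN hG a N hN) h)

include hN' hcoh ha in
/-- **Finiteness and eventual generation in degree `1`.** -/
theorem good_one
    (h : Module.Finite (MvPolynomial (Fin r) A)
      (LocCoh.H (𝔠.map (algebraMap A (MvPolynomial (Fin r) A))) 2
        (famN (LocCoh.puncturedOpen A 𝔠) hG a N).Tot)) :
    Good (LocCoh.puncturedOpen A 𝔠) hG a 1 := by
  have hi := isIso_famMap hG a N hcoh ha hN'
  exact good_of hG a (famN _ hG a N) (fun n => asIso (famMap _ hG a N n))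
    (fun i n => famMap_nat _ hG a N i n) 1
    (main_one (punc 𝔠) (famN _ hG a N) h)

/-- **Algebraization from finiteness of the local cohomology of the graded module.** -/
theorem algebraize_of_good [IsPrecomplete J A] (hcoh : ∀ n : ℕ, Coh.IsCoh (G.obj (op n)))
    (ha : Ideal.span (Set.range fun i => (a i : A)) = J)
    (h0 : Good (LocCoh.puncturedOpen A 𝔠) hG a 0) (h1 : Good (LocCoh.puncturedOpen A 𝔠) hG a 1) :
    ∃ F : (↑(LocCoh.puncturedOpen A 𝔠) : Scheme.{u}).Modules, Coh.IsCoh F ∧
      Nonempty (Formal.completion J F ≅ G) := by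
  obtain ⟨f0, N0, g0⟩ := h0
  obtain ⟨f1, N1, g1⟩ := h1
  exact EAlgebraize.algebraize_of_eventual J 𝔠 G hG hcoh a ha (max N0 N1) f0 f1
    (fun n hn => g0 n ((le_max_left _ _).trans hn)) (fun n hn => g1 n ((le_max_right _ _).trans hn))

end Good

end K177.GrSheaf
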