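import Groth.Agent.FormalB.FormalLoc
import Groth.Agent.S0004

/-!
# Homomorphisms to a coherent module and to a system of quotients

`X` proper over `Spec A`, `A` complete for `J`; `N` coherent, `q n : N → E n` a compatible family with `J^(n+1)`
killing `E n`.  If locally the kernel of `q (k+c)` is contained in `J^(k+1) N` and the sections of `E n` which lift to
`E k`, `k` large, lift to `N`, then `Hom(M, N) → lim Hom(M, E n)` is bijective for `M` coherent.
-/

set_option autoImplicit false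
set_option linter.unusedSectionVars false
universe u

open CategoryTheory CategoryTheory.Limits AlgebraicGeometry Opposite TopologicalSpace

namespace K177.HomCrit

open Groth.Agent Groth.Agent.FormalB Groth.Agent.FormalB.ModPow Groth.Agent.FormalB.ModPowAff
  Groth.Agent.FormalB.FormalLoc

variable {A : Type u} [CommRing A] {X : Scheme.{u}} [X.Over (Spec (CommRingCat.of A))]
  {J : Ideal A} {N : X.Modules} {E : ℕᵒᵖ ⥤ X.Modules} (q : ∀ n : ℕ, N ⟶ E.obj (op n))

section Local

variable (hN : Coh.IsQCoh N) (hE : ∀ n, Coh.IsQCoh (E.obj (op n)))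

include hE hN in
/-- the transition maps factor through the image of `N` -/
theorem map_comp_eq_zero {n k : ℕ} (h : n ≤ k)
    (hB : ∀ x : X, ∃ W : X.Opens, x ∈ W ∧ IsAffineOpen W ∧ ∀ t : Γ(E.obj (op k), W),
      ∃ s : Γ(N, W), (q n).app W s = (E.map (homOfLE h).op).app W t) :
    E.map (homOfLE h).op ≫ cokernel.π (q n) = 0 := by
  refine eq_zero_of_cover (hE k) (PerfA.QCohSerre.isQCoh_cokernel (q n) hN (hE n)) _ fun x => ?_
  obtain ⟨W, hx, hW, h1⟩ := hB x
  refine ⟨W, hx, hW, fun t => ?_⟩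
  obtain ⟨s, hs⟩ := h1 t
  change (cokernel.π (q n)).app W ((E.map (homOfLE h).op).app W t) = 0
  rw [← hs]
  exact congrArg (fun φ => φ.app W s) (cokernel.condition (q n))

include hE hN in
/-- the kernel of `q` is contained in `J^(k+1) N` -/
theorem ker_comp {m k : ℕ} (hI : ∀ x : X, ∃ W : X.Opens, x ∈ W ∧ IsAffineOpen W ∧ ∀ s : Γ(N, W),
      (q m).app W s = 0 → s ∈ (J.map (toΓ A X W)) ^ (k + 1) • (⊤ : Submodule Γ(X, W) Γ(N, W))) :
    kernel.ι (q m) ≫ cπ J N k = 0 := by
  have hM := isModPow_cπ J N k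
  refine eq_zero_of_cover (PerfA.QCohSerre.isQCoh_kernel (q m) hN (hE m)) (IsModPow.isQCoh hN hM) _ fun x => ?_
  obtain ⟨W, hx, hW, h1⟩ := hI x
  refine ⟨W, hx, hW, fun t => ?_⟩
  have h2 := h1 ((kernel.ι (q m)).app W t) (congrArg (fun φ => φ.app W t) (kernel.condition (q m)))
  change (cπ J N k).app W ((kernel.ι (q m)).app W t) = 0
  have h3 : ∀ c ∈ (J.map (toΓ A X W)) ^ (k + 1), ∀ y' : Γ(N, W), (cπ J N k).app W (c • y') = 0 := by
    intro c hc y'
    rw [← Ideal.map_pow] at hc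
    rw [Scheme.Modules.Hom.app_smul (cπ J N k) c y']
    refine Submodule.span_induction (p := fun c _ => c • ((cπ J N k).app W y') = 0) ?_ ?_ ?_ ?_ hc
    · rintro _ ⟨a, ha, rfl⟩
      have h4 := congrArg (fun t => t.app W y') (hM.smul_comp a ha)
      exact (Scheme.Modules.Hom.app_smul (cπ J N k) _ y').symm.trans h4
    · rw [zero_smul]
    · intro a b _ _ ha hb
      rw [add_smul, ha, hb, add_zero]
    · intro a b _ hb
      rw [smul_eq_mul, mul_smul, hb, smul_zero]
  refine Submodule.smul_induction_on (p := fun y => (cπ J N k).app W y = 0) h2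
    (fun c hc y' _ => h3 c hc y') (fun y y' h h' => by rw [map_add, h, h', add_zero])

end Local

section Hom

/-- the image -/
noncomputable def Iq (n : ℕ) : X.Modules := Limits.image (q n)

/-- the projection -/
noncomputable def eq (n : ℕ) : N ⟶ Iq q n := factorThruImage (q n)

/-- the inclusion -/
noncomputable def iq (n : ℕ) : Iq q n ⟶ E.obj (op n) := image.ι (q n)

instance (n : ℕ) : Epi (eq q n) := inferInstanceAs (Epi (factorThruImage (q n)))

instance (n : ℕ) : Mono (iq q n) := inferInstanceAs (Mono (image.ι (q n)))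

@[reassoc]
theorem eq_iq (n : ℕ) : eq q n ≫ iq q n = q n := image.fac (q n)

variable (hq : ∀ n, q (n + 1) ≫ E.map (homOfLE (Nat.le_succ n)).op = q n)
  (hkill : ∀ n, ∀ a ∈ J ^ (n + 1), Formal.smulMod A N a ≫ q n = 0)
  (c : ℕ) (hI : ∀ k, kernel.ι (q (k + c)) ≫ cπ J N k = 0)
  (hB : ∀ n, ∃ (k : ℕ) (h : n ≤ k), E.map (homOfLE h).op ≫ cokernel.π (q n) = 0)

variable {M : X.Modules}

include hq in
theorem q_map {n m : ℕ} (h : n ≤ m) : q m ≫ E.map (homOfLE h).op = q n :=
  compat_of_succ q hq h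

include hI in
theorem exists_r (k : ℕ) : ∃ r : Iq q (k + c) ⟶ (Formal.completion J N).obj (op k),
    eq q (k + c) ≫ r = cπ J N k := by
  have h1 : kernel.ι (eq q (k + c)) ≫ cπ J N k = 0 := by
    have h2 : kernel.ι (eq q (k + c)) ≫ q (k + c) = 0 :=
      (congrArg (fun t => kernel.ι (eq q (k + c)) ≫ t) (eq_iq q (k + c)).symm).trans (by
        rw [← Category.assoc, kernel.condition, zero_comp])
    have : kernel.lift (q (k + c)) _ h2 ≫ kernel.ι (q (k + c)) = kernel.ι (eq q (k + c)) :=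
      kernel.lift_ι _ _ _
    rw [← this, Category.assoc, hI, comp_zero]
  exact ⟨Abelian.epiDesc (eq q (k + c)) (cπ J N k) h1, Abelian.comp_epiDesc _ _ _⟩

theorem q_coker (n : ℕ) : q n ≫ cokernel.π (iq q n) = 0 :=
  (congrArg (fun t => t ≫ cokernel.π (iq q n)) (eq_iq q n).symm).trans (by
    rw [Category.assoc, cokernel.condition, comp_zero])

include hB in
theorem exists_y' (y : ∀ n, M ⟶ E.obj (op n))
    (hy : ∀ n, y (n + 1) ≫ E.map (homOfLE (Nat.le_succ n)).op = y n) (n : ℕ) :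
    ∃ y' : M ⟶ Iq q n, y' ≫ iq q n = y n := by
  have h0 : y n ≫ cokernel.π (q n) = 0 := by
    obtain ⟨k, hk, h⟩ := hB n
    rw [← compat_of_succ y hy hk, Category.assoc, h, comp_zero]
  have h1 : y n ≫ cokernel.π (iq q n) = 0 := by
    have h5 : cokernel.π (q n) ≫ cokernel.desc (q n) _ (q_coker q n) = cokernel.π (iq q n) :=
      cokernel.π_desc _ _ _
    rw [← h5, ← Category.assoc, h0, zero_comp]
  exact ⟨Abelian.monoLift (iq q n) (y n) h1, Abelian.monoLift_comp _ _ _⟩

include hq in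
theorem exists_u {n m : ℕ} (h : n ≤ m) : ∃ u : Iq q m ⟶ Iq q n, eq q m ≫ u = eq q n ∧
    u ≫ iq q n = iq q m ≫ E.map (homOfLE h).op := by
  have h1 : (iq q m ≫ E.map (homOfLE h).op) ≫ cokernel.π (iq q n) = 0 := by
    rw [← cancel_epi (eq q m), Category.assoc, eq_iq_assoc, ← Category.assoc, q_map q hq h, q_coker,
      comp_zero]
  refine ⟨Abelian.monoLift (iq q n) _ h1, ?_, Abelian.monoLift_comp _ _ _⟩
  rw [← cancel_mono (iq q n), Category.assoc, Abelian.monoLift_comp, eq_iq_assoc, q_map q hq h, eq_iq]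

variable [IsNoetherianRing A] [IsAdicComplete J A] [IsProper (X ↘ Spec (CommRingCat.of A))]
  (hMc : Coh.IsCoh M) (hNc : Coh.IsCoh N)

include hI hMc hNc in
/-- Injectivity. -/
theorem eq_zero (φ : M ⟶ N) (h : ∀ n, φ ≫ q n = 0) : φ = 0 := by
  obtain ⟨φ₀, -, h0⟩ := (Groth.Agent.S0004.result A J X).1 M N hMc hNc 0
  have h1 : ∀ n, φ ≫ Formal.modPowπ J (n + 1) N = 0 := by
    intro n
    have : kernel.lift (q (n + c)) φ (h _) ≫ kernel.ι (q (n + c)) = φ := kernel.lift_ι _ _ _
    have h3 : φ ≫ cπ J N n = 0 := by rw [← this, Category.assoc, hI, comp_zero]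
    exact h3
  rw [h0 φ fun n => ?_, h0 0 fun n => ?_]
  · exact comp_zero.trans zero_comp.symm
  · exact comp_zero.trans (h1 n).symm

include hq hkill hI hB hMc hNc in
/-- Surjectivity. -/
theorem exists_hom (y : ∀ n, M ⟶ E.obj (op n))
    (hy : ∀ n, y (n + 1) ≫ E.map (homOfLE (Nat.le_succ n)).op = y n) :
    ∃ φ : M ⟶ N, ∀ n, φ ≫ q n = y n := by
  choose r hr using exists_r (J := J) q c hI
  choose y' hy' using exists_y' q hB y hy
  let G := Formal.completion J N
  have hyu : ∀ {n m : ℕ} (h : n ≤ m) (u : Iq q m ⟶ Iq q n)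
      (_ : u ≫ iq q n = iq q m ≫ E.map (homOfLE h).op), y' m ≫ u = y' n := by
    intro n m h u hu
    rw [← cancel_mono (iq q n), Category.assoc, hu, reassoc_of% (hy' m), hy', compat_of_succ y hy h]
  have hru : ∀ {k m : ℕ} (h : k ≤ m) (u : Iq q (m + c) ⟶ Iq q (k + c)) (_ : eq q (m + c) ≫ u = eq q (k + c)),
      r m ≫ G.map (homOfLE h).op = u ≫ r k := by
    intro k m h u hu
    rw [← cancel_epi (eq q (m + c)), reassoc_of% (hr m), reassoc_of% hu, hr, cπ_map]
  let θ : ∀ k, M ⟶ G.obj (op k) := fun k => y' (k + c) ≫ r k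
  have hθ : ∀ k, θ (k + 1) ≫ G.map (homOfLE (Nat.le_succ k)).op = θ k := by
    intro k
    obtain ⟨u, hu1, hu2⟩ := exists_u q hq (show k + c ≤ k + 1 + c by omega)
    change (y' (k + 1 + c) ≫ r (k + 1)) ≫ _ = y' (k + c) ≫ r k
    rw [Category.assoc, hru (Nat.le_succ k) u hu1, ← Category.assoc, hyu _ u hu2]
  have hθk : ∀ k, ∀ a ∈ J ^ (k + 1), Formal.smulMod A M a ≫ θ k = 0 := by
    intro k a ha
    rw [smulMod_naturality, (isModPow_cπ J N k).killedBy a ha, comp_zero]
  obtain ⟨φ, hφ, -⟩ := (Groth.Agent.S0004.result A J X).1 M N hMc hNc (completionDesc J θ hθk hθ)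
  have hφ' : ∀ n, φ ≫ cπ J N n = θ n := fun n =>
    (hφ n).symm.trans (cπ_completionDesc J θ hθk hθ n)
  refine ⟨φ, fun n => ?_⟩
  obtain ⟨d, hd⟩ := (isModPow_cπ J N n).desc (q n) (hkill n)
  have h1 : r n ≫ d = iq q (n + c) ≫ E.map (homOfLE (Nat.le_add_right n c)).op := by
    rw [← cancel_epi (eq q (n + c)), reassoc_of% (hr n), hd, eq_iq_assoc, q_map q hq]
  rw [← hd, ← Category.assoc, hφ']
  change (y' (n + c) ≫ r n) ≫ d = y n
  rw [Category.assoc, h1, reassoc_of% (hy' (n + c)), compat_of_succ y hy]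

end Hom

end K177.HomCrit
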