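import Groth.Agent.LefX.K177.ExtAlg
import Groth.Agent.LefX.K177.FreeRes
import Groth.Agent.LefX.K177.GrLocal
import Groth.Agent.FormalB.PuncSec
import Groth.Agent.FormalB.PpPull
import Groth.Agent.CohqA.PushRes

/-!
# Sections of a direct image over an affine open

`X` over `Spec A`, `U`, `W` open in `X`, `W` affine, `B = Γ(X, W)`, `V` the preimage of `U` in `Spec B`.  For `G` on
`U` the sections of the direct image of `G` on `W` are the sections on `V` of the restriction of `G`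
(`secLin`, natural and `B`-linear).  Finiteness and eventual generation of the cohomology on `V` of the graded pieces
of a formal system `G` implies the conditions of `ExtCrit` on `W` (`exists_pred`).
-/

set_option autoImplicit false
set_option linter.unusedSectionVars false
universe u

open CategoryTheory CategoryTheory.Limits AlgebraicGeometry Opposite TopologicalSpace

namespace K177.SecV

open Groth.Agent Groth.Agent.FormalB Groth.Agent.FormalB.ModPow Groth.Agent.FormalB.ModPowAff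
  Groth.Agent.FormalB.FormalLoc Groth.Agent.FormalB.HMod Groth.Agent.FormalB.PuncTheta
  Groth.Agent.Sga2lef.H100.GrSys Groth.Agent.Sga2lef.H100.GrTower K177.ExtCrit K177.ExtAlg K573.BaseRing
  Groth.Agent.FormalB.PrincTower Groth.Agent.Sga2lef.H100 K177.GrSheaf

section Sec

variable {X : Scheme.{u}} {U W : X.Opens} (hW : IsAffineOpen W) {V : (Spec Γ(X, W)).Opens}
  {j : (V : Scheme.{u}) ⟶ (U : Scheme.{u})} [IsOpenImmersion j]
  (sq : IsPullback V.ι j hW.fromSpec U.ι)

/-- sections of the direct image over `W` are the sections over `V` -/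
noncomputable def secLin (F : (U : Scheme.{u}).Modules) :
    (Gam (A := Γ(X, W)) V).obj ((Scheme.Modules.restrictFunctor j).obj F) ≃ₗ[Γ(X, W)]
      Γ((Scheme.Modules.pushforward U.ι).obj F, W) :=
  ((moduleSpecΓFunctor (R := Γ(X, W))).mapIso ((CohqA.PushRes.iso sq).symm.app F)).toLinearEquiv ≪≫ₗ
    topLin ((Scheme.Modules.pushforward U.ι).obj F) hW

theorem secLin_naturality {F F' : (U : Scheme.{u}).Modules} (φ : F ⟶ F')
    (x : (Gam (A := Γ(X, W)) V).obj ((Scheme.Modules.restrictFunctor j).obj F)) :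
    secLin hW sq F' (((Gam (A := Γ(X, W)) V).map ((Scheme.Modules.restrictFunctor j).map φ)).hom x) =
      ((Scheme.Modules.pushforward U.ι).map φ).app W (secLin hW sq F x) := by
  have h1 := (CohqA.PushRes.iso sq).inv.naturality φ
  have h2 := congrArg (fun t => ((moduleSpecΓFunctor (R := Γ(X, W))).map t).hom x) h1
  simp only [Functor.map_comp] at h2
  refine Eq.trans (congrArg (topLin ((Scheme.Modules.pushforward U.ι).obj F') hW) h2) ?_
  exact topEquiv_app ((Scheme.Modules.pushforward U.ι).map φ) hW _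

end Sec

section Alg

open K177.ETower

variable {B : Type*} [CommRing B] {ι : Type*} {a : ι → B}
    {P : ℕ → Type*} [∀ n, AddCommGroup (P n)] [∀ n, Module B (P n)]
    {Q : ℕ → Type*} [∀ n, AddCommGroup (Q n)] [∀ n, Module B (Q n)] {N : ℕ} (T : Tower B a P Q N)
    {S : ℕ → Type*} [∀ n, AddCommGroup (S n)] [∀ n, Module B (S n)]

/-- The conclusions of `ETop.exists_both` for an isomorphic system. -/
theorem transport [IsNoetherianRing B] [Finite ι] (s : ∀ n, S (n + 1) →ₗ[B] S n)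
    (e : ∀ n, P n ≃ₗ[B] S n) (he : ∀ n x, e n (T.π n x) = s n (e (n + 1) x)) :
    ∃ m : ℕ, (∀ n, ∀ z ∈ comp s (n + m), ∃ w ∈ TowerAlg.lim S s, w n = z n) ∧
      ∀ k, ∀ x ∈ TowerAlg.lim S s, (∀ j, j < m + k → x j = 0) →
        x ∈ (Ideal.span (Set.range a) ^ k • TowerAlg.lim S s) := by
  obtain ⟨m, h1, h2⟩ := ETop.exists_both T
  refine ⟨m, fun n z hz => ?_, fun k x hx hx0 => ?_⟩
  · obtain ⟨w, hw, hwn⟩ := h1 n (fun i => (e i).symm (z i)) (fun i hi => by
      apply (e i).injective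
      rw [he, LinearEquiv.apply_symm_apply, LinearEquiv.apply_symm_apply]
      exact hz i hi)
    refine ⟨fun i => e i (w i), fun i => ?_, ?_⟩
    · change s i (e (i + 1) (w (i + 1))) = e i (w i)
      rw [← he]
      exact congrArg (e i) (hw i)
    · change e n (w n) = z n
      rw [hwn]
      exact (e n).apply_symm_apply _
  · let φ : T.M →ₗ[B] (∀ n, S n) := LinearMap.pi fun n =>
      (e n).toLinearMap ∘ₗ (LinearMap.proj n) ∘ₗ T.M.subtype
    let x' : T.M := ⟨fun i => (e i).symm (x i), fun i => by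
      apply (e i).injective
      change e i (T.π i ((e (i + 1)).symm (x (i + 1)))) = e i ((e i).symm (x i))
      rw [he, LinearEquiv.apply_symm_apply, LinearEquiv.apply_symm_apply]
      exact hx i⟩
    have hx' : φ x' = x := funext fun i => (e i).apply_symm_apply (x i)
    have h3 := h2 k x' (fun i hi => by
      change (e i).symm (x i) = 0
      rw [hx0 i hi, map_zero])
    have h4 := Submodule.mem_map_of_mem (f := φ) h3
    rw [hx', Submodule.map_smul'', Submodule.map_top] at h4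
    refine Submodule.smul_mono le_rfl ?_ h4
    rintro _ ⟨y, rfl⟩ i
    change s i (e (i + 1) (y.1 (i + 1))) = e i (y.1 i)
    rw [← he]
    exact congrArg (e i) (y.2 i)

end Alg

section Over

variable {A : Type u} [CommRing A] {X : Scheme.{u}} [X.Over (Spec (CommRingCat.of A))] {U W : X.Opens}
  (hW : IsAffineOpen W) {𝔠 : Ideal Γ(X, W)}
  {j : (↑(LocCoh.puncturedOpen Γ(X, W) 𝔠) : Scheme.{u}) ⟶ (U : Scheme.{u})} [IsOpenImmersion j]
  (sq : IsPullback (LocCoh.puncturedOpen Γ(X, W) 𝔠).ι j hW.fromSpec U.ι)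
  {J : Ideal A} {G : ℕᵒᵖ ⥤ (U : Scheme.{u}).Modules}

variable (j G) in
/-- the restriction of the system -/
noncomputable abbrev GV : ℕᵒᵖ ⥤ (↑(LocCoh.puncturedOpen Γ(X, W) 𝔠) : Scheme.{u}).Modules :=
  G ⋙ Scheme.Modules.restrictFunctor j

include sq in
theorem isFormal_GV (hG : IsFormal J G) :
    IsFormal (A := Γ(X, W)) (J.map (toΓ A X W)) (GV j G) := by
  let _ : Algebra A Γ(X, W) := (toΓ A X W).toAlgebra
  let _ : (↑(LocCoh.puncturedOpen Γ(X, W) 𝔠) : Scheme.{u}).Over (Spec (CommRingCat.of A)) :=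
    ⟨j ≫ ((U : Scheme.{u}) ↘ Spec (CommRingCat.of A))⟩
  have h1 : IsFormal J (GV j G) := K573.Base.restrict_isFormal j rfl hG
  have h2 : Compat A Γ(X, W) (↑(LocCoh.puncturedOpen Γ(X, W) 𝔠) : Scheme.{u}) := by
    change (LocCoh.puncturedOpen Γ(X, W) 𝔠).ι ≫ Spec.map (CommRingCat.ofHom (toΓ A X W)) =
      j ≫ U.ι ≫ (X ↘ Spec (CommRingCat.of A))
    rw [← PpPull.fromSpec_comp hW, ← Category.assoc, ← Category.assoc]
    exact congrArg (fun t => t ≫ (X ↘ Spec (CommRingCat.of A))) sq.w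
  exact (isFormal_iff_map h2 _ J).1 h1

include sq in
theorem isFinLocFreeMod_GV {n : ℕ} (hG : Formal2.IsFinLocFreeMod J (n + 1) (G.obj (op n))) :
    Formal2.IsFinLocFreeMod (A := Γ(X, W)) (J.map (toΓ A X W)) (n + 1) ((GV j G).obj (op n)) := by
  let _ : Algebra A Γ(X, W) := (toΓ A X W).toAlgebra
  let _ : (↑(LocCoh.puncturedOpen Γ(X, W) 𝔠) : Scheme.{u}).Over (Spec (CommRingCat.of A)) :=
    ⟨j ≫ ((U : Scheme.{u}) ↘ Spec (CommRingCat.of A))⟩
  have h1 : Formal2.IsFinLocFreeMod J (n + 1) ((GV j G).obj (op n)) := FreeRes.restrict_free j rfl hG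
  have h2 : Compat A Γ(X, W) (↑(LocCoh.puncturedOpen Γ(X, W) 𝔠) : Scheme.{u}) := by
    change (LocCoh.puncturedOpen Γ(X, W) 𝔠).ι ≫ Spec.map (CommRingCat.ofHom (toΓ A X W)) =
      j ≫ U.ι ≫ (X ↘ Spec (CommRingCat.of A))
    rw [← PpPull.fromSpec_comp hW, ← Category.assoc, ← Category.assoc]
    exact congrArg (fun t => t ≫ (X ↘ Spec (CommRingCat.of A))) sq.w
  exact FreeRes.free_map h2 h1

theorem isCoh_GV {n : ℕ} (hG : Coh.IsCoh (G.obj (op n))) : Coh.IsCoh ((GV j G).obj (op n)) := by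
  have := hG.1
  exact ⟨(inferInstance : Coh.IsQCoh ((G.obj (op n)).restrict j)),
    CohqB.FiniteType.IsFT.restrict hG.2 j⟩

/-- `H^0(V, G_n)` as sections of the direct image -/
noncomputable def eN (n : ℕ) :
    (HM Γ(X, W) (↑(LocCoh.puncturedOpen Γ(X, W) 𝔠) : Scheme.{u}) 0).obj ((GV j G).obj (op n)) ≃ₗ[Γ(X, W)]
      Γ((EE U G).obj (op n), W) :=
  GamZero.zeroLin (A := Γ(X, W)) (LocCoh.puncturedOpen Γ(X, W) 𝔠) ((GV j G).obj (op n)) ≪≫ₗ
    secLin hW sq (G.obj (op n))

theorem eN_map (n : ℕ)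
    (x : (HM Γ(X, W) (↑(LocCoh.puncturedOpen Γ(X, W) 𝔠) : Scheme.{u}) 0).obj ((GV j G).obj (op (n + 1)))) :
    eN hW sq n (((HM Γ(X, W) (↑(LocCoh.puncturedOpen Γ(X, W) 𝔠) : Scheme.{u}) 0).map (tr (GV j G) n)).hom x) =
      secT (EE U G) W n (eN (G := G) hW sq (n + 1) x) := by
  have h1 := GamZero.zeroLin_map (A := Γ(X, W)) (LocCoh.puncturedOpen Γ(X, W) 𝔠) (tr (GV j G) n) x
  exact (congrArg (secLin hW sq (G.obj (op n))) h1).trans (secLin_naturality hW sq _ _)

include hW sq in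
/-- **The conditions of `ExtCrit`.** -/
theorem exists_pred [IsNoetherianRing Γ(X, W)] {r : ℕ} (hG : IsFormal (A := Γ(X, W)) (J.map (toΓ A X W)) (GV j G))
    (a : Fin r → J.map (toΓ A X W))
    (ha : Ideal.span (Set.range fun i => (a i : Γ(X, W))) = J.map (toΓ A X W))
    (h0 : Good (LocCoh.puncturedOpen Γ(X, W) 𝔠) hG a 0)
    (h1 : Good (LocCoh.puncturedOpen Γ(X, W) 𝔠) hG a 1) :
    (∃ m, Pred J (EE U G) W m) ∧ ∀ n, Module.Finite Γ(X, W) Γ((EE U G).obj (op n), W) := by
  obtain ⟨f0, N0, g0⟩ := h0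
  obtain ⟨f1, N1, g1⟩ := h1
  let T := EAlgebraize.tower hG a (max N0 N1) f0 f1
    (fun n hn => g0 n ((le_max_left _ _).trans hn)) (fun n hn => g1 n ((le_max_right _ _).trans hn))
  refine ⟨?_, fun n => ?_⟩
  · have he : ∀ n (x : (HM Γ(X, W) (↑(LocCoh.puncturedOpen Γ(X, W) 𝔠) : Scheme.{u}) 0).obj
        ((GV j G).obj (op (n + 1)))), eN hW sq n (T.π n x) =
          secT (EE U G) W n (eN (G := G) hW sq (n + 1) x) := fun n x => eN_map hW sq n x
    obtain ⟨m, h1, h2⟩ := transport T (S := fun n => Γ((EE U G).obj (op n), W)) (secT (EE U G) W)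
      (fun n => eN (G := G) hW sq n) he
    refine ⟨m, h1, fun k x hx h0 => ?_⟩
    have h3 := h2 k x hx h0
    rw [ha] at h3
    exact h3
  · have := T.finite_P n
    exact Module.Finite.equiv (eN (G := G) hW sq n)

end Over

end K177.SecV
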