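import Groth.Agent.LefX.K177.BaseCh
import Groth.Agent.LefX.K177.FlatOffB
import Groth.Agent.LefX.K177.SecV
import Groth.Agent.FormalA.HVFormLoc
import Groth.Agent.Ega1.QcqsPush

/-!
# Algebraization from the depth hypothesis on an affine cover

`Hyp A X U`: over each affine open `W` of the `A`-scheme `X` the ring `B = Γ(X, W)` is flat over `A` off the
complement of `U`, and satisfies `DepthHyp` after base change to `A`-algebras of finite type.
-/

set_option autoImplicit false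
universe u

open CategoryTheory CategoryTheory.Limits AlgebraicGeometry Opposite TopologicalSpace TensorProduct

namespace K177.LocHyp

open Groth.Agent Groth.Agent.FormalB Groth.Agent.FormalB.ModPow Groth.Agent.FormalB.ModPowAff
  Groth.Agent.FormalB.FormalLoc Groth.Agent.FormalB.HMod Groth.Agent.FormalB.PuncTheta
  K177.ExtCrit K177.ExtAlg K177.SecV K177.GrSheaf K177.GrDepth K177.GrLocal

/-- The local hypothesis. -/
def Hyp (A : Type u) [CommRing A] (X : Scheme.{u}) [X.Over (Spec (CommRingCat.of A))] (U : X.Opens) : Prop :=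
  ∀ (W : X.Opens) (hW : IsAffineOpen W), ∃ 𝔠 : Ideal Γ(X, W),
    LocCoh.puncturedOpen Γ(X, W) 𝔠 = hW.fromSpec ⁻¹ᵁ U ∧
    letI : Algebra A Γ(X, W) := (toΓ A X W).toAlgebra
    FlatOff A 𝔠 ∧ ∀ (B' : Type u) [CommRing B'] [Algebra A B'] [Algebra.FiniteType A B'],
      DepthHyp (Γ(X, W) ⊗[A] B') (𝔠.map (algebraMap Γ(X, W) (Γ(X, W) ⊗[A] B')))

/-- The local hypothesis in the situation of the milestone. -/
theorem hyp_of {X S : Scheme.{u}} (f : X ⟶ S) (U : X.Opens) [LocallyOfFiniteType f] [Flat (U.ι ≫ f)]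
    (hcoh : ∀ (S' : Scheme.{u}) (b : S' ⟶ S) [IsLocallyNoetherian S']
      [HasInjectiveResolutions (↑((pullback.fst f b) ⁻¹ᵁ U) : Scheme.{u}).Modules], ∀ i : ℕ, i ≤ 1 →
      Coh.IsCoh ((Coh.Rpush ((pullback.fst f b) ⁻¹ᵁ U).ι i).obj
        (Coh.structureModule (↑((pullback.fst f b) ⁻¹ᵁ U) : Scheme.{u}))))
    {A : Type u} [CommRing A] [IsNoetherianRing A] (R : Type u) [CommRing R] [IsRegularRing R]
    (π : R →+* A) (hπ : Function.Surjective π) (b : Spec (CommRingCat.of A) ⟶ S) :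
    letI : (pullback f b).Over (Spec (CommRingCat.of A)) := ⟨pullback.snd f b⟩
    Hyp A (pullback f b) (pullback.fst f b ⁻¹ᵁ U) := by
  let iO : (pullback f b).Over (Spec (CommRingCat.of A)) := ⟨pullback.snd f b⟩
  intro W hW
  obtain ⟨𝔠, h𝔠⟩ := Groth.Agent.FormalA.HVFormLoc.exists_puncturedOpen (A := Γ(pullback f b, W))
    (hW.fromSpec ⁻¹ᵁ (pullback.fst f b ⁻¹ᵁ U))
  let iA : Algebra A Γ(pullback f b, W) := (toΓ A (pullback f b) W).toAlgebra
  have he : hW.fromSpec ≫ pullback.snd f b =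
      Spec.map (CommRingCat.ofHom (algebraMap A Γ(pullback f b, W))) := PpPull.fromSpec_comp (A := A) hW
  refine ⟨𝔠, h𝔠.symm, FlatOffB.flatOff f U b hW.fromSpec he 𝔠 h𝔠.symm, ?_⟩
  intro B' _ _ _
  exact BaseCh.depthHyp f U b hW.fromSpec he hcoh R π hπ 𝔠 h𝔠.symm B'

section Gen

variable {A : Type u} [CommRing A] [IsNoetherianRing A] {X : Scheme.{u}} [X.Over (Spec (CommRingCat.of A))]
  {U : X.Opens}

/-- the square -/
theorem exists_square {W : X.Opens} (hW : IsAffineOpen W) (𝔠 : Ideal Γ(X, W))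
    (h𝔠 : LocCoh.puncturedOpen Γ(X, W) 𝔠 = hW.fromSpec ⁻¹ᵁ U) :
    ∃ (j : (↑(LocCoh.puncturedOpen Γ(X, W) 𝔠) : Scheme.{u}) ⟶ (U : Scheme.{u})),
      IsOpenImmersion j ∧ IsPullback (LocCoh.puncturedOpen Γ(X, W) 𝔠).ι j hW.fromSpec U.ι := by
  rw [h𝔠]
  exact ⟨hW.fromSpec ∣_ U, inferInstance, (isPullback_morphismRestrict hW.fromSpec U).flip⟩

theorem finiteType_Γ [LocallyOfFiniteType (X ↘ Spec (CommRingCat.of A))] {W : X.Opens}
    (hW : IsAffineOpen W) :
    letI : Algebra A Γ(X, W) := (toΓ A X W).toAlgebra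
    Algebra.FiniteType A Γ(X, W) := by
  let iA : Algebra A Γ(X, W) := (toΓ A X W).toAlgebra
  have h1 : LocallyOfFiniteType (hW.fromSpec ≫ (X ↘ Spec (CommRingCat.of A))) := inferInstance
  rw [PpPull.fromSpec_comp hW] at h1
  have h2 := (HasRingHomProperty.Spec_iff (P := @LocallyOfFiniteType)).1 h1
  exact RingHom.finiteType_algebraMap.1 h2

theorem exists_gens (J : Ideal A) : ∃ (r : ℕ) (a : Fin r → J),
    Ideal.span (Set.range fun i => (a i : A)) = J := by
  obtain ⟨r, a, ha⟩ := Submodule.fg_iff_exists_fin_generating_family.1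
    (IsNoetherian.noetherian (J : Submodule A A))
  have haJ : ∀ i, a i ∈ J := fun i => by
    have : a i ∈ Submodule.span A (Set.range a) := Submodule.subset_span ⟨i, rfl⟩
    rw [ha] at this
    exact this
  exact ⟨r, fun i => ⟨a i, haJ i⟩, ha⟩

variable [LocallyOfFiniteType (X ↘ Spec (CommRingCat.of A))] (hyp : Hyp A X U)
  (R : Type u) [CommRing R] [IsRegularRing R] (π : R →+* A) (hπ : Function.Surjective π)

include hyp hπ in
/-- The conclusions over an affine open. -/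
theorem local_pred {J : Ideal A} {G : ℕᵒᵖ ⥤ (U : Scheme.{u}).Modules} (hG : IsFormal J G)
    (hcoh : ∀ n : ℕ, Coh.IsCoh (G.obj (op n)))
    (hfree : ∀ n : ℕ, Formal2.IsFinLocFreeMod J (n + 1) (G.obj (op n)))
    {W : X.Opens} (hW : IsAffineOpen W) :
    (∃ m, Pred J (EE U G) W m) ∧ ∀ n, Module.Finite Γ(X, W) Γ((EE U G).obj (op n), W) := by
  let iA : Algebra A Γ(X, W) := (toΓ A X W).toAlgebra
  have hft : Algebra.FiniteType A Γ(X, W) := finiteType_Γ hW
  have hBn : IsNoetherianRing Γ(X, W) := Algebra.FiniteType.isNoetherianRing A Γ(X, W)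
  obtain ⟨𝔠, h𝔠, hflat, hD⟩ := hyp W hW
  obtain ⟨j, hj, sq⟩ := exists_square hW 𝔠 h𝔠
  obtain ⟨R₁, _, _, π₁, hπ₁⟩ := exists_regular (B := Γ(X, W)) R π hπ
  obtain ⟨r, a, ha⟩ := exists_gens J
  have hgr := finiteType_gr (J := J)
  have hGV : IsFormal (J.map (algebraMap A Γ(X, W))) (GV j G) := isFormal_GV hW sq hG
  obtain ⟨g0, g1⟩ := GrLocal.good (J := J) hflat (G := GV j G) hGV (fun n => isCoh_GV (j := j) (hcoh n))
    (fun n => isFinLocFreeMod_GV hW sq (hfree n)) a ha R₁ π₁ hπ₁ (hD (GrR J))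
  exact exists_pred hW sq hGV (K177.GrFlat.aB Γ(X, W) a) (span_aB a ha) g0 g1

/-- Coherence from finiteness of sections. -/
theorem isCoh_of_finite_sections (M : X.Modules) (hM : Coh.IsQCoh M)
    (h : ∀ W : X.Opens, IsAffineOpen W → Module.Finite Γ(X, W) Γ(M, W)) : Coh.IsCoh M := by
  refine ⟨hM, (CohqB.FiniteType.isFT_iff_hasFinGen M).2 fun x => ?_⟩
  obtain ⟨W, hW, hx, -⟩ := exists_isAffineOpen_mem_and_subset (X := X) (x := x) (U := ⊤) trivial
  exact ⟨W, hx, (CohqB.FiniteType2.hasFinGen_restrict_iff_finite M hW).2 (h W hW)⟩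

include hyp hπ in
/-- **Algebraization.** -/
theorem algebraize [IsProper (X ↘ Spec (CommRingCat.of A))] {J : Ideal A} [IsAdicComplete J A]
    {G : ℕᵒᵖ ⥤ (U : Scheme.{u}).Modules} (hG : IsFormal J G)
    (hcoh : ∀ n : ℕ, Coh.IsCoh (G.obj (op n)))
    (hfree : ∀ n : ℕ, Formal2.IsFinLocFreeMod J (n + 1) (G.obj (op n))) :
    ∃ F : (U : Scheme.{u}).Modules, Coh.IsCoh F ∧ Nonempty (Formal.completion J F ≅ G) := by
  have hXn : IsLocallyNoetherian X :=
    LocallyOfFiniteType.isLocallyNoetherian (X ↘ Spec (CommRingCat.of A))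
  have hXc : CompactSpace X :=
    (quasiCompact_iff_compactSpace (f := X ↘ Spec (CommRingCat.of A))).1 inferInstance
  obtain ⟨m, hm⟩ := exists_uniform_cover (X := X) (fun W m => Pred J (EE U G) W m)
    (fun W m n h hP => pred_mono J (EE U G) W h hP)
    (fun W hW => (local_pred hyp R π hπ hG hcoh hfree hW).1)
  refine ExtAlg.algebraize U m hG (fun n => ?_) hm
  exact isCoh_of_finite_sections _ (Groth.Agent.Ega1.QcqsPush.isQCoh_pushforward U.ι _ (hcoh n).1)
    (fun W hW => (local_pred hyp R π hπ hG hcoh hfree hW).2 n)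

end Gen

end K177.LocHyp
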