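import Groth.Agent.LefX.K177.PartI
import Groth.Prelude.Def_LefX

/-!
# Full faithfulness and essential surjectivity, in terms of the completion
-/

set_option autoImplicit false
set_option linter.unusedSectionVars false
universe u

open CategoryTheory CategoryTheory.Limits AlgebraicGeometry Opposite TopologicalSpace

namespace K177.Part12

open Groth.Agent Groth.Agent.FormalB Groth.Agent.FormalB.ModPow
  Groth.Agent.FormalB.FormalLoc K177.LocHyp Groth.Agent.Sga2lef.H96.ModSysFormal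
  Groth.Agent.Sga2lef.H96.ModSysPush

variable {A : Type u} [CommRing A] [IsNoetherianRing A] {X : Scheme.{u}} [X.Over (Spec (CommRingCat.of A))]
  {U : X.Opens} [IsProper (X ↘ Spec (CommRingCat.of A))] (hyp : Hyp A X U)
  (R : Type u) [CommRing R] [IsRegularRing R] (π : R →+* A) (hπ : Function.Surjective π)
  (J : Ideal A) [IsAdicComplete J A] {𝓘 : (U : Scheme.{u}).IdealSheafData} (h : IsGenBy J 𝓘)

include hyp hπ h in
/-- Part (i). -/
theorem homToFormalBijective (D : (U : Scheme.{u}).Modules) (hD : Coh.IsCoh D) :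
    Lef.HomToFormalBijective 𝓘 D := by
  obtain ⟨h1, h2⟩ := PartI.bijective hyp R π hπ J D hD
  have hq : ∀ n : ℕ, IsModPow (J ^ (n + 1)) (ClSub.toSubscheme (𝓘 ^ (n + 1))) := fun n =>
    (h.pow (n + 1)).isModPow (K730.LeffProper.isKQuot_toSubscheme _)
  choose e he1 he2 using fun n =>
    (isModPow_cπ J (Coh.structureModule (U : Scheme.{u})) n).exists_iso (hq n)
  constructor
  · intro φ ψ hφ
    refine h1 φ ψ fun n => ?_
    rw [← he2 n, ← Category.assoc, ← Category.assoc]
    exact congrArg (· ≫ (e n).inv) (hφ n)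
  · intro y hy
    obtain ⟨φ, hφ⟩ := h2 (fun n => y n ≫ (e n).inv) (fun n => by
      have hepi : Epi (ClSub.toSubscheme (𝓘 ^ (n + 1 + 1))) := (hq (n + 1)).epi
      have h4 : (e (n + 1)).inv ≫
          (Formal.completion J (Coh.structureModule (U : Scheme.{u}))).map (homOfLE (Nat.le_succ n)).op =
          Lef.quotMap (Lef.pow_succ_le 𝓘 n) ≫ (e n).inv := by
        rw [← cancel_epi (ClSub.toSubscheme (𝓘 ^ (n + 1 + 1)))]
        rw [← Category.assoc, he2, cπ_map_succ, ← Category.assoc]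
        have h5 : ClSub.toSubscheme (𝓘 ^ (n + 1 + 1)) ≫ Lef.quotMap (Lef.pow_succ_le 𝓘 n) =
          ClSub.toSubscheme (𝓘 ^ (n + 1)) := Groth.Agent.Sga2lef.H102.ProZero.toSubscheme_quotMap _
        rw [h5, he2]
      rw [Category.assoc, h4, ← Category.assoc, hy n])
    refine ⟨φ, fun n => ?_⟩
    have h6 := congrArg (· ≫ (e n).hom) (hφ n)
    simp only [Category.assoc, Iso.inv_hom_id, Category.comp_id, he1] at h6
    exact h6

include hyp hπ h in
/-- Part (ii). -/
theorem algebraize_modSys (𝔐 : FSch.ModSys (FSch.completionAlong (U : Scheme.{u}) 𝓘))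
    (hlf : LefX.LevelwiseFinLocFree 𝔐) :
    ∃ F : (U : Scheme.{u}).Modules, Coh.IsCoh F ∧ Nonempty (FSch.completionMod 𝓘 F ≅ 𝔐) := by
  have hcoh : 𝔐.IsCoh := fun n => Groth.Agent.PerfA.CohSerre.isCoh_of_isFinLocFree (hlf n)
  have hcf := isCohFormal_toSys h 𝔐 hcoh
  obtain ⟨hc, hf⟩ := (isCohFormal_iff _ _).1 hcf
  obtain ⟨F, hF, he⟩ := algebraize hyp R π hπ hf hc
    (Groth.Agent.Sga2lef.H96.LevelFree.isFinLocFreeMod_toSys h 𝔐 hlf)
  exact ⟨F, hF, nonempty_iso h 𝔐 F hF.1 he⟩

end K177.Part12
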