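import Groth.Agent.LefX.K177.SecO
import Groth.Agent.LefX.K177.HomCrit
import Groth.Agent.PicLoc.K730.LeffProper
import Groth.Agent.Props.K593.ExtSub
import Groth.Agent.FormalA.ExPush

/-!
# Full faithfulness of completion on an open subscheme

`X` proper over `Spec A`, `A` complete for `J`, `U ⊆ X` open with `Hyp A X U`.  For `D` coherent on `U` the map
`Hom(D, O) → lim Hom(D, O/J^(n+1) O)` is bijective.
-/

set_option autoImplicit false
set_option linter.unusedSectionVars false
universe u

open CategoryTheory CategoryTheory.Limits AlgebraicGeometry Opposite TopologicalSpace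

namespace K177.PartI

open Groth.Agent Groth.Agent.FormalB Groth.Agent.FormalB.ModPow Groth.Agent.FormalB.ModPowAff
  Groth.Agent.FormalB.FormalLoc K177.ExtCrit K177.ExtAlg K177.LocHyp K177.SecO
  Groth.Agent.Sga2lef.H96.ModSysFormal

variable {A : Type u} [CommRing A] [IsNoetherianRing A] {X : Scheme.{u}} [X.Over (Spec (CommRingCat.of A))]
  {U : X.Opens} [IsProper (X ↘ Spec (CommRingCat.of A))] (hyp : Hyp A X U)
  (R : Type u) [CommRing R] [IsRegularRing R] (π : R →+* A) (hπ : Function.Surjective π)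
  (J : Ideal A) [IsAdicComplete J A]

include hyp hπ in
/-- The bijectivity for the system of the completion. -/
theorem bijective (D : (U : Scheme.{u}).Modules) (hD : Coh.IsCoh D) :
    (∀ φ ψ : D ⟶ Coh.structureModule (U : Scheme.{u}),
      (∀ n, φ ≫ cπ J _ n = ψ ≫ cπ J _ n) → φ = ψ) ∧
    ∀ y : ∀ n : ℕ, D ⟶ (Formal.completion J (Coh.structureModule (U : Scheme.{u}))).obj (op n),
      (∀ n, y (n + 1) ≫ (Formal.completion J (Coh.structureModule (U : Scheme.{u}))).map
        (homOfLE (Nat.le_succ n)).op = y n) →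
      ∃ φ : D ⟶ Coh.structureModule (U : Scheme.{u}), ∀ n, φ ≫ cπ J _ n = y n := by
  have hXn : IsLocallyNoetherian X :=
    LocallyOfFiniteType.isLocallyNoetherian (X ↘ Spec (CommRingCat.of A))
  have hXc : CompactSpace X :=
    (quasiCompact_iff_compactSpace (f := X ↘ Spec (CommRingCat.of A))).1 inferInstance
  have hXN : IsNoetherian X := {}
  have hUc : IsCompact (U : Set X) := TopologicalSpace.NoetherianSpace.isCompact _
  have hDq := hD.1
  obtain ⟨M, hM1, hM2, ⟨e⟩⟩ := K593.ExtSub.exists_extension U hUc D hD.2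
  have hMc : Coh.IsCoh M := ⟨hM1, hM2⟩
  let O := Coh.structureModule (U : Scheme.{u})
  have hOq : Coh.IsQCoh O := Groth.Agent.Ega2.QCohLocal.isQCoh_structureModule _
  let E := EE U (Formal.completion J O)
  let N := (Scheme.Modules.pushforward U.ι).obj O
  have hNq : Coh.IsQCoh N := Groth.Agent.Ega1.QcqsPush.isQCoh_pushforward U.ι _ hOq
  have hNc : Coh.IsCoh N := isCoh_of_finite_sections N hNq fun W hW => finite_O hyp R π hπ hW
  have hEq : ∀ n, Coh.IsQCoh (E.obj (op n)) := fun n =>
    Groth.Agent.Ega1.QcqsPush.isQCoh_pushforward U.ι _ (IsModPow.isQCoh hOq (isModPow_cπ J O n))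
  have hkill : ∀ n, ∀ a ∈ J ^ (n + 1), Formal.smulMod A N a ≫ qn U J n = 0 := by
    intro n a ha
    have h1 := Groth.Agent.FormalA.ExPush.pushforward_map_smulMod U.ι rfl O a
    have h2 : (Scheme.Modules.pushforward U.ι).map (Formal.smulMod A O a) ≫
        (Scheme.Modules.pushforward U.ι).map (cπ J O n) = 0 := by
      rw [← Functor.map_comp, (isModPow_cπ J O n).smul_comp a ha, Functor.map_zero]
    rw [h1] at h2
    exact h2
  obtain ⟨c, hc⟩ := exists_uniform_cover (X := X) (fun W c => ∀ k, ∀ s, (qn U J (k + c)).app W s = 0 →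
      s ∈ (J.map (toΓ A X W)) ^ (k + 1) • (⊤ : Submodule Γ(X, W) Γ(N, W)))
    (fun W m n h hP k s hs => hP k s (by
      rw [← qn_map U J (show k + m ≤ k + n by omega)]
      change (E.map _).app W ((qn U J (k + n)).app W s) = 0
      rw [hs, map_zero]))
    (fun W hW => (local_O hyp R π hπ J hW).1)
  have hI : ∀ k, kernel.ι (qn U J (k + c)) ≫ cπ J N k = 0 := fun k =>
    HomCrit.ker_comp (qn U J) hNq hEq fun x => by
      obtain ⟨W, hx, hW, h⟩ := hc x
      exact ⟨W, hx, hW, h k⟩
  have hB : ∀ n, ∃ (k : ℕ) (h : n ≤ k), E.map (homOfLE h).op ≫ cokernel.π (qn U J n) = 0 := by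
    intro n
    obtain ⟨k, hk⟩ := exists_uniform_cover (X := X) (fun W k => ∀ t : Γ(E.obj (op (n + k)), W),
        ∃ s : Γ(N, W), (qn U J n).app W s = (E.map (homOfLE (Nat.le_add_right n k)).op).app W t)
      (fun W k k' h hP t => by
        obtain ⟨s, hs⟩ := hP ((E.map (homOfLE (show n + k ≤ n + k' by omega)).op).app W t)
        refine ⟨s, hs.trans ?_⟩
        rw [map_homOfLE_comp E (Nat.le_add_right n k) (show n + k ≤ n + k' by omega)]
        rfl)
      (fun W hW => by
        obtain ⟨k, hk, h⟩ := (local_O hyp R π hπ J hW).2 n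
        obtain ⟨k, rfl⟩ : ∃ k', k = n + k' := ⟨k - n, by omega⟩
        exact ⟨k, h⟩)
    exact ⟨n + k, Nat.le_add_right n k, HomCrit.map_comp_eq_zero (qn U J) hNq hEq _ hk⟩
  have hq : ∀ n, qn U J (n + 1) ≫ E.map (homOfLE (Nat.le_succ n)).op = qn U J n := fun n =>
    qn_map U J (Nat.le_succ n)
  let adj := Scheme.Modules.restrictAdjunction U.ι
  have hadj : ∀ (φ : D ⟶ O) (n : ℕ), (adj.homEquiv M O) (e.hom ≫ φ) ≫ qn U J n =
      (adj.homEquiv M _) (e.hom ≫ φ ≫ cπ J O n) := by
    intro φ n
    have h1 := adj.homEquiv_naturality_right (e.hom ≫ φ) (cπ J O n)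
    rw [Category.assoc] at h1
    exact h1.symm
  constructor
  · intro φ ψ h
    have h0 : (adj.homEquiv M O) (e.hom ≫ (φ - ψ)) = 0 := by
      refine HomCrit.eq_zero (qn U J) c hI hMc hNc _ fun n => ?_
      rw [hadj, Preadditive.sub_comp, h n, sub_self, comp_zero]
      exact (adj.homAddEquiv M _).map_zero
    have h1 : e.hom ≫ (φ - ψ) = 0 := by
      apply (adj.homEquiv M O).injective
      rw [h0]
      exact ((adj.homAddEquiv M O).map_zero).symm
    have h2 : φ - ψ = 0 := by rw [← cancel_epi e.hom, h1, comp_zero]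
    exact sub_eq_zero.1 h2
  · intro y hy
    obtain ⟨Φ, hΦ⟩ := HomCrit.exists_hom (qn U J) hq hkill c hI hB hMc hNc
      (fun n => (adj.homEquiv M _) (e.hom ≫ y n)) (fun n => by
        have h1 := adj.homEquiv_naturality_right (e.hom ≫ y (n + 1))
          ((Formal.completion J O).map (homOfLE (Nat.le_succ n)).op)
        rw [Category.assoc, hy n] at h1
        exact h1.symm)
    refine ⟨e.inv ≫ (adj.homEquiv M O).symm Φ, fun n => ?_⟩
    have h1 := hΦ n
    have h2 := hadj (e.inv ≫ (adj.homEquiv M O).symm Φ) n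
    rw [Iso.hom_inv_id_assoc, Equiv.apply_symm_apply, h1] at h2
    have h3 := (adj.homEquiv M _).injective h2
    rw [← cancel_epi e.hom]
    exact h3.symm

end K177.PartI
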