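import Groth.Agent.LefX.K177.GrDepth2
import Groth.Agent.FormalB.GrAlg

/-!
# `T^0(B)` and the system `T^0(B/I^n)`

`T` a linear delta functor on `B`-modules such that `T^0`, `T^1` of the powers of `I` are finite and eventually
generated.  Then `T^0(B) → T^0(B/I^(k+N))` has kernel in `I^k T^0(B)` (`ker_le`), and the elements of `T^0(B/I^n)`
which lift to `T^0(B/I^k)`, `k` large, lift to `T^0(B)` (`exists_lift`).
-/

set_option autoImplicit false
set_option linter.unusedSectionVars false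
universe u

open CategoryTheory CategoryTheory.Limits

namespace K177.PowApprox

open Groth.Agent.Localalg.DeltaFun K177.GrDepth2

variable {B : Type u} [CommRing B] {I : Ideal B}

section Maps

/-- the inclusion -/
def incl {m n : ℕ} (h : n ≤ m) : ↥(I ^ m) →ₗ[B] ↥(I ^ n) :=
  Submodule.inclusion (Ideal.pow_le_pow_right h)

/-- the inclusion -/
def sub (n : ℕ) : ↥(I ^ n) →ₗ[B] B := Submodule.subtype (I ^ n)

/-- the projection -/
def quo (n : ℕ) : B →ₗ[B] B ⧸ I ^ n := Submodule.mkQ (I ^ n)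

/-- the projection -/
def fac {m n : ℕ} (h : n ≤ m) : (B ⧸ I ^ m) →ₗ[B] (B ⧸ I ^ n) :=
  Submodule.factor (Ideal.pow_le_pow_right h)

theorem sub_mulPow (a : I) (n : ℕ) : (sub (n + 1)).comp (mulPow a n) = (a : B) • sub n :=
  LinearMap.ext fun _ => rfl

theorem incl_mulPow (a : I) {m n : ℕ} (h : n ≤ m) (h' : n ≤ m + 1) :
    (incl h').comp (mulPow a m) = (a : B) • incl h :=
  LinearMap.ext fun _ => Subtype.ext rfl

variable (I) in
/-- `0 → I^n → B → B/I^n → 0` -/
def SS (n : ℕ) : ShortComplex (ModuleCat.{u} B) :=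
  ShortComplex.mk (ModuleCat.ofHom (sub (I := I) n)) (ModuleCat.ofHom (quo (I := I) n))
    (ModuleCat.hom_ext (LinearMap.ext fun x => (Submodule.Quotient.mk_eq_zero _).2 x.2))

variable (I) in
theorem SS_exact (n : ℕ) : (SS I n).ShortExact where
  exact := by
    rw [ShortComplex.moduleCat_exact_iff]
    intro x hx
    exact ⟨⟨x, (Submodule.Quotient.mk_eq_zero (I ^ n)).1 hx⟩, rfl⟩
  mono_f := (ModuleCat.mono_iff_injective _).2 (Submodule.injective_subtype _)
  epi_g := (ModuleCat.epi_iff_surjective _).2 (Submodule.mkQ_surjective _)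

variable (I) in
/-- the map of sequences -/
def SSmap {m n : ℕ} (h : n ≤ m) : SS I m ⟶ SS I n where
  τ₁ := ModuleCat.ofHom (incl h)
  τ₂ := 𝟙 _
  τ₃ := ModuleCat.ofHom (fac h)

end Maps

section DF

variable (T : DeltaFunctor (ModuleCat.{u} B) (ModuleCat.{u} B))
  (lin : ∀ (n : ℕ) (M : ModuleCat.{u} B) (a : B) (x : (T.T n).obj M),
    ((T.T n).map (a • 𝟙 M)).hom x = a • x)

/-- `T` on linear maps -/
noncomputable def tm (j : ℕ) {M N : Type u} [AddCommGroup M] [Module B M] [AddCommGroup N] [Module B N]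
    (f : M →ₗ[B] N) : (T.T j).obj (ModuleCat.of B M) →ₗ[B] (T.T j).obj (ModuleCat.of B N) :=
  ((T.T j).map (ModuleCat.ofHom f)).hom

theorem tm_comp (j : ℕ) {M N P : Type u} [AddCommGroup M] [Module B M] [AddCommGroup N] [Module B N]
    [AddCommGroup P] [Module B P] (f : M →ₗ[B] N) (g : N →ₗ[B] P) (x : (T.T j).obj (ModuleCat.of B M)) :
    tm T j (g.comp f) x = tm T j g (tm T j f x) := by
  change ((T.T j).map (ModuleCat.ofHom f ≫ ModuleCat.ofHom g)).hom x = _
  rw [Functor.map_comp]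
  rfl

include lin in
theorem tm_smul (j : ℕ) {M N : Type u} [AddCommGroup M] [Module B M] [AddCommGroup N] [Module B N]
    (a : B) (f : M →ₗ[B] N) (x : (T.T j).obj (ModuleCat.of B M)) :
    tm T j (a • f) x = a • tm T j f x := by
  have h1 : ModuleCat.ofHom (a • f) = ModuleCat.ofHom f ≫ (a • 𝟙 (ModuleCat.of B N)) :=
    ModuleCat.hom_ext (LinearMap.ext fun _ => rfl)
  change ((T.T j).map (ModuleCat.ofHom (a • f))).hom x = _
  rw [h1, Functor.map_comp]
  exact lin j _ a _

theorem tm_zero (j : ℕ) {M N : Type u} [AddCommGroup M] [Module B M] [AddCommGroup N] [Module B N]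
    (x : (T.T j).obj (ModuleCat.of B M)) : tm T j (0 : M →ₗ[B] N) x = 0 := by
  change ((T.T j).map (0 : ModuleCat.of B M ⟶ ModuleCat.of B N)).hom x = 0
  rw [Functor.map_zero]
  rfl

/-- the connecting map -/
noncomputable def del (n : ℕ) : (T.T 0).obj (ModuleCat.of B (B ⧸ I ^ n)) →ₗ[B]
    (T.T 1).obj (ModuleCat.of B ↥(I ^ n)) := (T.δ (SS_exact I n) 0).hom

theorem del_fac {m n : ℕ} (h : n ≤ m) (t : (T.T 0).obj (ModuleCat.of B (B ⧸ I ^ m))) :
    del T n (tm T 0 (fac h) t) = tm T 1 (incl h) (del T m t) :=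
  congrArg (fun φ => φ.hom t) (T.naturality (SS_exact I m) (SS_exact I n) (SSmap I h) 0)

theorem sub_del (n : ℕ) (t : (T.T 0).obj (ModuleCat.of B (B ⧸ I ^ n))) :
    tm T 1 (sub n) (del T n t) = 0 :=
  congrArg (fun φ => φ.hom t) (T.zero₁ (SS_exact I n) 0)

theorem exists_of_sub (n : ℕ) (x : (T.T 1).obj (ModuleCat.of B ↥(I ^ n))) (hx : tm T 1 (sub n) x = 0) :
    ∃ t, del T n t = x :=
  (ShortComplex.moduleCat_exact_iff _).1 (T.exact₁ (SS_exact I n) 0) x hx

theorem exists_of_quo (n : ℕ) (x : (T.T 0).obj (ModuleCat.of B B)) (hx : tm T 0 (quo (I := I) n) x = 0) :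
    ∃ y, tm T 0 (sub (I := I) n) y = x :=
  (ShortComplex.moduleCat_exact_iff _).1 (T.exact₂ (SS_exact I n) 0) x hx

theorem exists_of_del (n : ℕ) (t : (T.T 0).obj (ModuleCat.of B (B ⧸ I ^ n))) (ht : del T n t = 0) :
    ∃ s, tm T 0 (quo (I := I) n) s = t :=
  (ShortComplex.moduleCat_exact_iff _).1 (T.exact₃ (SS_exact I n) 0) t ht

variable {r : ℕ} (a : Fin r → I)

include lin in
theorem smul_tm_quot (n : ℕ) (c : B) (hc : c ∈ I ^ n) (t : (T.T 0).obj (ModuleCat.of B (B ⧸ I ^ n))) :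
    c • t = 0 := by
  rw [← lin 0 _ c t]
  have h1 : (c • 𝟙 (ModuleCat.of B (B ⧸ I ^ n))) = 0 := by
    refine ModuleCat.hom_ext (LinearMap.ext fun x => ?_)
    obtain ⟨x, rfl⟩ := Submodule.Quotient.mk_surjective _ x
    change c • (Submodule.Quotient.mk x : B ⧸ I ^ n) = 0
    rw [← Submodule.Quotient.mk_smul, Submodule.Quotient.mk_eq_zero, smul_eq_mul]
    exact Ideal.mul_mem_right _ _ hc
  rw [h1, Functor.map_zero]
  rfl

include lin in
/-- The kernel of `T^0(B) → T^0(B/I^(k+N))` is contained in `I^k T^0(B)`. -/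
theorem ker_le (hgen : ∃ N : ℕ, ∀ n, N ≤ n → (⊤ : Submodule B ((T.T 0).obj (ModuleCat.of B ↥(I ^ (n + 1))))) ≤
      ⨆ i, LinearMap.range (tm T 0 (mulPow (a i) n))) :
    ∃ N : ℕ, ∀ k, ∀ x : (T.T 0).obj (ModuleCat.of B B), tm T 0 (quo (I := I) (k + N)) x = 0 →
      x ∈ I ^ k • (⊤ : Submodule B ((T.T 0).obj (ModuleCat.of B B))) := by
  obtain ⟨N, hN⟩ := hgen
  have key : ∀ k (y : (T.T 0).obj (ModuleCat.of B ↥(I ^ (k + N)))), tm T 0 (sub (I := I) (k + N)) y ∈
      I ^ k • (⊤ : Submodule B ((T.T 0).obj (ModuleCat.of B B))) := by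
    intro k
    induction k with
    | zero =>
      intro y
      rw [pow_zero, Ideal.one_eq_top, Submodule.top_smul]
      trivial
    | succ k ih =>
      have e : k + 1 + N = (k + N) + 1 := by omega
      rw [e]
      intro y
      have hy := hN (k + N) (by omega) (Submodule.mem_top (x := y))
      refine Submodule.iSup_induction (fun i => LinearMap.range (tm T 0 (mulPow (a i) (k + N))))
        (motive := fun y => tm T 0 (sub (I := I) (k + N + 1)) y ∈
          I ^ (k + 1) • (⊤ : Submodule B ((T.T 0).obj (ModuleCat.of B B)))) hy ?_ ?_ ?_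
      · rintro i _ ⟨z, rfl⟩
        rw [← tm_comp, sub_mulPow, tm_smul T lin, pow_succ', Submodule.mul_smul]
        exact Submodule.smul_mem_smul (a i).2 (ih z)
      · rw [map_zero]; exact zero_mem _
      · intro x y hx hy
        rw [map_add]; exact add_mem hx hy
  refine ⟨N, fun k x hx => ?_⟩
  obtain ⟨y, rfl⟩ := exists_of_quo T _ x hx
  exact key k y

include lin in
/-- Sections which lift far lift to `T^0(B)`. -/
theorem exists_lift [IsNoetherianRing B]
    (hfin : ∀ n, Module.Finite B ((T.T 1).obj (ModuleCat.of B ↥(I ^ n))))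
    (hgen : ∃ N : ℕ, ∀ n, N ≤ n → (⊤ : Submodule B ((T.T 1).obj (ModuleCat.of B ↥(I ^ (n + 1))))) ≤
      ⨆ i, LinearMap.range (tm T 1 (mulPow (a i) n))) (n : ℕ) :
    ∃ (k : ℕ) (h : n ≤ k), ∀ t : (T.T 0).obj (ModuleCat.of B (B ⧸ I ^ k)),
      ∃ s : (T.T 0).obj (ModuleCat.of B B), tm T 0 (quo (I := I) n) s = tm T 0 (fac h) t := by
  let R : ∀ n, Submodule B ((T.T 1).obj (ModuleCat.of B ↥(I ^ n))) := fun n =>
    LinearMap.ker (tm T 1 (sub (I := I) n))
  have hR : ∀ i n, (R n).map (tm T 1 (mulPow (a i) n)) ≤ R (n + 1) := by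
    rintro i n _ ⟨x, hx, rfl⟩
    rw [LinearMap.mem_ker, ← tm_comp, sub_mulPow, tm_smul T lin]
    have hx' : tm T 1 (sub (I := I) n) x = 0 := hx
    rw [hx', smul_zero]
  obtain ⟨n₀, hn₀⟩ := Groth.Agent.FormalB.GrAlg.exists_generated_submodule
    (M := fun n => (T.T 1).obj (ModuleCat.of B ↥(I ^ n)))
    (fun i n => tm T 1 (mulPow (a i) n)) (fun i j n m => by
      rw [← tm_comp, ← tm_comp]
      congr 2
      refine LinearMap.ext fun x => Subtype.ext ?_
      change (a i : B) * ((a j : B) * x) = a j * (a i * x)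
      ring) hfin hgen R hR
  let m := max n₀ n
  have hm : n₀ ≤ m := le_max_left _ _
  have hnm : n ≤ m := le_max_right _ _
  have key : ∀ j, ∀ x ∈ R (m + j), tm T 1 (incl (show n ≤ m + j by omega)) x ∈
      I ^ j • (R m).map (tm T 1 (incl hnm)) := by
    intro j
    induction j with
    | zero =>
      intro x hx
      rw [pow_zero, Ideal.one_eq_top, Submodule.top_smul]
      exact ⟨x, hx, rfl⟩
    | succ j ih =>
      intro x hx
      have hy := hn₀ (m + j) (by omega) hx
      refine Submodule.iSup_induction (fun i => (R (m + j)).map (tm T 1 (mulPow (a i) (m + j))))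
        (motive := fun x => tm T 1 (incl (show n ≤ m + (j + 1) by omega)) x ∈
          I ^ (j + 1) • (R m).map (tm T 1 (incl hnm))) hy ?_ ?_ ?_
      · rintro i _ ⟨z, hz, rfl⟩
        have h1 := tm_comp T 1 (mulPow (a i) (m + j)) (incl (show n ≤ m + j + 1 by omega)) z
        rw [incl_mulPow (a i) (show n ≤ m + j by omega), tm_smul T lin] at h1
        refine Eq.mp (congrArg (fun w => w ∈ I ^ (j + 1) • (R m).map (tm T 1 (incl hnm))) h1) ?_
        rw [pow_succ', Submodule.mul_smul]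
        exact Submodule.smul_mem_smul (a i).2 (ih z hz)
      · rw [map_zero]; exact zero_mem _
      · intro x y hx hy
        rw [map_add]; exact add_mem hx hy
  have hkill : I ^ m • (R m).map (tm T 1 (incl hnm)) = ⊥ := by
    rw [eq_bot_iff, Submodule.smul_le]
    rintro c hc _ ⟨x, hx, rfl⟩
    obtain ⟨t, rfl⟩ := exists_of_sub T m x hx
    rw [← map_smul, ← map_smul, smul_tm_quot T lin m c hc, map_zero, map_zero]
    exact zero_mem _
  refine ⟨m + m, by omega, fun t => ?_⟩
  refine exists_of_del T n _ ?_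
  rw [del_fac]
  have h1 := key m (del T (m + m) t) (sub_del T _ t)
  rw [hkill] at h1
  exact h1

end DF

end K177.PowApprox
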