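import Groth.Agent.LefX.K177.GrConv
import Groth.Agent.CohqB.RpushFin
import Groth.Agent.Ega3B.RpushAff
import Groth.Agent.Ega2.QCohLocal
import Groth.Agent.VarietyB.HHPush
import Groth.Agent.CohqA.PushRes
import Groth.Agent.Fga.EulerIso
import Groth.Agent.CohqB.FiniteType2

/-!
# Coherence of `R^i g_* O` gives finiteness of the cohomology of open subsets of affine open subschemes

`Y` locally Noetherian, `U ⊆ Y` open, `R^i(U → Y)_* O` coherent, `φ : Spec C → Y` an open immersion: then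
`H^i(φ⁻¹ U, O)` is finite over `C`.
-/

set_option autoImplicit false
universe u

open CategoryTheory CategoryTheory.Limits AlgebraicGeometry Opposite TopologicalSpace

namespace K177.RpushLoc

open Groth.Agent

/-- Direct image of the structure sheaf along an isomorphism. -/
theorem nonempty_push_iso {X Y : Scheme.{u}} (k : X ≅ Y) :
    Nonempty ((Coh.push k.hom).obj (Coh.structureModule X) ≅ Coh.structureModule Y) := by
  have sq : IsPullback (𝟙 Y) k.inv (𝟙 Y) k.hom := IsPullback.of_horiz_isIso ⟨by simp⟩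
  let e1 := (Groth.Agent.CohqA.PushRes.iso sq).app (Coh.structureModule X)
  let e2 := (Scheme.Modules.restrictFunctorId (X := Y)).app ((Coh.push k.hom).obj (Coh.structureModule X))
  let e3 : (Scheme.Modules.restrictFunctor k.inv).obj (Coh.structureModule X) ≅ Coh.structureModule Y :=
    Scheme.Modules.restrictUnitIso k.inv
  let e4 := (Scheme.Modules.pushforwardId (X := Y)).app
    ((Scheme.Modules.restrictFunctor k.inv).obj (Coh.structureModule X))
  exact ⟨e2.symm ≪≫ e1 ≪≫ e4 ≪≫ e3⟩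

/-- The structure sheaf as `Theta`. -/
theorem nonempty_theta {C : Type u} [CommRing C] (V : (Spec (CommRingCat.of C)).Opens) :
    Nonempty ((FormalB.PuncTheta.Theta V).obj (ModuleCat.of C C) ≅
      Coh.structureModule (V : Scheme.{u})) :=
  ⟨Scheme.Modules.restrictUnitIso V.ι⟩

/-- Independence of the base ring. -/
theorem finite_HH_of_hom {X : Scheme.{u}} {A C : Type u} [CommRing A] [CommRing C] (φ : A →+* C)
    (p : X ⟶ Spec (CommRingCat.of C)) (M : X.Modules) (n : ℕ)
    (h : letI : X.Over (Spec (CommRingCat.of A)) := ⟨p ≫ Spec.map (CommRingCat.ofHom φ)⟩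
      Module.Finite A (Coh.HH X M n)) :
    letI : X.Over (Spec (CommRingCat.of C)) := ⟨p⟩
    Module.Finite C (Coh.HH X M n) := by
  let i1 : X.Over (Spec (CommRingCat.of C)) := ⟨p⟩
  let i2 : X.Over (Spec (CommRingCat.of A)) := ⟨p ≫ Spec.map (CommRingCat.ofHom φ)⟩
  have h' : Module.Finite A (Coh.HH X M n) := h
  have hg : ∀ a : A, Coh.toGlobal (X ↘ Spec (CommRingCat.of A)) a =
      Coh.toGlobal (X ↘ Spec (CommRingCat.of C)) (φ a) := by
    intro a
    change ((Scheme.ΓSpecIso (CommRingCat.of A)).inv ≫ (p ≫ Spec.map (CommRingCat.ofHom φ)).appTop) a =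
      ((Scheme.ΓSpecIso (CommRingCat.of C)).inv ≫ p.appTop) (φ a)
    rw [Scheme.Hom.comp_appTop]
    have := Scheme.ΓSpecIso_inv_naturality (CommRingCat.ofHom φ)
    rw [← Category.assoc, ← this, Category.assoc]
    rfl
  have hs : ∀ (a : A) (x : Coh.HH X M n), a • x = φ a • x := fun a x =>
    congrArg (fun r : Coh.Γtop X => r • x) (hg a)
  obtain ⟨s, hs'⟩ := h'.fg_top
  refine ⟨⟨s, eq_top_iff.2 fun x _ => ?_⟩⟩
  have hx : x ∈ Submodule.span A (s : Set (Coh.HH X M n)) := hs' ▸ Submodule.mem_top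
  clear * - hx hs
  induction hx using Submodule.span_induction with
  | mem x hx => exact Submodule.subset_span hx
  | zero => exact zero_mem _
  | add x y _ _ hx hy => exact add_mem hx hy
  | smul a x _ hx => rw [hs]; exact Submodule.smul_mem _ _ hx

/-- **Finiteness from coherence of the direct images.** -/
theorem finite_HH {Y : Scheme.{u}} [IsLocallyNoetherian Y] (U : Y.Opens) (i : ℕ)
    (hc : ∀ [HasInjectiveResolutions (U : Scheme.{u}).Modules],
      Coh.IsCoh ((Coh.Rpush U.ι i).obj (Coh.structureModule (U : Scheme.{u}))))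
    {C : Type u} [CommRing C] (φ : Spec (CommRingCat.of C) ⟶ Y) [IsOpenImmersion φ]
    (V : (Spec (CommRingCat.of C)).Opens) (hV : V = φ ⁻¹ᵁ U) :
    Module.Finite C ((FormalB.HMod.HM C (V : Scheme.{u}) i).obj
      ((FormalB.PuncTheta.Theta V).obj (ModuleCat.of C C))) := by
  have hE := Groth.Agent.VarietyB.HHPush.enoughInjectives (U : Scheme.{u})
  have hI : HasInjectiveResolutions (U : Scheme.{u}).Modules := inferInstance
  have hco := hc
  subst hV
  let W : Y.Opens := φ.opensRange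
  have hW : IsAffineOpen W := isAffineOpen_opensRange φ
  have hqc : QuasiCompact U.ι := inferInstance
  have hqO : Coh.IsQCoh (Coh.structureModule (U : Scheme.{u})) :=
    Groth.Agent.Ega2.QCohLocal.isQCoh_structureModule _
  have hq := hco.1
  have hfin : Module.Finite Γ(Y, W) Γ((Coh.Rpush U.ι i).obj (Coh.structureModule (U : Scheme.{u})), W) :=
    Groth.Agent.CohqB.FiniteType2.finite_sections_of_isFT _ hco.2 hW
  let Z : (U : Scheme.{u}).Opens := U.ι ⁻¹ᵁ W
  let iZ : (Z : Scheme.{u}).Over (Spec (CommRingCat.of Γ(Y, W))) := ⟨(U.ι ∣_ W) ≫ hW.isoSpec.hom⟩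
  obtain ⟨e⟩ := Groth.Agent.Ega3B.RpushAff.exists_linearEquiv U.ι (Coh.structureModule (U : Scheme.{u}))
    hqO hW i
  have h1 : Module.Finite Γ(Y, W) (Coh.HH (Z : Scheme.{u})
    ((Coh.structureModule (U : Scheme.{u})).restrict Z.ι) i) := Module.Finite.equiv e
  let V : (Spec (CommRingCat.of C)).Opens := φ ⁻¹ᵁ U
  have hr : Set.range (V.ι ≫ φ) = Set.range (Z.ι ≫ U.ι) := by
    rw [← Scheme.Hom.coe_opensRange, ← Scheme.Hom.coe_opensRange, Scheme.Hom.opensRange_comp,
      Scheme.Hom.opensRange_comp, Scheme.Opens.opensRange_ι, Scheme.Opens.opensRange_ι]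
    change ((φ ''ᵁ (φ ⁻¹ᵁ U) : Y.Opens) : Set Y) = ((U.ι ''ᵁ (U.ι ⁻¹ᵁ W) : Y.Opens) : Set Y)
    rw [Scheme.Hom.image_preimage_eq_opensRange_inf, Scheme.Hom.image_preimage_eq_opensRange_inf,
      Scheme.Opens.opensRange_ι, inf_comm]
  let k : (V : Scheme.{u}) ≅ (Z : Scheme.{u}) := IsOpenImmersion.isoOfRangeEq (V.ι ≫ φ) (Z.ι ≫ U.ι) hr
  have hk : k.hom ≫ Z.ι ≫ U.ι = V.ι ≫ φ := IsOpenImmersion.isoOfRangeEq_hom_fac _ _ hr
  have hr2 : Set.range φ ⊆ Set.range hW.fromSpec := by
    rw [hW.range_fromSpec]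
    exact subset_rfl
  let ψ : CommRingCat.of Γ(Y, W) ⟶ CommRingCat.of C := Spec.preimage (IsOpenImmersion.lift hW.fromSpec φ hr2)
  have hψ : Spec.map ψ ≫ hW.fromSpec = φ := by
    rw [Spec.map_preimage]
    exact IsOpenImmersion.lift_fac _ _ _
  let iV : (V : Scheme.{u}).Over (Spec (CommRingCat.of Γ(Y, W))) := ⟨V.ι ≫ Spec.map (CommRingCat.ofHom ψ.hom)⟩
  have hkov : k.hom ≫ ((Z : Scheme.{u}) ↘ Spec (CommRingCat.of Γ(Y, W))) =
      (V : Scheme.{u}) ↘ Spec (CommRingCat.of Γ(Y, W)) := by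
    rw [← cancel_mono hW.fromSpec]
    change (k.hom ≫ (U.ι ∣_ W) ≫ hW.isoSpec.hom) ≫ hW.fromSpec = (V.ι ≫ Spec.map ψ) ≫ hW.fromSpec
    rw [Category.assoc, Category.assoc, Category.assoc, hψ, ← hk, IsAffineOpen.isoSpec_hom_fromSpec,
      morphismRestrict_ι]
  obtain ⟨e1⟩ := nonempty_push_iso k
  obtain ⟨e2⟩ := nonempty_theta V
  obtain ⟨e3⟩ := Groth.Agent.VarietyB.HHPush.exists_linearEquiv k.hom Γ(Y, W) hkov
    (Coh.structureModule (V : Scheme.{u})) (Groth.Agent.Ega2.QCohLocal.isQCoh_structureModule _) i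
  let e4 := Groth.Agent.Fga.EulerIso.HHequiv Γ(Y, W) (e1 ≪≫ (Scheme.Modules.restrictUnitIso Z.ι).symm) i
  have h2 : Module.Finite Γ(Y, W) (Coh.HH (V : Scheme.{u}) (Coh.structureModule (V : Scheme.{u})) i) := by
    have := Module.Finite.equiv e4.symm
    exact Module.Finite.equiv e3
  have h3 := finite_HH_of_hom ψ.hom V.ι (Coh.structureModule (V : Scheme.{u})) i h2
  have h4 : Module.Finite C (Coh.HH (V : Scheme.{u}) (Coh.structureModule (V : Scheme.{u})) i) := h3
  exact Module.Finite.equiv (Groth.Agent.Fga.EulerIso.HHequiv C e2.symm i)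

end K177.RpushLoc
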