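import Groth.Agent.LefX.K177.LocHyp
import Groth.Agent.LefX.K177.PowApprox

/-!
# The direct image of the structure sheaf and of its reductions over an affine open

For `X` proper over `Spec A`, `U ⊆ X` open with `Hyp A X U`, `W` affine: the kernel of
`Γ(W, g_* O) → Γ(W, g_* O_(k+N))` is contained in `J^(k+1) Γ(W, g_* O)`, and the sections of `g_* O_n` which lift to
`g_* O_k`, `k` large, lift to `g_* O`; here `g : U → X`, `O_n = O/J^(n+1) O`.
-/

set_option autoImplicit false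
set_option linter.unusedSectionVars false
set_option linter.style.haveILetI false
universe u

open CategoryTheory CategoryTheory.Limits AlgebraicGeometry Opposite TopologicalSpace TensorProduct

namespace K177.SecO

open Groth.Agent Groth.Agent.FormalB Groth.Agent.FormalB.ModPow Groth.Agent.FormalB.ModPowAff
  Groth.Agent.FormalB.FormalLoc Groth.Agent.FormalB.HMod Groth.Agent.FormalB.PuncTheta
  K177.ExtCrit K177.ExtAlg K177.SecV K177.GrSheaf K177.GrDepth K177.GrLocal K177.PowApprox K177.LocHyp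
  K573.BaseRing

section Sq

variable {A : Type u} [CommRing A] {X : Scheme.{u}} [X.Over (Spec (CommRingCat.of A))] {U W : X.Opens}
  (hW : IsAffineOpen W) [IsNoetherianRing Γ(X, W)] {𝔠 : Ideal Γ(X, W)}
  {j : (↑(LocCoh.puncturedOpen Γ(X, W) 𝔠) : Scheme.{u}) ⟶ (U : Scheme.{u})} [IsOpenImmersion j]
  (sq : IsPullback (LocCoh.puncturedOpen Γ(X, W) 𝔠).ι j hW.fromSpec U.ι)

/-- `T^0(M)` as sections over `W` -/
noncomputable def EM {M : Type u} [AddCommGroup M] [Module Γ(X, W) M] {F : (U : Scheme.{u}).Modules}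
    (α : (Theta (A := Γ(X, W)) (LocCoh.puncturedOpen Γ(X, W) 𝔠)).obj (ModuleCat.of Γ(X, W) M) ≅
      (Scheme.Modules.restrictFunctor j).obj F) :
    ((punc 𝔠).T.T 0).obj (ModuleCat.of Γ(X, W) M) ≃ₗ[Γ(X, W)]
      Γ((Scheme.Modules.pushforward U.ι).obj F, W) :=
  GamZero.zeroLin (A := Γ(X, W)) (LocCoh.puncturedOpen Γ(X, W) 𝔠) _ ≪≫ₗ
    ((Gam (A := Γ(X, W)) (LocCoh.puncturedOpen Γ(X, W) 𝔠)).mapIso α).toLinearEquiv ≪≫ₗ secLin hW sq F

theorem EM_nat {M N : Type u} [AddCommGroup M] [Module Γ(X, W) M] [AddCommGroup N] [Module Γ(X, W) N]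
    {F F' : (U : Scheme.{u}).Modules}
    (α : (Theta (A := Γ(X, W)) (LocCoh.puncturedOpen Γ(X, W) 𝔠)).obj (ModuleCat.of Γ(X, W) M) ≅
      (Scheme.Modules.restrictFunctor j).obj F)
    (β : (Theta (A := Γ(X, W)) (LocCoh.puncturedOpen Γ(X, W) 𝔠)).obj (ModuleCat.of Γ(X, W) N) ≅
      (Scheme.Modules.restrictFunctor j).obj F') (f : M →ₗ[Γ(X, W)] N) (φ : F ⟶ F')
    (h : (Theta (A := Γ(X, W)) (LocCoh.puncturedOpen Γ(X, W) 𝔠)).map (ModuleCat.ofHom f) ≫ β.hom =
      α.hom ≫ (Scheme.Modules.restrictFunctor j).map φ)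
    (x : ((punc 𝔠).T.T 0).obj (ModuleCat.of Γ(X, W) M)) :
    EM hW sq β (tm (punc 𝔠).T 0 f x) =
      ((Scheme.Modules.pushforward U.ι).map φ).app W (EM hW sq α x) := by
  have h1 := GamZero.zeroLin_map (A := Γ(X, W)) (LocCoh.puncturedOpen Γ(X, W) 𝔠)
    ((Theta (A := Γ(X, W)) (LocCoh.puncturedOpen Γ(X, W) 𝔠)).map (ModuleCat.ofHom f)) x
  have h2 := congrArg (fun t => ((Gam (A := Γ(X, W)) (LocCoh.puncturedOpen Γ(X, W) 𝔠)).map t).hom
    (GamZero.zeroLin (A := Γ(X, W)) (LocCoh.puncturedOpen Γ(X, W) 𝔠) _ x)) h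
  simp only [Functor.map_comp] at h2
  have h3 := secLin_naturality hW sq φ (((Gam (A := Γ(X, W)) (LocCoh.puncturedOpen Γ(X, W) 𝔠)).map α.hom).hom
    (GamZero.zeroLin (A := Γ(X, W)) (LocCoh.puncturedOpen Γ(X, W) 𝔠) _ x))
  refine Eq.trans (congrArg (fun t => secLin hW sq F'
    (((Gam (A := Γ(X, W)) (LocCoh.puncturedOpen Γ(X, W) 𝔠)).map β.hom).hom t)) h1) ?_
  exact (congrArg (secLin hW sq F') h2).trans h3

variable (j) in
/-- the structure sheaf -/
theorem nonempty_c0 : Nonempty ((Theta (A := Γ(X, W)) (LocCoh.puncturedOpen Γ(X, W) 𝔠)).obj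
      (ModuleCat.of Γ(X, W) Γ(X, W)) ≅
    (Scheme.Modules.restrictFunctor j).obj (Coh.structureModule (U : Scheme.{u}))) := by
  obtain ⟨e⟩ := RpushLoc.nonempty_theta (C := Γ(X, W)) (LocCoh.puncturedOpen Γ(X, W) 𝔠)
  exact ⟨e ≪≫ (Scheme.Modules.restrictUnitIso j).symm⟩

include sq in
theorem compat_V : letI : Algebra A Γ(X, W) := (toΓ A X W).toAlgebra
    letI : (↑(LocCoh.puncturedOpen Γ(X, W) 𝔠) : Scheme.{u}).Over (Spec (CommRingCat.of A)) :=
      ⟨j ≫ ((U : Scheme.{u}) ↘ Spec (CommRingCat.of A))⟩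
    Compat A Γ(X, W) (↑(LocCoh.puncturedOpen Γ(X, W) 𝔠) : Scheme.{u}) := by
  change (LocCoh.puncturedOpen Γ(X, W) 𝔠).ι ≫ Spec.map (CommRingCat.ofHom (toΓ A X W)) =
      j ≫ U.ι ≫ (X ↘ Spec (CommRingCat.of A))
  rw [← PpPull.fromSpec_comp hW, ← Category.assoc, ← Category.assoc]
  exact congrArg (fun t => t ≫ (X ↘ Spec (CommRingCat.of A))) sq.w

include sq in
theorem isModPow_restrict {F F' : (U : Scheme.{u}).Modules} {J : Ideal A} {p : F ⟶ F'}
    (hp : IsModPow J p) :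
    IsModPow (A := Γ(X, W)) (J.map (toΓ A X W)) ((Scheme.Modules.restrictFunctor j).map p) := by
  let _ : Algebra A Γ(X, W) := (toΓ A X W).toAlgebra
  let _ : (↑(LocCoh.puncturedOpen Γ(X, W) 𝔠) : Scheme.{u}).Over (Spec (CommRingCat.of A)) :=
      ⟨j ≫ ((U : Scheme.{u}) ↘ Spec (CommRingCat.of A))⟩
  exact (isModPow_iff_map (compat_V hW sq) _ J).1 (K573.Base.restrict_isModPow j rfl hp)

include hW sq in
/-- the comparison -/
theorem exists_equivs (J : Ideal A) : ∃ (E0 : ((punc 𝔠).T.T 0).obj (ModuleCat.of Γ(X, W) Γ(X, W)) ≃ₗ[Γ(X, W)]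
      Γ((Scheme.Modules.pushforward U.ι).obj (Coh.structureModule (U : Scheme.{u})), W))
    (En : ∀ n, ((punc 𝔠).T.T 0).obj
        (ModuleCat.of Γ(X, W) (Γ(X, W) ⧸ (J.map (toΓ A X W)) ^ (n + 1))) ≃ₗ[Γ(X, W)]
      Γ((EE U (Formal.completion J (Coh.structureModule (U : Scheme.{u})))).obj (op n), W)),
    (∀ n x, En n (tm (punc 𝔠).T 0 (quo (n + 1)) x) =
      ((Scheme.Modules.pushforward U.ι).map (cπ J (Coh.structureModule (U : Scheme.{u})) n)).app W (E0 x)) ∧
    (∀ n m (h : n ≤ m) t, En n (tm (punc 𝔠).T 0 (fac (Nat.succ_le_succ h)) t) =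
      ((EE U (Formal.completion J (Coh.structureModule (U : Scheme.{u})))).map (homOfLE h).op).app W
        (En m t)) := by
  let O := Coh.structureModule (U : Scheme.{u})
  let G := Formal.completion J O
  let ρ := Scheme.Modules.restrictFunctor j
  let Th := Theta (A := Γ(X, W)) (LocCoh.puncturedOpen Γ(X, W) 𝔠)
  obtain ⟨c0⟩ := nonempty_c0 j (𝔠 := 𝔠)
  have hp : ∀ n, IsModPow (A := Γ(X, W)) ((J.map (toΓ A X W)) ^ (n + 1)) (c0.hom ≫ ρ.map (cπ J O n)) := by
    intro n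
    have h1 := isModPow_restrict hW sq (isModPow_cπ J O n)
    rw [Ideal.map_pow] at h1
    exact h1.iso_comp c0.hom
  have ht : ∀ n, IsModPow (A := Γ(X, W)) ((J.map (toΓ A X W)) ^ (n + 1))
      (Th.map (ModuleCat.ofHom (quo (I := J.map (toΓ A X W)) (n + 1)))) := by
    intro n
    refine isModPow_thetaMap (A := Γ(X, W)) (LocCoh.puncturedOpen Γ(X, W) 𝔠) _ _
      (Submodule.mkQ_surjective _) ?_
    rw [smul_eq_mul, Ideal.mul_top]
    exact Submodule.ker_mkQ _
  choose e he he' using fun n => (ht n).exists_iso (hp n)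
  refine ⟨EM hW sq c0, fun n => EM hW sq (e n), fun n x => EM_nat hW sq _ _ _ _ (he n) x,
    fun n m h t => EM_nat hW sq _ _ _ _ ?_ t⟩
  have h1 := (ht m).epi
  rw [← cancel_epi (Th.map (ModuleCat.ofHom (quo (I := J.map (toΓ A X W)) (m + 1)))), ← Category.assoc,
    ← Functor.map_comp, reassoc_of% (he m), ← Functor.map_comp, cπ_map J O h, ← he n]
  rfl

end Sq

section Loc

variable {A : Type u} [CommRing A] [IsNoetherianRing A] {X : Scheme.{u}} [X.Over (Spec (CommRingCat.of A))]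
  {U : X.Opens} [LocallyOfFiniteType (X ↘ Spec (CommRingCat.of A))] (hyp : Hyp A X U)
  (R : Type u) [CommRing R] [IsRegularRing R] (π : R →+* A) (hπ : Function.Surjective π) (J : Ideal A)

variable (U) in
/-- the maps `g_* O → g_* O_n` -/
noncomputable def qn (n : ℕ) : (Scheme.Modules.pushforward U.ι).obj (Coh.structureModule (U : Scheme.{u})) ⟶
    (EE U (Formal.completion J (Coh.structureModule (U : Scheme.{u})))).obj (op n) :=
  (Scheme.Modules.pushforward U.ι).map (cπ J (Coh.structureModule (U : Scheme.{u})) n)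

variable (U) in
theorem qn_map {n m : ℕ} (h : n ≤ m) : qn U J m ≫
    (EE U (Formal.completion J (Coh.structureModule (U : Scheme.{u})))).map (homOfLE h).op = qn U J n := by
  change (Scheme.Modules.pushforward U.ι).map _ ≫ (Scheme.Modules.pushforward U.ι).map _ = _
  rw [← Functor.map_comp, cπ_map]
  rfl

include hyp hπ in
/-- The conclusions over an affine open. -/
theorem local_O {W : X.Opens} (hW : IsAffineOpen W) :
    (∃ N : ℕ, ∀ k, ∀ s, (qn U J (k + N)).app W s = 0 → s ∈ (J.map (toΓ A X W)) ^ (k + 1) •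
      (⊤ : Submodule Γ(X, W)
        Γ((Scheme.Modules.pushforward U.ι).obj (Coh.structureModule (U : Scheme.{u})), W))) ∧
    ∀ n, ∃ (k : ℕ) (h : n ≤ k), ∀ t, ∃ s, (qn U J n).app W s =
      ((EE U (Formal.completion J (Coh.structureModule (U : Scheme.{u})))).map (homOfLE h).op).app W t := by
  letI iA : Algebra A Γ(X, W) := (toΓ A X W).toAlgebra
  have hft : Algebra.FiniteType A Γ(X, W) := finiteType_Γ hW
  have hBn : IsNoetherianRing Γ(X, W) := Algebra.FiniteType.isNoetherianRing A Γ(X, W)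
  obtain ⟨𝔠, h𝔠, hflat, hD⟩ := hyp W hW
  obtain ⟨j, hj, sq⟩ := exists_square hW 𝔠 h𝔠
  obtain ⟨R₁, _, _, π₁, hπ₁⟩ := exists_regular (B := Γ(X, W)) R π hπ
  obtain ⟨r, a, ha⟩ := exists_gens J
  have hgr := finiteType_rees (J := J)
  obtain ⟨-, g0⟩ := GrLocal.pow (J := J) hflat a ha R₁ π₁ hπ₁ (hD (reesAlgebra J)) 0 (by omega)
  obtain ⟨f1, g1⟩ := GrLocal.pow (J := J) hflat a ha R₁ π₁ hπ₁ (hD (reesAlgebra J)) 1 (by omega)
  obtain ⟨E0, En, hE1, hE2⟩ := exists_equivs hW sq J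
  constructor
  · obtain ⟨N, hN⟩ := ker_le (punc 𝔠).T (punc 𝔠).lin (K177.GrFlat.aB Γ(X, W) a) g0
    refine ⟨N, fun k s hs => ?_⟩
    have h1 := hN (k + 1) (E0.symm s) ?_
    · have h2 := Submodule.mem_map_of_mem (f := E0.toLinearMap) h1
      rw [Submodule.map_smul''] at h2
      have h3 : E0.toLinearMap (E0.symm s) = s := E0.apply_symm_apply s
      rw [h3] at h2
      exact Submodule.smul_mono le_rfl le_top h2
    · have e : k + 1 + N = k + N + 1 := by omega
      rw [e]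
      apply (En (k + N)).injective
      rw [map_zero]
      refine (hE1 (k + N) (E0.symm s)).trans ?_
      rw [E0.apply_symm_apply]
      exact hs
  · intro n
    obtain ⟨k, hk, h⟩ := exists_lift (punc 𝔠).T (punc 𝔠).lin (K177.GrFlat.aB Γ(X, W) a) f1 g1 (n + 1)
    obtain ⟨k, rfl⟩ : ∃ k', k = k' + 1 := ⟨k - 1, by omega⟩
    refine ⟨k, by omega, fun t => ?_⟩
    obtain ⟨s, hs⟩ := h ((En k).symm t)
    refine ⟨E0 s, ?_⟩
    refine (hE1 n s).symm.trans ?_
    refine (congrArg (En n) hs).trans ?_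
    refine (hE2 n k (by omega) ((En k).symm t)).trans ?_
    rw [LinearEquiv.apply_symm_apply]

include hyp hπ in
/-- Finiteness of the sections of the direct image. -/
theorem finite_O {W : X.Opens} (hW : IsAffineOpen W) : Module.Finite Γ(X, W)
    Γ((Scheme.Modules.pushforward U.ι).obj (Coh.structureModule (U : Scheme.{u})), W) := by
  letI iA : Algebra A Γ(X, W) := (toΓ A X W).toAlgebra
  have hft : Algebra.FiniteType A Γ(X, W) := finiteType_Γ hW
  have hBn : IsNoetherianRing Γ(X, W) := Algebra.FiniteType.isNoetherianRing A Γ(X, W)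
  obtain ⟨𝔠, h𝔠, hflat, hD⟩ := hyp W hW
  obtain ⟨j, hj, sq⟩ := exists_square hW 𝔠 h𝔠
  obtain ⟨R₁, _, _, π₁, hπ₁⟩ := exists_regular (B := Γ(X, W)) R π hπ
  obtain ⟨r, a, ha⟩ := exists_gens (⊤ : Ideal A)
  have hgr := finiteType_rees (J := (⊤ : Ideal A))
  obtain ⟨f0, -⟩ := GrLocal.pow (J := (⊤ : Ideal A)) hflat a ha R₁ π₁ hπ₁
    (hD (reesAlgebra (⊤ : Ideal A))) 0 (by omega)
  obtain ⟨E0, -⟩ := exists_equivs hW sq (⊤ : Ideal A)
  have h1 := f0 0
  let I : Ideal Γ(X, W) := (⊤ : Ideal A).map (algebraMap A Γ(X, W))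
  let s : Γ(X, W) →ₗ[Γ(X, W)] ↥(I ^ 0) :=
    LinearMap.codRestrict (I ^ 0) LinearMap.id fun x => by simp
  have h2 : (sub (I := I) 0).comp s = LinearMap.id := LinearMap.ext fun _ => rfl
  have h3 : Function.Surjective (tm (punc 𝔠).T 0 (sub (I := I) 0)) := fun x => by
    refine ⟨tm (punc 𝔠).T 0 s x, ?_⟩
    rw [← tm_comp, h2]
    exact congrArg (fun φ => φ.hom x) (((punc 𝔠).T.T 0).map_id (ModuleCat.of Γ(X, W) Γ(X, W)))
  have h4 : Module.Finite Γ(X, W) (((punc 𝔠).T.T 0).obj (ModuleCat.of Γ(X, W) Γ(X, W))) :=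
    Module.Finite.of_surjective (tm (punc 𝔠).T 0 (sub (I := I) 0)) h3
  exact Module.Finite.equiv E0

end Loc

end K177.SecO
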