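import Groth.Agent.FormalB.DeltaComp
import Mathlib.CategoryTheory.Linear.LinearFunctor

/-!
# Cohomology of `S`-modules through `A`-modules

`S` an `A`-algebra.  An additive functor `F` from an `S`-linear category to `A`-modules lifts to `S`-modules
(`up`), and a delta functor on `A`-modules gives a delta functor on `S`-modules (`upDelta`).
-/

set_option autoImplicit false
universe u v w

open CategoryTheory CategoryTheory.Limits
open Groth.Agent.Localalg.DeltaFun

namespace K177.UpDelta

section Up

variable {A S : Type u} [CommRing A] [CommRing S]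
  {C : Type v} [Category.{w} C] [Preadditive C] [Linear S C]

/-- the underlying type of the lifted object -/
@[nolint unusedArguments]
def Up (_ : Type u) (F : C ⥤ ModuleCat.{u} A) (c : C) : Type u := F.obj c

noncomputable instance (F : C ⥤ ModuleCat.{u} A) (c : C) : AddCommGroup (Up S F c) :=
  inferInstanceAs (AddCommGroup (F.obj c))

noncomputable instance (F : C ⥤ ModuleCat.{u} A) [F.Additive] (c : C) : Module S (Up S F c) where
  smul s x := (F.map (s • 𝟙 c)).hom x
  one_smul x := by
    have h : F.map ((1 : S) • 𝟙 c) = 𝟙 _ := by rw [one_smul, F.map_id]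
    exact congrArg (fun t => t.hom x) h
  mul_smul s t x := by
    have h : F.map ((s * t) • 𝟙 c) = F.map (t • 𝟙 c) ≫ F.map (s • 𝟙 c) := by
      rw [← F.map_comp, Linear.smul_comp, Linear.comp_smul, Category.comp_id, smul_smul, mul_comm]
    exact congrArg (fun t => t.hom x) h
  smul_zero s := map_zero (F.map (s • 𝟙 c)).hom
  smul_add s x y := map_add (F.map (s • 𝟙 c)).hom x y
  add_smul s t x := by
    have h : F.map ((s + t) • 𝟙 c) = F.map (s • 𝟙 c) + F.map (t • 𝟙 c) := by
      rw [add_smul, F.map_add]
    exact congrArg (fun t => t.hom x) h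
  zero_smul x := by
    have h : F.map ((0 : S) • 𝟙 c) = 0 := by rw [zero_smul, F.map_zero]
    exact congrArg (fun t => t.hom x) h

theorem smul_def (F : C ⥤ ModuleCat.{u} A) [F.Additive] {c : C} (s : S) (x : Up S F c) :
    s • x = (F.map (s • 𝟙 c)).hom x := rfl

variable (S) in
/-- The lifted functor. -/
noncomputable def up (F : C ⥤ ModuleCat.{u} A) [F.Additive] : C ⥤ ModuleCat.{u} S where
  obj c := ModuleCat.of S (Up S F c)
  map {c d} f := ModuleCat.ofHom
    { toFun := fun x => (F.map f).hom x
      map_add' := fun x y => map_add (F.map f).hom x y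
      map_smul' := fun s x => by
        have h : F.map (s • 𝟙 c) ≫ F.map f = F.map f ≫ F.map (s • 𝟙 d) := by
          rw [← F.map_comp, ← F.map_comp, Linear.smul_comp, Linear.comp_smul,
            Category.comp_id, Category.id_comp]
        exact congrArg (fun t => t.hom x) h }
  map_id c := by
    ext x
    exact congrArg (fun t => t.hom x) (F.map_id c)
  map_comp f g := by
    ext x
    exact congrArg (fun t => t.hom x) (F.map_comp f g)

theorem up_map_apply (F : C ⥤ ModuleCat.{u} A) [F.Additive] {c d : C} (f : c ⟶ d) (x : F.obj c) :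
    ((up S F).map f).hom x = (F.map f).hom x := rfl

instance (F : C ⥤ ModuleCat.{u} A) [F.Additive] : (up S F).Additive where
  map_add {c d f g} := by
    ext x
    exact congrArg (fun t => t.hom x) (F.map_add (f := f) (g := g))

end Up

section Delta

variable {A S : Type u} [CommRing A] [CommRing S]
  {C : Type v} [Category.{w} C] [Abelian C] [Linear S C]

theorem exact_up {F G H : C ⥤ ModuleCat.{u} A} [F.Additive] [G.Additive] [H.Additive] {a b c : C}
    {f : F.obj a ⟶ G.obj b} {g : G.obj b ⟶ H.obj c} {f' : (up S F).obj a ⟶ (up S G).obj b}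
    {g' : (up S G).obj b ⟶ (up S H).obj c} (hf : ∀ x, f'.hom x = f.hom x) (hg : ∀ x, g'.hom x = g.hom x)
    (w : f ≫ g = 0) (w' : f' ≫ g' = 0) (h : (ShortComplex.mk f g w).Exact) :
    (ShortComplex.mk f' g' w').Exact := by
  rw [ShortComplex.moduleCat_exact_iff] at h ⊢
  intro x hx
  obtain ⟨y, hy⟩ := h x ((hg x).symm.trans hx)
  exact ⟨y, (hf y).trans hy⟩

/-- the endomorphism of a short complex given by a scalar -/
noncomputable def smulHom (s : S) (Z : ShortComplex C) : Z ⟶ Z where
  τ₁ := s • 𝟙 _
  τ₂ := s • 𝟙 _
  τ₃ := s • 𝟙 _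
  comm₁₂ := by rw [Linear.smul_comp, Linear.comp_smul, Category.comp_id, Category.id_comp]
  comm₂₃ := by rw [Linear.smul_comp, Linear.comp_smul, Category.comp_id, Category.id_comp]

variable (S) in
/-- The lifted delta functor. -/
noncomputable def upDelta (T : DeltaFunctor C (ModuleCat.{u} A)) : DeltaFunctor C (ModuleCat.{u} S) where
  T n := up S (T.T n)
  additive n := inferInstance
  δ {Z} hZ n := ModuleCat.ofHom
    { toFun := fun x => (T.δ hZ n).hom x
      map_add' := fun x y => map_add (T.δ hZ n).hom x y
      map_smul' := fun s x => by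
        have h := T.naturality hZ hZ (smulHom s Z) n
        exact congrArg (fun t => t.hom x) h }
  naturality {Z Z'} hZ hZ' φ n := by
    ext x
    exact congrArg (fun t => t.hom x) (T.naturality hZ hZ' φ n)
  zero₃ hZ n := by
    ext x
    exact congrArg (fun t => t.hom x) (T.zero₃ hZ n)
  zero₁ hZ n := by
    ext x
    exact congrArg (fun t => t.hom x) (T.zero₁ hZ n)
  exact₂ {Z} hZ n := exact_up (fun _ => rfl) (fun _ => rfl) _ _ (T.exact₂ hZ n)
  exact₃ {Z} hZ n := exact_up (fun _ => rfl) (fun _ => rfl) _ _ (T.exact₃ hZ n)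
  exact₁ {Z} hZ n := exact_up (fun _ => rfl) (fun _ => rfl) _ _ (T.exact₁ hZ n)

end Delta

end K177.UpDelta
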